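import Cfsg.Agent.Lib.CharCore.Basic
import Cfsg.Agent.Lib.CharInd.Basic

set_option autoImplicit false

/-!
Induction from normal subgroups and conjugate characters.
-/

namespace Cfsg.Agent.OddChar

open Cfsg
open scoped ComplexConjugate

variable {G : Type*} [Group G] (H : Subgroup G) [hN : H.Normal]

/-- The conjugate `h ↦ θ (g * h * g⁻¹)`. -/
def conjBy (g : G) (θ : H → ℂ) : H → ℂ := fun h => θ ⟨g * h * g⁻¹, hN.conj_mem h h.2 g⟩

theorem conjBy_one (θ : H → ℂ) : conjBy H 1 θ = θ := by
  funext h; exact congrArg θ (Subtype.ext (by simp))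

theorem conjBy_mul (a b : G) (θ : H → ℂ) : conjBy H (a * b) θ = conjBy H b (conjBy H a θ) := by
  funext h; exact congrArg θ (Subtype.ext (by simp [mul_assoc]))

theorem conjBy_isIrr [Finite G] (g : G) {θ : H → ℂ} (hθ : IsIrrCharacter H θ) :
    IsIrrCharacter H (conjBy H g θ) :=
  CharCore.isIrrCharacter_comp_surjective hθ (MulAut.conjNormal g : MulAut H).toMonoidHom
    (MulAut.conjNormal g : MulAut H).surjective

variable [Fintype G]

theorem indFun_coe (θ : H → ℂ) (h : H) :
    indFun H θ (h : G) = (Nat.card H : ℂ)⁻¹ * ∑ g : G, conjBy H g θ h := by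
  rw [CharInd.indFun_apply, ← Equiv.sum_comp (Equiv.inv G)]
  refine congrArg _ (Finset.sum_congr rfl fun g _ => ?_)
  simp only [Equiv.inv_apply, inv_inv]
  exact CharInd.extendByZero_mem θ (hN.conj_mem h h.2 g)

theorem indFun_eq_zero_of_notMem (θ : H → ℂ) {x : G} (hx : x ∉ H) : indFun H θ x = 0 :=
  CharInd.indFun_eq_zero_of_forall_notMem H θ fun y hy => hx (by
    simpa [mul_assoc] using hN.conj_mem _ hy y)

theorem indFun_conjBy (g : G) (θ : H → ℂ) : indFun H (conjBy H g θ) = indFun H θ := by
  funext x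
  by_cases hx : x ∈ H
  · lift x to H using hx
    rw [indFun_coe, indFun_coe, ← Equiv.sum_comp (Equiv.mulLeft g) fun y => conjBy H y θ x]
    simp [conjBy_mul]
  · rw [indFun_eq_zero_of_notMem H _ hx, indFun_eq_zero_of_notMem H _ hx]

theorem classInner_indFun_normal [Fintype H] (φ θ : H → ℂ) :
    classInner (indFun H φ) (indFun H θ) =
      (Nat.card H : ℂ)⁻¹ * ∑ g : G, classInner φ (conjBy H g θ) := by
  rw [CharInd.classInner_indFun_left H φ (CharInd.isClassFunction_indFun H θ),
    show (fun h : H => indFun H θ h) = (Nat.card H : ℂ)⁻¹ • ∑ g : G, conjBy H g θ by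
      funext h; simp [indFun_coe],
    CharCore.classInner_smul_right, CharCore.classInner_sum_right]
  simp

end Cfsg.Agent.OddChar
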