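import Mathlib.GroupTheory.OrderOfElement
import Mathlib.Data.Nat.ChineseRemainder
import Mathlib.GroupTheory.Subgroup.Centralizer
import Mathlib.Algebra.Group.Subgroup.Finite
import Mathlib.GroupTheory.Index
import Mathlib.Tactic.Group

set_option autoImplicit false

/-!
Coprime-power tricks used in the odd order character files.
-/

namespace Cfsg.Agent.OddChar

/-- A single exponent killing the `m`-part and fixing the `n`-part. -/
theorem exists_pow_kill_fix {n m : ℕ} (h : Nat.Coprime n m) :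
    ∃ k : ℕ, ∀ {G : Type*} [Group G] (a u : G), a * u = u * a → a ^ n = 1 → u ^ m = 1 →
      (a * u) ^ k = a := by
  obtain ⟨k, hk1, hk0⟩ := Nat.chineseRemainder h 1 0
  refine ⟨k, fun {G} _ a u hc ha hu => ?_⟩
  rw [(show Commute a u from hc).mul_pow]
  have h1 : a ^ k = a ^ 1 := pow_eq_pow_iff_modEq.mpr (hk1.of_dvd (orderOf_dvd_of_pow_eq_one ha))
  have h0 : u ^ k = u ^ 0 := pow_eq_pow_iff_modEq.mpr (hk0.of_dvd (orderOf_dvd_of_pow_eq_one hu))
  rw [h1, h0, pow_one, pow_zero, mul_one]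

/-- Conjugation preserves the coprime decomposition: if `g` conjugates `a * u` to `b * v`,
it conjugates `a` to `b`. -/
theorem conj_eq_of_coprime {G : Type*} [Group G] {a u b v g : G} {n m : ℕ}
    (h : Nat.Coprime n m) (hau : a * u = u * a) (hbv : b * v = v * b)
    (ha : a ^ n = 1) (hu : u ^ m = 1) (hb : b ^ n = 1) (hv : v ^ m = 1)
    (hg : g * (a * u) * g⁻¹ = b * v) : g * a * g⁻¹ = b := by
  obtain ⟨k, hk⟩ := exists_pow_kill_fix h
  calc g * a * g⁻¹ = g * (a * u) ^ k * g⁻¹ := by rw [hk a u hau ha hu]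
    _ = (g * (a * u) * g⁻¹) ^ k := conj_pow.symm
    _ = b := by rw [hg, hk b v hbv hb hv]

theorem pow_card_eq_one_of_mem {G : Type*} [Group G] (H : Subgroup G) {x : G} (hx : x ∈ H) :
    x ^ Nat.card H = 1 := by
  exact congrArg Subtype.val (pow_card_eq_one' (x := (⟨x, hx⟩ : H)))

end Cfsg.Agent.OddChar
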