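import Cfsg.Agent.OddChar.PrimeTI
import Cfsg.Agent.S1512

set_option autoImplicit false

/-!
The irreducible characters of the kernel `K` in Peterfalvi's hypothesis (4.2).
-/

namespace Cfsg.Agent.OddChar.PrimeTI

open Cfsg CycTI
open scoped ComplexConjugate

variable {L : Type*} [Group L] [Fintype L] {K W₁ W₂ : Subgroup L} [K.Normal]
variable {h : Hyp K W₁ W₂} {χ : (↥(W₁ ⊔ W₂) →* ℂˣ) → (L → ℂ)}

theorem conjBy_self {θ : K → ℂ} (hθ : IsClassFunction K θ) (k : K) :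
    conjBy K (k : L) θ = θ := by
  funext n
  exact (congrArg θ (Subtype.ext rfl)).trans (hθ n k)

theorem Hyp.conjBy_factor (_h : Hyp K W₁ W₂) {θ : K → ℂ} (hθ : IsClassFunction K θ) {k : L}
    (hk : k ∈ K) (a : L) : conjBy K (k * a) θ = conjBy K a θ := by
  rw [conjBy_mul, conjBy_self hθ ⟨k, hk⟩]

theorem Hyp.inv_of_fixed (h : Hyp K W₁ W₂) {θ : K → ℂ} (hθ : IsClassFunction K θ)
    (hfix : ∀ x ∈ W₁, conjBy K x θ = θ) : CharDeep.Ext.Inv K θ := by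
  intro g n
  obtain ⟨k, hk, a, ha, rfl⟩ := h.exists_factor g
  have := congrFun ((h.conjBy_factor hθ hk a).trans (hfix a ha)) n
  exact this

theorem Hyp.comm_mem (h : Hyp K W₁ W₂) (x y : L) : x * y * x⁻¹ * y⁻¹ ∈ K := by
  rw [← h.proj_eq_one_iff]
  haveI := h.cyc₁
  have hc := (IsCyclic.isMulCommutative (α := ↥W₁)).is_comm.comm (h.proj x) (h.proj y)
  simp [map_mul, map_inv, hc]

theorem Hyp.ind_fixed (h : Hyp K W₁ W₂) [Fintype K] {θ : K → ℂ} (hθ : IsIrrCharacter K θ)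
    (hfix : ∀ x ∈ W₁, conjBy K x θ = θ) :
    ∃ C : Finset (IrrCharacter L), C.card = Nat.card W₁ ∧ indFun K θ = ∑ ψ ∈ C, (ψ : L → ℂ) ∧
      ∀ ψ ∈ C, (fun k : K => (ψ : L → ℂ) k) = θ := by
  obtain ⟨C, h1, h2, h3⟩ := ind_invariant_abelian_coprime K h.comm_mem hθ
    (h.inv_of_fixed (CharCore.irr_isClassFunction ⟨θ, hθ⟩) hfix)
    (by rw [h.index_K]; exact h.coprime.symm)
  exact ⟨C, h1.trans h.index_K, h2, fun ψ hψ => (h3 ψ hψ).1⟩

theorem Hyp.one_lt_card₁ (h : Hyp K W₁ W₂) : 1 < Nat.card W₁ :=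
  (Subgroup.one_lt_card_iff_ne_bot W₁).mpr h.ne₁

theorem Fam.restrict_twist (F : Fam h χ) {φ : ↥(W₁ ⊔ W₂) →* ℂˣ} (hφ : φ ∈ D1 W₁ W₂)
    (ψ : ↥(W₁ ⊔ W₂) →* ℂˣ) :
    (fun k : K => (sgn χ (φ * ψ) • χ (φ * ψ)) k) = fun k : K => (sgn χ ψ • χ ψ) k := by
  funext k
  rw [F.sgn_eq hφ, F.twist φ hφ]
  simp [h.infl_K φ k.2]

theorem Fam.exists_restrict (F : Fam h χ) [Fintype K] {θ : K → ℂ} (hθ : IsIrrCharacter K θ)
    (hfix : ∀ x ∈ W₁, conjBy K x θ = θ) :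
    ∃ ψ ∈ D2 W₁ W₂, (fun k : K => (sgn χ ψ • χ ψ) k) = θ := by
  classical
  obtain ⟨C, hcard, hind, hC⟩ := h.ind_fixed hθ hfix
  have hne : C.Nonempty := Finset.card_pos.mp (hcard ▸ Nat.card_pos)
  obtain ⟨ξ, hξ⟩ := hne
  by_cases hex : ∃ ω, (ξ : L → ℂ) = sgn χ ω • χ ω
  · obtain ⟨ω, hω⟩ := hex
    obtain ⟨φ, hφ, ψ, hψ, rfl⟩ := CycTI.exists_factor W₁ W₂ h.split.disj h.split.comm ω
    refine ⟨ψ, hψ, ?_⟩
    rw [← F.restrict_twist hφ ψ, ← hω, hC ξ hξ]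
  · exfalso
    have hcl := CharCore.irr_isClassFunction ξ
    have hoff : ∀ g ∉ K, (ξ : L → ℂ) g = 0 := by
      intro g hg
      obtain ⟨x, w, hw, rfl⟩ := h.exists_conj hg
      have := hcl (w : L) x⁻¹
      rw [inv_inv] at this
      rw [this]
      exact F.vanish hcl (F.orth_of_ne ξ.2 (not_exists.mp hex)) w hw
    have e : indFun K θ = (Nat.card W₁ : ℂ) • (ξ : L → ℂ) := by
      funext g
      by_cases hg : g ∈ K
      · have := CharDeep.Ext.indFun_coe (φ := θ) K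
          (h.inv_of_fixed (CharCore.irr_isClassFunction ⟨θ, hθ⟩) hfix) ⟨g, hg⟩
        rw [this, h.index_K, Pi.smul_apply, smul_eq_mul, ← hC ξ hξ]
      · rw [indFun_eq_zero_of_notMem K θ hg, Pi.smul_apply, hoff g hg, smul_zero]
    have e1 : classInner (indFun K θ) (ξ : L → ℂ) = 1 := by
      rw [CharInd.classInner_indFun_left K θ hcl, hC ξ hξ]
      exact CharCore.classInner_irr_self ⟨θ, hθ⟩
    rw [e, CharCore.classInner_smul_left, CharCore.classInner_irr_self, mul_one] at e1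
    have := h.one_lt_card₁
    have : Nat.card W₁ = 1 := by exact_mod_cast e1
    omega

theorem Fam.fixed_restrict (F : Fam h χ) (ω : ↥(W₁ ⊔ W₂) →* ℂˣ) (x : L) :
    conjBy K x (fun k : K => (sgn χ ω • χ ω) k) = fun k : K => (sgn χ ω • χ ω) k := by
  funext k
  exact CharCore.irr_isClassFunction ⟨_, F.irr_sgn ω⟩ (k : L) x

theorem Fam.restrict_inj (F : Fam h χ) [Fintype K] {ψ ψ' : ↥(W₁ ⊔ W₂) →* ℂˣ}
    (hψ : ψ ∈ D2 W₁ W₂) (hψ' : ψ' ∈ D2 W₁ W₂)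
    (he : (fun k : K => (sgn χ ψ • χ ψ) k) = fun k : K => (sgn χ ψ' • χ ψ') k) : ψ = ψ' := by
  classical
  have := h.split.finite_dual
  haveI : Fintype (↥(W₁ ⊔ W₂) →* ℂˣ) := Fintype.ofFinite _
  have e1 : classInner (indFun K fun k : K => (sgn χ ψ • χ ψ) k) (sgn χ ψ' • χ ψ') = 1 := by
    rw [CharInd.classInner_indFun_left K _ (CharCore.irr_isClassFunction ⟨_, F.irr_sgn ψ'⟩), ← he]
    exact CharCore.classInner_irr_self ⟨_, F.restrict_irr ψ⟩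
  rw [F.ind_restrict, CharCore.classInner_sum_left] at e1
  obtain ⟨φ, -, hne⟩ := Finset.exists_ne_zero_of_sum_ne_zero (e1.trans_ne one_ne_zero)
  have e2 : φ.1 * ψ = ψ' := by
    by_contra hne'
    exact hne (CharCore.classInner_irr_of_ne (χ := ⟨_, F.irr_sgn (φ.1 * ψ)⟩)
      (ψ := ⟨_, F.irr_sgn ψ'⟩) fun q => hne' (F.signed_irr_injective (congrArg Subtype.val q)))
  refine eq_of_eq_on W₁ W₂ (fun w hw => by rw [hψ w hw, hψ' w hw]) fun w hw => ?_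
  rw [← e2, MonoidHom.mul_apply, φ.2 w hw, one_mul]

theorem Hyp.card_fixed (h : Hyp K W₁ W₂) :
    Nat.card {θ : IrrCharacter K // ∀ x ∈ W₁, conjBy K x (θ : K → ℂ) = θ} = Nat.card W₂ := by
  classical
  haveI : Fintype K := Fintype.ofFinite _
  obtain ⟨χ, F⟩ := h.exists_fam
  rw [← h.split.card_d2]
  refine (Nat.card_eq_of_bijective
    (fun ψ : ↥(D2 W₁ W₂) => (⟨⟨_, F.restrict_irr ψ.1⟩, fun x _ => F.fixed_restrict ψ.1 x⟩ :
      {θ : IrrCharacter K // ∀ x ∈ W₁, conjBy K x (θ : K → ℂ) = θ})) ⟨?_, ?_⟩).symm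
  · intro a b e
    exact Subtype.ext (F.restrict_inj a.2 b.2 (congrArg (fun t => (t.1 : K → ℂ)) e))
  · rintro ⟨θ, hθ⟩
    obtain ⟨ψ, hψ, e⟩ := F.exists_restrict θ.2 hθ
    exact ⟨⟨ψ, hψ⟩, Subtype.ext (Subtype.ext e)⟩

theorem Hyp.card_fixed_le (h : Hyp K W₁ W₂) {a : L} (ha : a ∈ W₁) (ha1 : a ≠ 1) :
    Nat.card {θ : IrrCharacter K // conjBy K a (θ : K → ℂ) = θ} ≤ Nat.card W₂ := by
  classical
  haveI : Fintype K := Fintype.ofFinite _
  have e := CharDeep.card_fixed_irr_eq (G := K)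
    (fun θ => (⟨conjBy K a (θ : K → ℂ), conjBy_isIrr K a θ.2⟩ : IrrCharacter K))
    (ConjClasses.map (MulEquiv.toMonoidHom (MulAut.conjNormal a : MulAut K)))
    (fun θ g g' hgg => by
      obtain ⟨c, hc⟩ := isConj_iff.mp (ConjClasses.mk_eq_mk_iff_isConj.mp hgg)
      rw [← hc]
      exact (CharCore.irr_isClassFunction θ _ c).symm)
  calc _ = Nat.card {θ : IrrCharacter K //
        (⟨conjBy K a (θ : K → ℂ), conjBy_isIrr K a θ.2⟩ : IrrCharacter K) = θ} :=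
        Nat.card_congr (Equiv.subtypeEquivRight fun θ =>
          ⟨fun q => Subtype.ext q, fun q => congrArg Subtype.val q⟩)
    _ = _ := e
    _ ≤ _ := S1512.result K W₂ a ha1
      (h.coprime.coprime_dvd_left (Subgroup.orderOf_dvd_natCard W₁ ha))
      fun y hy hy1 => h.cent y ((Subgroup.zpowers_le.mpr ha) hy) hy1

theorem Hyp.fixed_mem (h : Hyp K W₁ W₂) {θ : K → ℂ} (hθ : IsIrrCharacter K θ)
    (hne : ∃ x ∈ W₁, conjBy K x θ ≠ θ) {g : L} (hg : conjBy K g θ = θ) : g ∈ K := by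
  classical
  haveI : Fintype K := Fintype.ofFinite _
  obtain ⟨k, hk, a, ha, rfl⟩ := h.exists_factor g
  by_cases ha1 : a = 1
  · simpa [ha1] using hk
  exfalso
  rw [h.conjBy_factor (CharCore.irr_isClassFunction ⟨θ, hθ⟩) hk a] at hg
  let f : {θ : IrrCharacter K // ∀ x ∈ W₁, conjBy K x (θ : K → ℂ) = θ} →
      {θ : IrrCharacter K // conjBy K a (θ : K → ℂ) = θ} := fun t => ⟨t.1, t.2 a ha⟩
  have hf : Function.Injective f := fun s t e => Subtype.ext (congrArg (fun u => u.1) e :)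
  have hle : Nat.card {θ : IrrCharacter K // conjBy K a (θ : K → ℂ) = θ} ≤
      Nat.card {θ : IrrCharacter K // ∀ x ∈ W₁, conjBy K x (θ : K → ℂ) = θ} := by
    rw [h.card_fixed]; exact h.card_fixed_le ha ha1
  obtain ⟨t, ht⟩ := (hf.bijective_of_nat_card_le hle).2 ⟨⟨θ, hθ⟩, hg⟩
  obtain ⟨x, hx, hx'⟩ := hne
  have e : (t.1 : K → ℂ) = θ := congrArg (fun u => (u.1 : K → ℂ)) ht
  exact hx' (by rw [← e]; exact t.2 x hx)

theorem Hyp.ind_irr (h : Hyp K W₁ W₂) {θ : K → ℂ} (hθ : IsIrrCharacter K θ)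
    (hne : ∃ x ∈ W₁, conjBy K x θ ≠ θ) : IsIrrCharacter L (indFun K θ) := by
  classical
  haveI : Fintype K := Fintype.ofFinite _
  rw [CharCore.isIrrCharacter_iff]
  refine ⟨CharInd.isCharacter_indFun K (CharCore.IsIrrCharacter.isCharacter hθ), ?_⟩
  rw [classInner_indFun_normal]
  have e : ∀ g : L, classInner θ (conjBy K g θ) = if g ∈ K then 1 else 0 := by
    intro g
    split_ifs with hg
    · rw [conjBy_self (CharCore.irr_isClassFunction ⟨θ, hθ⟩) ⟨g, hg⟩]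
      exact CharCore.classInner_irr_self ⟨θ, hθ⟩
    · exact CharCore.classInner_irr_of_ne (χ := ⟨θ, hθ⟩) (ψ := ⟨_, conjBy_isIrr K g hθ⟩)
        fun q => hg (h.fixed_mem hθ hne (congrArg Subtype.val q).symm)
  rw [Finset.sum_congr rfl fun g _ => e g, Finset.sum_boole, ← Fintype.card_subtype,
    ← Nat.card_eq_fintype_card]
  exact inv_mul_cancel₀ (Nat.cast_ne_zero.mpr Nat.card_pos.ne')

end Cfsg.Agent.OddChar.PrimeTI
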