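import Cfsg.Agent.Lib.CharCore.Rep
import Mathlib.LinearAlgebra.Trace
import Mathlib.LinearAlgebra.PID

set_option autoImplicit false

/-!
The character of a normalizing subgroup on the invariants of a subgroup.
-/

namespace Cfsg.Agent.OddChar

open Cfsg

/-- Averaging a character over `K` gives a character of any subgroup normalizing `K`. -/
theorem isCharacter_avg {G : Type*} [Group G] [Finite G] (K N : Subgroup G)
    (hN : N ≤ Subgroup.normalizer (K : Set G)) [Fintype K] {χ : G → ℂ} (hχ : IsCharacter G χ) :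
    IsCharacter N (fun n : N => (Nat.card K : ℂ)⁻¹ * ∑ u : K, χ ((n : G) * u)) := by
  obtain ⟨d, ρ, rfl⟩ := hχ
  let P : Module.End ℂ (Fin d → ℂ) := (Nat.card K : ℂ)⁻¹ • ∑ u : K, ρ u
  have hK0 : (Nat.card K : ℂ) ≠ 0 := Nat.cast_ne_zero.mpr Nat.card_pos.ne'
  let S : Submodule ℂ (Fin d → ℂ) :=
    { carrier := {v | ∀ u : K, ρ u v = v}
      add_mem' := fun {a b} ha hb u => by rw [map_add, ha u, hb u]
      zero_mem' := fun u => map_zero _
      smul_mem' := fun c v hv u => by rw [map_smul, hv u] }
  have hnormS : ∀ (n : N) v, v ∈ S → ρ n v ∈ S := by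
    intro n v hv u
    have hm : (n : G)⁻¹ * (u : G) * n ∈ K := by
      have := ((Subgroup.mem_normalizer_iff.mp (hN (N.inv_mem n.2))) u).mp u.2
      simpa using this
    have e : (u : G) * n = n * ((n : G)⁻¹ * u * n) := by group
    rw [← Module.End.mul_apply, ← map_mul, e, map_mul, Module.End.mul_apply,
      show ρ ((n : G)⁻¹ * u * n) v = v from hv ⟨_, hm⟩]
  have hP : ∀ v, P v ∈ S := by
    intro v u
    simp only [P, LinearMap.smul_apply, LinearMap.sum_apply, map_smul, map_sum]
    congr 1
    refine Fintype.sum_equiv (Equiv.mulLeft u) _ _ fun w => ?_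
    rw [Equiv.coe_mulLeft, ← Module.End.mul_apply, ← map_mul, Subgroup.coe_mul]
  have hPid : ∀ v ∈ S, P v = v := by
    intro v hv
    simp only [P, LinearMap.smul_apply, LinearMap.sum_apply]
    rw [Finset.sum_congr rfl fun u _ => hv u, Finset.sum_const, Finset.card_univ,
      ← Nat.cast_smul_eq_nsmul ℂ, ← Nat.card_eq_fintype_card, inv_smul_smul₀ hK0]
  let σ : Representation ℂ N S :=
    { toFun := fun n => (ρ n).restrict fun v hv => hnormS n v hv
      map_one' := LinearMap.ext fun v => Subtype.ext (by simp)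
      map_mul' := fun a b => LinearMap.ext fun v => Subtype.ext (by simp) }
  have h := CharCore.isCharacter_character σ
  convert h using 1
  funext n
  have hmem : ∀ v, (ρ n * P) v ∈ S := fun v => hnormS n _ (hP v)
  have e1 : σ n = (ρ n * P).restrict (fun v _ => hmem v) :=
    LinearMap.ext fun v => Subtype.ext (by
      show ρ n v = (ρ n * P) v
      rw [Module.End.mul_apply, hPid v v.2])
  show _ = LinearMap.trace ℂ S (σ n)
  rw [e1, LinearMap.trace_restrict_eq_of_forall_mem S _ hmem]
  simp only [P, mul_smul_comm, Finset.mul_sum, map_smul, map_sum, smul_eq_mul, ← map_mul]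
  rfl

end Cfsg.Agent.OddChar
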