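import Cfsg.Agent.OddChar.Dade
import Cfsg.Agent.OddChar.AvgChar
import Cfsg.Agent.S1496
import Cfsg.Agent.Coherence.DadeCount
import Cfsg.Agent.Lib.CharCore.Virtual
import Cfsg.Agent.Lib.CharCore.Complete
import Cfsg.Agent.Lib.CharInd.Char
import Mathlib.GroupTheory.GroupAction.Quotient

set_option autoImplicit false

/-!
The Dade isometry: reciprocity and integrality.
-/

namespace Cfsg.Agent.OddChar

open Cfsg
open scoped ComplexConjugate

variable {G : Type*} [Group G] [Fintype G] {A : Set G} {L : Subgroup G} {H : G → Subgroup G}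

omit [Fintype G] in
theorem dade_conj_in_L [Finite G] (hD : DadeHypothesis A L H) {a b u v g : G} (ha : a ∈ A)
    (hb : b ∈ A) (hu : u ∈ H a) (hv : v ∈ H b) (hg : g * (a * u) * g⁻¹ = b * v) :
    ∃ x ∈ L, x * a * x⁻¹ = b := by
  have h := dade_conj_eq hD ha hb hu hv hg
  obtain ⟨x, hx, hxa⟩ := hD.fusion a ha g (h.symm ▸ hb)
  exact ⟨x, hx, hxa.trans h⟩

theorem dadeIsometry_apply (hD : DadeHypothesis A L H) {α : ↥L → ℂ} (hα : IsClassFunction L α)
    {a : ↥L} (ha : (a : G) ∈ A) {u : G} (hu : u ∈ H a) {g x : G}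
    (hx : x * g * x⁻¹ = (a : G) * u) : dadeIsometry A L H α g = α a := by
  classical
  have hex : ∃ a : ↥L, (a : G) ∈ A ∧ ∃ x : G, ∃ u ∈ H (a : G), x * g * x⁻¹ = (a : G) * u :=
    ⟨a, ha, x, u, hu, hx⟩
  unfold dadeIsometry
  rw [dif_pos hex]
  obtain ⟨hb, y, v, hv, hy⟩ := Classical.choose_spec hex
  obtain ⟨l, hl, hla⟩ := dade_conj_in_L hD ha hb hu hv (g := y * x⁻¹) (by
    rw [← hx, ← hy]; group)
  have e : (⟨l, hl⟩ : ↥L) * a * (⟨l, hl⟩ : ↥L)⁻¹ = Classical.choose hex := Subtype.ext hla
  rw [← e, hα a ⟨l, hl⟩]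

omit [Fintype G] in
theorem dadeIsometry_notMem [Fintype G] (α : ↥L → ℂ) (hD : DadeHypothesis A L H) {g : G}
    (hg : g ∉ Coherence.dadeSupp A H) : dadeIsometry A L H α g = 0 := by
  classical
  unfold dadeIsometry
  rw [dif_neg]
  rintro ⟨a, ha, x, u, hu, hx⟩
  exact hg ⟨a, ha, u, hu, x, hx⟩

theorem isClassFunction_dade (hD : DadeHypothesis A L H) {α : ↥L → ℂ}
    (hα : IsClassFunction L α) : IsClassFunction G (dadeIsometry A L H α) := by
  intro g y
  by_cases hg : g ∈ Coherence.dadeSupp A H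
  · obtain ⟨a, ha, u, hu, x, hx⟩ := hg
    rw [dadeIsometry_apply hD hα (a := ⟨a, hD.subset ha⟩) ha hu hx,
      dadeIsometry_apply hD hα (a := ⟨a, hD.subset ha⟩) ha hu (x := x * y⁻¹)
        (g := y * g * y⁻¹) (by simp only; rw [← hx]; group)]
  · rw [dadeIsometry_notMem α hD hg, dadeIsometry_notMem α hD]
    rintro ⟨a, ha, u, hu, x, hx⟩
    exact hg ⟨a, ha, u, hu, x * y, by rw [← hx]; group⟩

open Classical in
theorem dade_sum_complex (hD : DadeHypothesis A L H) (f : G → ℂ)
    (hf : ∀ g x : G, f (x * g * x⁻¹) = f g) :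
    (Nat.card L : ℂ) * ∑ g ∈ Finset.univ.filter (· ∈ Coherence.dadeSupp A H), f g =
      (Nat.card G : ℂ) * ∑ a ∈ Finset.univ.filter (· ∈ A),
        (Nat.card (H a) : ℂ)⁻¹ * ∑ u : H a, f (a * u) := by
  have hr := Coherence.dade_sum_eq hD (fun g => (f g).re) fun g x => by rw [hf]
  have hi := Coherence.dade_sum_eq hD (fun g => (f g).im) fun g x => by rw [hf]
  have h1 : ∀ (n : ℕ) (z : ℂ), ((n : ℂ)⁻¹ * z).re = (n : ℝ)⁻¹ * z.re := fun n z => by
    rw [show ((n : ℂ))⁻¹ = (((n : ℝ)⁻¹ : ℝ) : ℂ) by push_cast; rfl, Complex.re_ofReal_mul]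
  have h2 : ∀ (n : ℕ) (z : ℂ), ((n : ℂ)⁻¹ * z).im = (n : ℝ)⁻¹ * z.im := fun n z => by
    rw [show ((n : ℂ))⁻¹ = (((n : ℝ)⁻¹ : ℝ) : ℂ) by push_cast; rfl, Complex.im_ofReal_mul]
  refine Complex.ext ?_ ?_
  · simp only [Complex.natCast_re, Complex.natCast_im, Complex.mul_re, Complex.re_sum, h1, zero_mul,
      sub_zero] at *
    simpa [h1, Complex.re_sum] using hr
  · simp only [Complex.mul_im, Complex.natCast_re, Complex.natCast_im, zero_mul, add_zero,
      Complex.im_sum] at *
    simpa [h2, Complex.im_sum] using hi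

/-- Reciprocity for the Dade map. -/
theorem classInner_dade [Fintype L] (hD : DadeHypothesis A L H) {α : ↥L → ℂ}
    (hα : IsClassFunction L α) (hαA : ∀ x : L, (x : G) ∉ A → α x = 0) {χ : G → ℂ}
    (hχ : IsClassFunction G χ) (ψ : ↥L → ℂ)
    (hψ : ∀ a : L, (a : G) ∈ A → ψ a =
      (Nat.card (H a) : ℂ)⁻¹ * ∑ᶠ u ∈ (H a : Set G), χ (a * u)) :
    classInner (dadeIsometry A L H α) χ = classInner α ψ := by
  classical
  let F : G → ℂ := fun g => dadeIsometry A L H α g * conj (χ g)
  have hF : ∀ g x : G, F (x * g * x⁻¹) = F g := fun g x => by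
    simp only [F]; rw [isClassFunction_dade hD hα g x, hχ g x]
  have e1 : ∑ g, F g = ∑ g ∈ Finset.univ.filter (· ∈ Coherence.dadeSupp A H), F g :=
    (Finset.sum_filter_of_ne fun g _ hne => by
      by_contra hg; exact hne (by simp [F, dadeIsometry_notMem α hD hg])).symm
  have e2 : ∑ a ∈ Finset.univ.filter (· ∈ A), (Nat.card (H a) : ℂ)⁻¹ * ∑ u : H a, F (a * u)
      = ∑ l : L, α l * conj (ψ l) := by
    symm
    rw [← Finset.sum_filter_of_ne (p := fun l : L => (l : G) ∈ A) fun l _ hne => by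
      by_contra hl; exact hne (by rw [hαA l hl, zero_mul])]
    refine Finset.sum_bij (fun l _ => (l : G)) (fun l hl => by simpa using hl)
      (fun a _ b _ e => Subtype.ext e) (fun a ha => ⟨⟨a, hD.subset (by simpa using ha)⟩,
        by simpa using ha, rfl⟩) fun l hl => ?_
    have hl' : (l : G) ∈ A := by simpa using hl
    rw [hψ l hl', finsum_mem_eq_finite_toFinset_sum _ (Set.toFinite _), map_mul, map_inv₀,
      map_natCast, map_sum, mul_left_comm, Finset.mul_sum,
      Finset.sum_subtype (p := fun u => u ∈ H (l : G)) _ (fun u => by simp)]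
    refine congrArg _ (Finset.sum_congr rfl fun u _ => ?_)
    simp only [F]
    rw [dadeIsometry_apply hD hα hl' u.2 (g := (l : G) * u) (x := 1) (by group)]
  have key := dade_sum_complex hD F hF
  rw [e2, ← e1] at key
  rw [CharCore.classInner_def, CharCore.classInner_def]
  have hG : (Nat.card G : ℂ) ≠ 0 := Nat.cast_ne_zero.mpr Nat.card_pos.ne'
  have hL : (Nat.card L : ℂ) ≠ 0 := Nat.cast_ne_zero.mpr Nat.card_pos.ne'
  field_simp
  linear_combination key

/-! ### Integrality -/

/-- The intersection of the `H b`, `b ∈ B`. -/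
def interH (H : G → Subgroup G) (B : Finset G) : Subgroup G := ⨅ b ∈ B, H b

omit [Group G] [Fintype G] in
theorem mem_interH' {G : Type*} [Group G] {H : G → Subgroup G} {B : Finset G} {u : G} :
    u ∈ interH H B ↔ ∀ b ∈ B, u ∈ H b := by
  simp [interH, Subgroup.mem_iInf]

/-- Average of `χ` over `a * interH H B`. -/
noncomputable def avgFun (H : G → Subgroup G) (χ : G → ℂ) (B : Finset G) (a : G) : ℂ :=
  (Nat.card ↥(interH H B) : ℂ)⁻¹ * ∑ᶠ u ∈ (interH H B : Set G), χ (a * u)

theorem avgFun_eq_sum (χ : G → ℂ) (B : Finset G) (a : G) [Fintype ↥(interH H B)] :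
    avgFun H χ B a = (Nat.card ↥(interH H B) : ℂ)⁻¹ * ∑ u : ↥(interH H B), χ (a * u) := by
  classical
  unfold avgFun
  rw [finsum_mem_eq_finite_toFinset_sum _ (Set.toFinite _),
    Finset.sum_subtype (p := fun u => u ∈ interH H B) _ (fun u => by simp)]

/-- Coprime action: averaging over `a * K` is averaging over `a * C_K(a)`. -/
theorem avg_coprime (K : Subgroup G) [Fintype K] (a : G)
    (hn : a ∈ Subgroup.normalizer (K : Set G)) (hcop : Nat.Coprime (orderOf a) (Nat.card K))
    {χ : G → ℂ} (hχ : IsClassFunction G χ) (C : Subgroup G)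
    (hCdef : ∀ c, c ∈ C ↔ c ∈ K ∧ c * a = a * c) [Fintype C] :
    (Nat.card K : ℂ)⁻¹ * ∑ u : K, χ (a * u) = (Nat.card C : ℂ)⁻¹ * ∑ c : C, χ (a * c) := by
  classical
  have hC : ∀ c : C, (c : G) * a = a * c := fun c => ((hCdef c).mp c.2).2
  have hCK : ∀ c : C, (c : G) ∈ K := fun c => ((hCdef c).mp c.2).1
  have hconj : ∀ z ∈ K, a⁻¹ * z * a ∈ K := fun z hz => by
    have := ((Subgroup.mem_normalizer_iff.mp hn) (a⁻¹ * z * a)).mpr (by simpa [mul_assoc] using hz)
    exact this
  -- `(x, c) ↦ a⁻¹ * (x * (a * c) * x⁻¹)` covers `K` with fibres of size `|C|`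
  let f : K × C → K := fun p => ⟨a⁻¹ * (p.1 : G) * a * (p.2 : G) * (p.1 : G)⁻¹,
    K.mul_mem (K.mul_mem (hconj _ p.1.2) (hCK p.2)) (K.inv_mem p.1.2)⟩
  have hf : ∀ p, a * (f p : G) = (p.1 : G) * (a * p.2) * (p.1 : G)⁻¹ := fun p => by
    simp only [f]; group
  have hsurj : ∀ u : K, ∃ p, f p = u := by
    intro u
    have hmem : a * (u : G) * a⁻¹ ∈ K := ((Subgroup.mem_normalizer_iff.mp hn) u).mp u.2
    obtain ⟨x, hx, c, hc, hca, he⟩ := S1496.result K a hn hcop _ hmem
    refine ⟨(⟨x⁻¹, K.inv_mem hx⟩, ⟨c, (hCdef c).mpr ⟨hc, hca⟩⟩),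
      Subtype.ext (mul_left_cancel (a := a) ?_)⟩
    rw [hf]
    simp only [inv_inv]
    rw [← hca, ← he]
    group
  have hfib : ∀ p q, f p = f q → ((q.1 : G)⁻¹ * (p.1 : G)) ∈ C := by
    intro p q hpq
    refine (hCdef _).mpr ⟨K.mul_mem (K.inv_mem q.1.2) p.1.2, ?_⟩
    have h1 : ((q.1 : G)⁻¹ * p.1) * (a * p.2) * ((q.1 : G)⁻¹ * p.1)⁻¹ = a * q.2 := by
      have := (hf p).symm.trans ((congrArg (fun z : K => a * (z : G)) hpq).trans (hf q))
      calc ((q.1 : G)⁻¹ * p.1) * (a * p.2) * ((q.1 : G)⁻¹ * p.1)⁻¹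
          = (q.1 : G)⁻¹ * ((p.1 : G) * (a * p.2) * (p.1 : G)⁻¹) * q.1 := by group
        _ = _ := by rw [this]; group
    have := conj_eq_of_coprime hcop (hC p.2).symm (hC q.2).symm (pow_orderOf_eq_one a)
      (pow_card_eq_one_of_mem K (hCK p.2)) (pow_orderOf_eq_one a)
      (pow_card_eq_one_of_mem K (hCK q.2)) h1
    exact mul_inv_eq_iff_eq_mul.mp this
  have hcard : ∀ u : K, (Finset.univ.filter fun p => f p = u).card = Fintype.card C := by
    intro u
    obtain ⟨p, hp⟩ := hsurj u
    rw [← Finset.card_univ]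
    refine Finset.card_bij' (fun q hq => ⟨_, hfib p q (hp.trans (Finset.mem_filter.mp hq).2.symm)⟩)
      (fun d _ => (⟨(p.1 : G) * (d : G)⁻¹, K.mul_mem p.1.2 (K.inv_mem (hCK d))⟩,
        ⟨(d : G) * p.2 * (d : G)⁻¹, C.mul_mem (C.mul_mem d.2 p.2.2) (C.inv_mem d.2)⟩))
      (fun _ _ => Finset.mem_univ _) (fun d _ => ?_) (fun q hq => ?_) (fun d _ => ?_)
    · refine Finset.mem_filter.mpr ⟨Finset.mem_univ _, Subtype.ext (mul_left_cancel (a := a) ?_)⟩
      rw [hf, ← hp, hf]
      calc (p.1 : G) * (d : G)⁻¹ * (a * ((d : G) * p.2 * (d : G)⁻¹)) * ((p.1 : G) * (d : G)⁻¹)⁻¹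
          = (p.1 : G) * ((d : G)⁻¹ * (a * d)) * p.2 * (p.1 : G)⁻¹ := by group
        _ = _ := by rw [← hC d]; group
    · have hq' : f p = f q := hp.trans (Finset.mem_filter.mp hq).2.symm
      have h1 : ((p.1 : G) * ((q.1 : G)⁻¹ * p.1)⁻¹) = q.1 := by group
      refine Prod.ext (Subtype.ext h1) (Subtype.ext (mul_left_cancel (a := a) ?_))
      show a * ((q.1 : G)⁻¹ * p.1 * p.2 * ((q.1 : G)⁻¹ * p.1)⁻¹) = a * q.2
      have hd := ((hCdef _).mp (hfib p q hq')).2
      have := (hf p).symm.trans ((congrArg (fun z : K => a * (z : G)) hq').trans (hf q))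
      calc a * ((q.1 : G)⁻¹ * p.1 * p.2 * ((q.1 : G)⁻¹ * p.1)⁻¹)
          = (a * ((q.1 : G)⁻¹ * p.1)) * p.2 * ((q.1 : G)⁻¹ * p.1)⁻¹ := by group
        _ = (q.1 : G)⁻¹ * ((p.1 : G) * (a * p.2) * (p.1 : G)⁻¹) * q.1 := by rw [← hd]; group
        _ = a * q.2 := by rw [this]; group
    · exact Subtype.ext (show ((p.1 : G) * (d : G)⁻¹)⁻¹ * p.1 = d by group)
  have hsum : ∑ p : K × C, χ (a * (f p : G)) = (Nat.card C : ℂ) * ∑ u : K, χ (a * u) := by
    rw [← Finset.sum_fiberwise_of_maps_to (g := f) (fun p _ => Finset.mem_univ (f p)),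
      Finset.mul_sum]
    refine Finset.sum_congr rfl fun u _ => ?_
    rw [Finset.sum_congr rfl fun p hp => by rw [(Finset.mem_filter.mp hp).2], Finset.sum_const,
      hcard, nsmul_eq_mul, Nat.card_eq_fintype_card]
  have hsum2 : ∑ p : K × C, χ (a * (f p : G)) = (Nat.card K : ℂ) * ∑ c : C, χ (a * c) := by
    rw [Fintype.sum_prod_type, Finset.sum_congr rfl fun x _ =>
      Finset.sum_congr rfl fun c _ => by rw [hf (x, c), hχ (a * (c : G)) (x : G)],
      Finset.sum_const, Finset.card_univ, nsmul_eq_mul, Nat.card_eq_fintype_card]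
  have hK0 : (Nat.card K : ℂ) ≠ 0 := Nat.cast_ne_zero.mpr Nat.card_pos.ne'
  have hC0 : (Nat.card C : ℂ) ≠ 0 := Nat.cast_ne_zero.mpr Nat.card_pos.ne'
  rw [inv_mul_eq_div, inv_mul_eq_div, div_eq_div_iff hK0 hC0]
  linear_combination hsum.symm.trans hsum2

section Extension

variable (hD : DadeHypothesis A L H)

include hD in
theorem interH_insert [DecidableEq G] {a : G} (ha : a ∈ A) {B : Finset G} (hB : B.Nonempty)
    (hBA : ∀ b ∈ B, b ∈ A) :
    interH H B ⊓ Subgroup.centralizer ({a} : Set G) = interH H (insert a B) := by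
  ext u
  rw [Subgroup.mem_inf, mem_interH', mem_interH', Finset.forall_mem_insert]
  constructor
  · rintro ⟨h1, h2⟩
    obtain ⟨b, hb⟩ := hB
    exact ⟨dade_mem_H_of_coprime hD ha h2 (n := Nat.card (H b))
      (pow_card_eq_one_of_mem _ (h1 b hb)) (hD.coprime b (hBA b hb) a ha), h1⟩
  · rintro ⟨h1, h2⟩
    exact ⟨h2, hD.le_centralizer a ha h1⟩

include hD in
theorem interH_conj [DecidableEq G] {B : Finset G} (hBA : ∀ b ∈ B, b ∈ A) {x : G} (hx : x ∈ L)
    (u : G) : x * u * x⁻¹ ∈ interH H (B.image fun b => x * b * x⁻¹) ↔ u ∈ interH H B := by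
  simp only [mem_interH', Finset.forall_mem_image]
  refine forall₂_congr fun b hb => ?_
  rw [dade_H_conj hD (hBA b hb) hx, Subgroup.mem_map]
  constructor
  · rintro ⟨y, hy, he⟩
    have : x * y * x⁻¹ = x * u * x⁻¹ := he
    rw [mul_left_inj, mul_right_inj] at this
    exact this ▸ hy
  · exact fun h => ⟨u, h, rfl⟩

include hD in
theorem avgFun_conj [DecidableEq G] {χ : G → ℂ} (hχ : IsClassFunction G χ) {B : Finset G}
    (hBA : ∀ b ∈ B, b ∈ A) {x : G} (hx : x ∈ L) (a : G) :
    avgFun H χ (B.image fun b => x * b * x⁻¹) (x * a * x⁻¹) = avgFun H χ B a := by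
  classical
  rw [avgFun_eq_sum, avgFun_eq_sum]
  let e : ↥(interH H B) ≃ ↥(interH H (B.image fun b => x * b * x⁻¹)) :=
    { toFun := fun u => ⟨x * u * x⁻¹, (interH_conj hD hBA hx u).mpr u.2⟩
      invFun := fun v => ⟨x⁻¹ * v * x, (interH_conj hD hBA hx _).mp (by
        simpa [mul_assoc] using v.2)⟩
      left_inv := fun u => Subtype.ext (by simp [mul_assoc])
      right_inv := fun v => Subtype.ext (by simp [mul_assoc]) }
  rw [← Nat.card_congr e, ← Equiv.sum_comp e]
  refine congrArg _ (Finset.sum_congr rfl fun u _ => ?_)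
  show χ (x * a * x⁻¹ * (x * u * x⁻¹)) = _
  rw [show x * a * x⁻¹ * (x * u * x⁻¹) = x * (a * u) * x⁻¹ by group, hχ]

include hD in
theorem interH_normalizer [DecidableEq G] {B : Finset G} (hBA : ∀ b ∈ B, b ∈ A) {x : G}
    (hx : x ∈ L) (hfix : B.image (fun b => x * b * x⁻¹) = B) :
    x ∈ Subgroup.normalizer (interH H B : Set G) := by
  rw [Subgroup.mem_normalizer_iff]
  intro u
  have := interH_conj hD hBA hx u
  rw [hfix] at this
  exact this.symm

include hD in
theorem avgFun_insert [DecidableEq G] {χ : G → ℂ} (hχ : IsClassFunction G χ) {a : G} (ha : a ∈ A)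
    {B : Finset G} (hB : B.Nonempty) (hBA : ∀ b ∈ B, b ∈ A)
    (hfix : B.image (fun b => a * b * a⁻¹) = B) :
    avgFun H χ B a = avgFun H χ (insert a B) a := by
  classical
  obtain ⟨b, hb⟩ := hB
  have hle : interH H B ≤ H b := fun u hu => mem_interH'.mp hu b hb
  have hcop : Nat.Coprime (orderOf a) (Nat.card ↥(interH H B)) :=
    ((hD.coprime b (hBA b hb) a ha).symm.coprime_dvd_left
      (orderOf_dvd_of_pow_eq_one (pow_card_eq_one_of_mem _ (dade_mem_centL hD ha)))).coprime_dvd_right
      (Subgroup.card_dvd_of_le hle)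
  rw [avgFun_eq_sum, avgFun_eq_sum, avg_coprime _ a
    (interH_normalizer hD hBA (hD.subset ha) hfix) hcop hχ
    (interH H B ⊓ Subgroup.centralizer ({a} : Set G))
    (fun c => by rw [Subgroup.mem_inf, Subgroup.mem_centralizer_singleton_iff])]
  have e := interH_insert hD ha ⟨b, hb⟩ hBA
  congr 1
  · rw [e]
  · exact Fintype.sum_equiv (MulEquiv.subgroupCongr e).toEquiv _ _ fun c => rfl

variable [Fintype L]

/-- The nonempty subsets of `A`. -/
abbrev ASub (A : Set G) : Type _ := {B : Finset G // B.Nonempty ∧ ∀ b ∈ B, b ∈ A}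

include hD in
theorem exists_gen_eq_avg {χ : G → ℂ} (hχ : IsCharacter G χ) :
    ∃ ψ : ↥L → ℂ, IsGeneralizedCharacter L ψ ∧ ∀ a : L, (a : G) ∈ A → ψ a =
      (Nat.card (H a) : ℂ)⁻¹ * ∑ᶠ u ∈ (H a : Set G), χ (a * u) := by
  classical
  have hχc : IsClassFunction G χ := fun g h => by
    obtain ⟨n, ρ, rfl⟩ := hχ; exact Representation.char_conj ρ g h
  letI : MulAction ↥L (ASub A) :=
    { smul := fun x B => ⟨B.1.image fun b => (x : G) * b * (x : G)⁻¹, B.2.1.image _, fun b hb => by
        obtain ⟨c, hc, rfl⟩ := Finset.mem_image.mp hb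
        exact hD.conj_mem _ x.2 c (B.2.2 c hc)⟩
      one_smul := fun B => Subtype.ext (show B.1.image _ = B.1 by simp)
      mul_smul := fun x y B => Subtype.ext (show B.1.image _ = (B.1.image _).image _ by
        rw [Finset.image_image]
        refine Finset.image_congr fun b _ => ?_
        simp [mul_assoc]) }
  have hsmul : ∀ (x : L) (B : ASub A), (x • B).1 = B.1.image fun b => (x : G) * b * (x : G)⁻¹ :=
    fun x B => rfl
  let S : ASub A → Subgroup L := fun B => MulAction.stabilizer L B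
  let Φ : ∀ B : ASub A, S B → ℂ := fun B n => avgFun H χ B.1 ((n : L) : G)
  have hΦchar : ∀ B, IsCharacter (S B) (Φ B) := by
    intro B
    have hle : (S B).map L.subtype ≤ Subgroup.normalizer (interH H B.1 : Set G) := by
      rintro _ ⟨x, hx, rfl⟩
      exact interH_normalizer hD B.2.2 x.2
        ((hsmul x B).symm.trans (congrArg Subtype.val (MulAction.mem_stabilizer_iff.mp hx)))
    have h := CharInd.isCharacter_comp (isCharacter_avg _ _ hle hχ)
      ((S B).equivMapOfInjective L.subtype L.subtype_injective).toMonoidHom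
    convert h using 1
    funext n
    simp only [Φ, avgFun_eq_sum]
    rfl
  let sgn : ASub A → ℤ := fun B => (-1) ^ (B.1.card + 1)
  have hsgn : ∀ (x : L) B, sgn (x • B) = sgn B := fun x B => by
    simp only [sgn, hsmul]
    rw [Finset.card_image_of_injective _ fun b c h => by simpa using h]
  let Q := MulAction.orbitRel.Quotient L (ASub A)
  let term : ASub A → ↥L → ℂ := fun B => (sgn B : ℂ) • indFun (S B) (Φ B)
  refine ⟨∑ q : Q, term q.out, CharCore.isGeneralized_sum _ _ fun q _ =>
    CharCore.isGeneralized_intCast_smul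
      (CharCore.IsCharacter.isGeneralized (CharInd.isCharacter_indFun _ (hΦchar _))) _, ?_⟩
  intro a ha
  let W : ASub A → ℂ := fun B => if a • B = B then (sgn B : ℂ) * avgFun H χ B.1 a else 0
  have hterm : ∀ B₀ : ASub A, term B₀ a = (Nat.card (S B₀) : ℂ)⁻¹ * ∑ x : L, W (x • B₀) := by
    intro B₀
    simp only [term, Pi.smul_apply, smul_eq_mul, CharInd.indFun_apply]
    rw [mul_left_comm, Finset.mul_sum]
    refine congrArg _ (Finset.sum_congr rfl fun x _ => ?_)
    have hiff : x⁻¹ * a * x ∈ S B₀ ↔ a • (x • B₀) = x • B₀ := by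
      rw [MulAction.mem_stabilizer_iff, mul_smul, mul_smul, inv_smul_eq_iff]
    by_cases hm : x⁻¹ * a * x ∈ S B₀
    · rw [CharInd.extendByZero_mem _ hm]
      simp only [W, if_pos (hiff.mp hm), hsgn, Φ]
      congr 1
      have := avgFun_conj hD hχc (B := B₀.1) B₀.2.2 (x := (x : G)) x.2
        (((x : G))⁻¹ * a * x)
      rw [show (x : G) * (((x : G))⁻¹ * a * x) * (x : G)⁻¹ = a by group] at this
      rw [hsmul]
      exact this.symm
    · rw [CharInd.extendByZero_notMem _ hm, mul_zero]
      simp only [W, if_neg (mt hiff.mpr hm)]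
  have htotal : ∑ q : Q, term q.out a = ∑ B : ASub A, W B := by
    rw [← Finset.sum_fiberwise_of_maps_to (g := fun B : ASub A => (Quotient.mk'' B : Q))
      (t := Finset.univ) fun B _ => Finset.mem_univ _]
    refine Finset.sum_congr rfl fun q _ => ?_
    rw [hterm]
    have hmaps : ∀ x ∈ (Finset.univ : Finset L),
        x • q.out ∈ Finset.univ.filter fun B : ASub A => (Quotient.mk'' B : Q) = q := by
      intro x _
      refine Finset.mem_filter.mpr ⟨Finset.mem_univ _, ?_⟩
      conv_rhs => rw [← Quotient.out_eq' q]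
      exact Quotient.eq''.mpr (MulAction.mem_orbit _ x)
    rw [← Finset.sum_fiberwise_of_maps_to hmaps, Finset.mul_sum]
    refine Finset.sum_congr rfl fun B hB => ?_
    obtain ⟨x₀, hx₀⟩ : ∃ x₀ : L, x₀ • q.out = B := by
      have h := (Finset.mem_filter.mp hB).2
      rw [← Quotient.out_eq' q] at h
      exact MulAction.mem_orbit_iff.mp (MulAction.orbitRel_apply.mp (Quotient.eq''.mp h))
    rw [Finset.sum_congr rfl fun x hx => by rw [(Finset.mem_filter.mp hx).2], Finset.sum_const,
      nsmul_eq_mul, ← mul_assoc]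
    have hc : (Finset.univ.filter fun x : L => x • q.out = B).card = Nat.card (S q.out) := by
      rw [← Nat.card_eq_finsetCard]
      refine Nat.card_congr
        { toFun := fun x => ⟨x₀⁻¹ * x.1, MulAction.mem_stabilizer_iff.mpr (by
            rw [mul_smul, (Finset.mem_filter.mp x.2).2, ← hx₀, inv_smul_smul])⟩
          invFun := fun s => ⟨x₀ * s.1, Finset.mem_filter.mpr ⟨Finset.mem_univ _, by
            rw [mul_smul, MulAction.mem_stabilizer_iff.mp s.2, hx₀]⟩⟩
          left_inv := fun x => Subtype.ext (mul_inv_cancel_left _ _)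
          right_inv := fun s => Subtype.ext (inv_mul_cancel_left _ _) }
    rw [hc, inv_mul_cancel₀ (Nat.cast_ne_zero.mpr Nat.card_pos.ne'), one_mul]
  rw [Finset.sum_apply, htotal]
  -- only `{a}` survives
  let a1 : ASub A := ⟨{(a : G)}, Finset.singleton_nonempty _, by simpa using ha⟩
  have hfix1 : a • a1 = a1 := Subtype.ext (by simp [hsmul, a1])
  rw [← Finset.add_sum_erase _ W (Finset.mem_univ a1)]
  have hrest : ∑ B ∈ Finset.univ.erase a1, W B = 0 := by
    have hnee : ∀ B ∈ Finset.univ.erase a1, (a : G) ∈ B.1 → (B.1.erase (a : G)).Nonempty := by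
      intro B hB haB
      rcases (B.1.erase (a : G)).eq_empty_or_nonempty with h0 | h0
      · exfalso
        refine Finset.ne_of_mem_erase hB (Subtype.ext ?_)
        rw [Finset.erase_eq_empty_iff] at h0
        exact h0.resolve_left (Finset.nonempty_iff_ne_empty.mp ⟨_, haB⟩)
      · exact h0
    let tog : ∀ B : ASub A, B ∈ Finset.univ.erase a1 → ASub A := fun B hB =>
      if haB : (a : G) ∈ B.1 then
        ⟨B.1.erase (a : G), hnee B hB haB, fun b hb => B.2.2 b (Finset.mem_of_mem_erase hb)⟩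
      else ⟨insert (a : G) B.1, Finset.insert_nonempty _ _, fun b hb =>
        (Finset.mem_insert.mp hb).elim (fun e => e ▸ ha) (B.2.2 b)⟩
    have himg : ∀ B : ASub A, ∀ hB, (a • tog B hB = tog B hB ↔ a • B = B) := by
      intro B hB
      have hinj : Function.Injective fun b : G => (a : G) * b * (a : G)⁻¹ :=
        fun b c h => by simpa using h
      simp only [Subtype.ext_iff, hsmul, tog]
      by_cases haB : (a : G) ∈ B.1
      · simp only [dif_pos haB]
        rw [Finset.image_erase hinj, mul_inv_cancel_right]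
        constructor
        · intro h
          have h2 := congrArg (insert (a : G)) h
          rwa [Finset.insert_erase haB, Finset.insert_erase] at h2
          exact Finset.mem_image.mpr ⟨a, haB, by group⟩
        · intro h; rw [h]
      · simp only [dif_neg haB]
        rw [Finset.image_insert, mul_inv_cancel_right]
        constructor
        · intro h
          have h2 := congrArg (fun s => Finset.erase s (a : G)) h
          simp only [Finset.erase_insert haB] at h2
          rwa [Finset.erase_insert] at h2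
          intro hm
          obtain ⟨b, hb, hbe⟩ := Finset.mem_image.mp hm
          have : b = a := hinj (by simpa using hbe)
          exact haB (this ▸ hb)
        · intro h; rw [h]
    refine Finset.sum_involution tog ?_ ?_ ?_ ?_
    · intro B hB
      by_cases hfix : a • B = B
      · simp only [W, if_pos hfix, if_pos ((himg B hB).mpr hfix), sgn, tog]
        have hfix' : B.1.image (fun b => (a : G) * b * (a : G)⁻¹) = B.1 := by rw [← hsmul, hfix]
        by_cases haB : (a : G) ∈ B.1
        · simp only [dif_pos haB]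
          have hfe : (B.1.erase (a : G)).image (fun b => (a : G) * b * (a : G)⁻¹)
              = B.1.erase (a : G) := by
            rw [Finset.image_erase (fun b c h => by simpa using h), mul_inv_cancel_right, hfix']
          rw [avgFun_insert hD hχc ha (hnee B hB haB)
            (fun b hb => B.2.2 b (Finset.mem_of_mem_erase hb)) hfe, Finset.insert_erase haB]
          rw [← Finset.card_erase_add_one haB]
          push_cast
          ring
        · simp only [dif_neg haB]
          rw [avgFun_insert hD hχc ha B.2.1 B.2.2 hfix', Finset.card_insert_of_notMem haB]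
          push_cast
          ring
      · simp [W, if_neg hfix, if_neg (mt (himg B hB).mp hfix)]
    · intro B hB _ he
      simp only [tog] at he
      split_ifs at he with haB
      · exact (Finset.erase_eq_self.mp (congrArg Subtype.val he)) haB
      · exact haB (by rw [← congrArg Subtype.val he]; exact Finset.mem_insert_self _ _)
    · intro B hB
      refine Finset.mem_erase.mpr ⟨fun he => ?_, Finset.mem_univ _⟩
      simp only [tog] at he
      split_ifs at he with haB
      · have := congrArg (fun B : ASub A => (a : G) ∈ B.1) he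
        simp [a1] at this
      · have h1 : insert (a : G) B.1 = {(a : G)} := congrArg Subtype.val he
        obtain ⟨b, hb⟩ := B.2.1
        have : b = a := by
          have := h1 ▸ Finset.mem_insert_of_mem hb (b := (a : G))
          simpa using this
        exact haB (this ▸ hb)
    · intro B hB
      apply Subtype.ext
      simp only [tog]
      by_cases haB : (a : G) ∈ B.1
      · simp [haB]
      · simp [haB]
  rw [hrest, add_zero]
  simp only [W, if_pos hfix1, sgn, a1, Finset.card_singleton]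
  have : interH H ({(a : G)} : Finset G) = H a := by simp [interH]
  simp [avgFun, this]

end Extension

/-- The Dade map sends virtual characters supported on `A` to virtual characters. -/
theorem isGeneralized_dade [Fintype L] (hD : DadeHypothesis A L H) {α : ↥L → ℂ}
    (hα : IsGeneralizedCharacter L α) (hαA : ∀ x : L, (x : G) ∉ A → α x = 0) :
    IsGeneralizedCharacter G (dadeIsometry A L H α) := by
  have hαc := CharCore.IsGeneralizedCharacter.isClassFunction hα
  rw [CharCore.isGeneralizedCharacter_iff]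
  refine ⟨isClassFunction_dade hD hαc, fun χ => ?_⟩
  obtain ⟨ψ, hψ, hψA⟩ := exists_gen_eq_avg hD (CharCore.irr_isCharacter χ)
  rw [classInner_dade hD hαc hαA (CharCore.irr_isClassFunction χ) ψ hψA]
  exact CharCore.IsGeneralizedCharacter.exists_classInner_eq_intCast hα hψ

end Cfsg.Agent.OddChar
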