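import Cfsg.Agent.Lib.CharCore.Basic
import Cfsg.Agent.Lib.CharClifford.Galois
import Mathlib.LinearAlgebra.Matrix.Basis

set_option autoImplicit false

/-!
Field endomorphisms of `ℂ` send characters to characters.
-/

namespace Cfsg.Agent.OddChar

open Cfsg
open scoped ComplexConjugate

theorem isCharacter_map {G : Type*} [Group G] (σ : ℂ →+* ℂ) {χ : G → ℂ} (hχ : IsCharacter G χ) :
    IsCharacter G (fun g => σ (χ g)) := by
  obtain ⟨n, ρ, rfl⟩ := hχ
  let f : Matrix (Fin n) (Fin n) ℂ →+* Matrix (Fin n) (Fin n) ℂ := σ.mapMatrix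
  let ρ' : Representation ℂ G (Fin n → ℂ) :=
    ((LinearMap.toMatrixAlgEquiv' (R := ℂ) (n := Fin n)).symm.toRingEquiv.toMonoidHom).comp
      (f.toMonoidHom.comp
        ((LinearMap.toMatrixAlgEquiv' (R := ℂ) (n := Fin n)).toRingEquiv.toMonoidHom.comp ρ))
  refine ⟨n, ρ', funext fun g => ?_⟩
  show LinearMap.trace ℂ _ (Matrix.toLinAlgEquiv' ((LinearMap.toMatrixAlgEquiv' (ρ g)).map σ))
    = σ (LinearMap.trace ℂ _ (ρ g))
  rw [LinearMap.trace_eq_matrix_trace ℂ (Pi.basisFun ℂ (Fin n)),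
    LinearMap.trace_eq_matrix_trace ℂ (Pi.basisFun ℂ (Fin n)), AddMonoidHom.map_trace σ]
  congr 1
  ext i j
  simp [LinearMap.toMatrixAlgEquiv', Matrix.toLinAlgEquiv']

theorem classInner_map {G : Type*} [Group G] [Fintype G] (σ : ℂ →+* ℂ) {φ ψ : G → ℂ}
    (hψ : IsCharacter G ψ) :
    classInner (fun g => σ (φ g)) (fun g => σ (ψ g)) = σ (classInner φ ψ) := by
  rw [CharCore.classInner_eq_inv _ hψ, CharCore.classInner_eq_inv _ (isCharacter_map σ hψ)]
  simp [map_sum]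

theorem isIrrCharacter_map {G : Type*} [Group G] [Finite G] (σ : ℂ →+* ℂ) {χ : G → ℂ}
    (hχ : IsIrrCharacter G χ) : IsIrrCharacter G (fun g => σ (χ g)) := by
  have := Fintype.ofFinite G
  rw [CharCore.isIrrCharacter_iff] at hχ ⊢
  exact ⟨isCharacter_map σ hχ.1, by rw [classInner_map σ hχ.1, hχ.2, map_one]⟩

end Cfsg.Agent.OddChar
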