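import Cfsg.Agent.Lib.CharCore.Basic
import Cfsg.Agent.Coherence.Virtual

set_option autoImplicit false

/-!
Irreducible characters up to sign, and virtual characters of small norm.
-/

namespace Cfsg.Agent.OddChar

open Cfsg Cfsg.Agent.CharCore
open scoped ComplexConjugate

variable {G : Type*} [Group G] [Fintype G]

/-- `α` is an irreducible character up to sign. -/
def IsSignedIrr (α : G → ℂ) : Prop := IsIrrCharacter G α ∨ IsIrrCharacter G (-α)

omit [Fintype G] in
theorem IsSignedIrr.neg {α : G → ℂ} (h : IsSignedIrr α) : IsSignedIrr (-α) := by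
  unfold IsSignedIrr at h ⊢
  rw [neg_neg]
  exact h.symm

omit [Fintype G] in
theorem IsSignedIrr.isGeneralizedCharacter {α : G → ℂ} (h : IsSignedIrr α) :
    IsGeneralizedCharacter G α := by
  rcases h with h | h
  · exact Coherence.irr_gen h
  · simpa using Coherence.gen_neg (Coherence.irr_gen h)

theorem signed_inner_self {α : G → ℂ} (h : IsSignedIrr α) : classInner α α = 1 := by
  rcases h with h | h
  · exact (isIrrCharacter_iff.mp h).2
  · have := (isIrrCharacter_iff.mp h).2
    rwa [CharCore.classInner_neg_left, CharCore.classInner_neg_right, neg_neg] at this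

omit [Fintype G] in
theorem signed_exists_sign {α : G → ℂ} (h : IsSignedIrr α) :
    ∃ (ε : ℤ) (χ : IrrCharacter G), (ε = 1 ∨ ε = -1) ∧ α = (ε : ℂ) • (χ : G → ℂ) := by
  rcases h with h | h
  · exact ⟨1, ⟨α, h⟩, Or.inl rfl, by simp⟩
  · exact ⟨-1, ⟨-α, h⟩, Or.inr rfl, by simp⟩

omit [Fintype G] in
theorem isSignedIrr_smul (χ : IrrCharacter G) {ε : ℤ} (hε : ε = 1 ∨ ε = -1) :
    IsSignedIrr ((ε : ℂ) • (χ : G → ℂ)) := by
  rcases hε with rfl | rfl
  · left; simpa using χ.2
  · right; simpa using χ.2

theorem signed_inner_of_ne {α β : G → ℂ} (hα : IsSignedIrr α) (hβ : IsSignedIrr β)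
    (h1 : α ≠ β) (h2 : α ≠ -β) : classInner α β = 0 := by
  obtain ⟨e, χ, he, rfl⟩ := signed_exists_sign hα
  obtain ⟨f, ψ, hf, rfl⟩ := signed_exists_sign hβ
  rw [CharCore.classInner_smul_left, CharCore.classInner_smul_right]
  by_cases hχ : χ = ψ
  · subst hχ
    rcases he with rfl | rfl <;> rcases hf with rfl | rfl <;> simp at h1 h2
  · rw [classInner_irr_of_ne hχ, mul_zero, mul_zero]

theorem signed_eq_of_inner_eq_one {α β : G → ℂ} (hα : IsSignedIrr α) (hβ : IsSignedIrr β)
    (h : classInner α β = 1) : α = β := by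
  by_contra h1
  by_cases h2 : α = -β
  · rw [h2, CharCore.classInner_neg_left, signed_inner_self hβ] at h
    norm_num at h
  · rw [signed_inner_of_ne hα hβ h1 h2] at h
    norm_num at h

theorem signed_eq_or_inner {α β : G → ℂ} (hα : IsSignedIrr α) (hβ : IsSignedIrr β) :
    α = β ∨ α = -β ∨ classInner α β = 0 := by
  by_cases h1 : α = β
  · exact Or.inl h1
  by_cases h2 : α = -β
  · exact Or.inr (Or.inl h2)
  exact Or.inr (Or.inr (signed_inner_of_ne hα hβ h1 h2))

omit [Fintype G] in
theorem signed_apply_one_ne_zero {α : G → ℂ} (h : IsSignedIrr α) : α 1 ≠ 0 := by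
  obtain ⟨e, χ, he, rfl⟩ := signed_exists_sign h
  rcases he with rfl | rfl <;> simp [irr_apply_one_ne_zero χ]

theorem gen_exists_coeff {θ : G → ℂ} (h : IsGeneralizedCharacter G θ) :
    ∃ n : IrrCharacter G → ℤ, θ = ∑ ψ, (n ψ : ℂ) • (ψ : G → ℂ) := by
  obtain ⟨a, b, ha, hb, rfl⟩ := h
  obtain ⟨m, rfl⟩ := IsCharacter.exists_sum ha
  obtain ⟨l, rfl⟩ := IsCharacter.exists_sum hb
  exact ⟨fun ψ => (m ψ : ℤ) - l ψ, by simp [sub_smul, Finset.sum_sub_distrib]⟩

theorem gen_of_coeff (n : IrrCharacter G → ℤ) :
    IsGeneralizedCharacter G (∑ ψ, (n ψ : ℂ) • (ψ : G → ℂ)) :=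
  Coherence.gen_sum _ _ fun ψ _ => by
    rw [Int.cast_smul_eq_zsmul]
    exact Coherence.gen_zsmul (Coherence.irr_gen ψ.2) _

theorem coeff_sq_sum (n : IrrCharacter G → ℤ) :
    classInner (∑ ψ, (n ψ : ℂ) • (ψ : G → ℂ)) (∑ ψ, (n ψ : ℂ) • (ψ : G → ℂ))
      = ((∑ ψ, n ψ * n ψ : ℤ) : ℂ) := by
  rw [classInner_sum_sum]
  simp

/-- The constituents of a virtual character, as a finite family with nonzero coefficients. -/
theorem gen_exists_support {θ : G → ℂ} (h : IsGeneralizedCharacter G θ) :
    ∃ (s : Finset (IrrCharacter G)) (n : IrrCharacter G → ℤ),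
      (∀ ψ ∈ s, n ψ ≠ 0) ∧ θ = ∑ ψ ∈ s, (n ψ : ℂ) • (ψ : G → ℂ) ∧
      classInner θ θ = ((∑ ψ ∈ s, n ψ * n ψ : ℤ) : ℂ) := by
  classical
  obtain ⟨n, rfl⟩ := gen_exists_coeff h
  refine ⟨Finset.univ.filter (fun ψ => n ψ ≠ 0), n, fun ψ hψ => (Finset.mem_filter.mp hψ).2,
    (Finset.sum_filter_of_ne ?_).symm, ?_⟩
  · intro ψ _ hne hn; exact hne (by simp [hn])
  · rw [coeff_sq_sum]
    congr 1
    refine (Finset.sum_filter_of_ne fun ψ _ hne => ?_).symm
    intro hn
    exact hne (by simp [hn])

/-- A virtual character of norm one is irreducible up to sign. -/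
theorem isSignedIrr_of_norm_one {θ : G → ℂ} (h : IsGeneralizedCharacter G θ)
    (h1 : classInner θ θ = 1) : IsSignedIrr θ := by
  obtain ⟨s, n, hn, rfl, hsq⟩ := gen_exists_support h
  rw [hsq] at h1
  have h2 : ∑ ψ ∈ s, n ψ * n ψ = 1 := by exact_mod_cast h1
  have hge : ∀ ψ ∈ s, 1 ≤ n ψ * n ψ := fun ψ hψ => mul_self_pos.mpr (hn ψ hψ)
  have hle : (s.card : ℤ) ≤ 1 := by
    calc (s.card : ℤ) = ∑ ψ ∈ s, (1 : ℤ) := by simp
      _ ≤ _ := (Finset.sum_le_sum hge).trans h2.le
  have hc : s.card = 1 := by
    rcases Nat.le_one_iff_eq_zero_or_eq_one.mp (by exact_mod_cast hle : s.card ≤ 1) with h | h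
    · rw [Finset.card_eq_zero.mp h] at h2; simp at h2
    · exact h
  obtain ⟨ψ, rfl⟩ := Finset.card_eq_one.mp hc
  rw [Finset.sum_singleton] at h2 ⊢
  exact isSignedIrr_smul ψ (Int.eq_one_or_neg_one_of_mul_eq_one h2)

/-- A virtual character of norm two is a difference of two orthogonal signed irreducibles. -/
theorem exists_sub_of_norm_two {θ : G → ℂ} (h : IsGeneralizedCharacter G θ)
    (h1 : classInner θ θ = 2) :
    ∃ α β : G → ℂ, IsSignedIrr α ∧ IsSignedIrr β ∧ classInner α β = 0 ∧ θ = α - β := by
  classical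
  obtain ⟨s, n, hn, rfl, hsq⟩ := gen_exists_support h
  rw [hsq] at h1
  have h2 : ∑ ψ ∈ s, n ψ * n ψ = 2 := by exact_mod_cast h1
  have hsq2 : ∀ ψ ∈ s, n ψ * n ψ = 1 := by
    intro ψ hψ
    have hle : n ψ * n ψ ≤ 2 :=
      h2 ▸ Finset.single_le_sum (fun φ _ => mul_self_nonneg (n φ)) hψ
    have hpos : 0 < n ψ * n ψ := mul_self_pos.mpr (hn ψ hψ)
    have : -1 ≤ n ψ ∧ n ψ ≤ 1 := ⟨by nlinarith, by nlinarith⟩
    have := hn ψ hψ
    rcases (by omega : n ψ = 1 ∨ n ψ = -1) with e | e <;> rw [e] <;> norm_num
  rw [Finset.sum_congr rfl hsq2] at h2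
  have hc : s.card = 2 := by simp at h2; exact_mod_cast h2
  obtain ⟨a, b, hab, rfl⟩ := Finset.card_eq_two.mp hc
  have hs : ∀ ψ ∈ ({a, b} : Finset (IrrCharacter G)), n ψ = 1 ∨ n ψ = -1 := fun ψ hψ =>
    Int.eq_one_or_neg_one_of_mul_eq_one (hsq2 ψ hψ)
  refine ⟨_, -((n b : ℂ) • (b : G → ℂ)), isSignedIrr_smul a (hs a (by simp)),
    (isSignedIrr_smul b (hs b (by simp))).neg, ?_, ?_⟩
  · rw [CharCore.classInner_neg_right, CharCore.classInner_smul_left,
      CharCore.classInner_smul_right, classInner_irr_of_ne hab]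
    simp
  · rw [Finset.sum_pair hab, sub_neg_eq_add]

theorem signed_inner_gen_int {α β : G → ℂ} (hα : IsGeneralizedCharacter G α)
    (hβ : IsGeneralizedCharacter G β) : ∃ n : ℤ, classInner α β = n :=
  Coherence.inner_gen_int hα hβ

/-- Mixed orthogonality of two differences of signed irreducibles vanishing at one. -/
theorem orthogonal_of_mixed {α β γ δ : G → ℂ} (hα : IsSignedIrr α) (hβ : IsSignedIrr β)
    (hγ : IsSignedIrr γ) (hδ : IsSignedIrr δ) {u v : ℝ} (hu : u ≠ 0) (hv : v ≠ 0)
    (hab : classInner α β = 0) (hcd : classInner γ δ = 0)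
    (hmix : classInner (α - β) ((u : ℂ) • γ - (v : ℂ) • δ) = 0) (h1 : α 1 = β 1)
    (h2 : (u : ℂ) * γ 1 = (v : ℂ) * δ 1) :
    classInner α γ = 0 ∧ classInner α δ = 0 ∧ classInner β γ = 0 ∧ classInner β δ = 0 := by
  have hu' : (u : ℂ) ≠ 0 := by exact_mod_cast hu
  have hv' : (v : ℂ) ≠ 0 := by exact_mod_cast hv
  have hba : classInner β α = 0 := by rw [← CharCore.conj_classInner, hab, map_zero]
  have hdc : classInner δ γ = 0 := by rw [← CharCore.conj_classInner, hcd, map_zero]
  have key : (u : ℂ) * (classInner α γ - classInner β γ)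
      = (v : ℂ) * (classInner α δ - classInner β δ) := by
    rw [CharCore.classInner_sub_left, CharCore.classInner_sub_right, CharCore.classInner_sub_right,
      CharCore.classInner_smul_right, CharCore.classInner_smul_right, CharCore.classInner_smul_right,
      CharCore.classInner_smul_right, Complex.conj_ofReal, Complex.conj_ofReal] at hmix
    linear_combination hmix
  -- if a signed irreducible meets `γ` it is orthogonal to `δ`
  have sep : ∀ {χ : G → ℂ}, IsSignedIrr χ → ∀ {η η' : G → ℂ}, IsSignedIrr η →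
      classInner η η' = 0 → classInner χ η ≠ 0 → classInner χ η' = 0 := by
    intro χ hχ η η' hη h0 hne
    rcases signed_eq_or_inner hχ hη with e | e | e
    · rw [e]; exact h0
    · rw [e, CharCore.classInner_neg_left, h0, neg_zero]
    · exact absurd e hne
  have sep' : ∀ {η : G → ℂ}, IsSignedIrr η → ∀ {χ χ' : G → ℂ}, IsSignedIrr χ →
      classInner χ χ' = 0 → classInner χ η ≠ 0 → classInner χ' η = 0 := by
    intro η hη χ χ' hχ h0 hne
    have h3 : classInner η χ ≠ 0 := fun h => hne (by rw [← CharCore.conj_classInner, h, map_zero])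
    rw [← CharCore.conj_classInner, sep hη hχ h0 h3, map_zero]
  rcases signed_eq_or_inner hα hγ with e | e | a0
  · exfalso
    have ne : classInner α γ ≠ 0 := by rw [e, signed_inner_self hγ]; norm_num
    rw [sep hα hγ hcd ne, sep' hγ hα hab ne, e, signed_inner_self hγ] at key
    rcases signed_eq_or_inner hβ hδ with f | f | f
    · rw [f, signed_inner_self hδ] at key
      have : γ 1 = δ 1 := by rw [← e, ← f]; exact h1
      rw [this] at h2
      have h3 : (u : ℂ) = v := mul_right_cancel₀ (signed_apply_one_ne_zero hδ) h2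
      apply hu'; linear_combination key / 2 + h3 / 2
    · rw [f, CharCore.classInner_neg_left, signed_inner_self hδ] at key
      have : γ 1 = -δ 1 := by rw [← e]; rw [f] at h1; exact h1
      rw [this] at h2
      have h3 : -(u : ℂ) = v := mul_right_cancel₀ (signed_apply_one_ne_zero hδ) (by linear_combination h2)
      apply hu'; linear_combination key / 2 - h3 / 2
    · rw [f] at key; apply hu'; linear_combination key
  · exfalso
    have ne : classInner α γ ≠ 0 := by
      rw [e, CharCore.classInner_neg_left, signed_inner_self hγ]; norm_num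
    rw [sep hα hγ hcd ne, sep' hγ hα hab ne, e, CharCore.classInner_neg_left,
      signed_inner_self hγ] at key
    rcases signed_eq_or_inner hβ hδ with f | f | f
    · rw [f, signed_inner_self hδ] at key
      have : -γ 1 = δ 1 := by rw [e, f] at h1; exact h1
      rw [← this] at h2
      have h3 : -(v : ℂ) = u := mul_right_cancel₀ (signed_apply_one_ne_zero hγ) (by linear_combination -h2)
      apply hu'; linear_combination -key / 2 - h3 / 2
    · rw [f, CharCore.classInner_neg_left, signed_inner_self hδ] at key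
      have : γ 1 = δ 1 := by
        rw [e, f] at h1; simpa using h1
      rw [this] at h2
      have h3 : (u : ℂ) = v := mul_right_cancel₀ (signed_apply_one_ne_zero hδ) h2
      apply hu'; linear_combination -key / 2 + h3 / 2
    · rw [f] at key; apply hu'; linear_combination -key
  · rw [a0] at key
    by_cases b0 : classInner β γ = 0
    · rw [b0] at key
      have key' : classInner α δ = classInner β δ := by
        have : classInner α δ - classInner β δ = 0 :=
          mul_left_cancel₀ hv' (by rw [← key]; ring)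
        exact sub_eq_zero.mp this
      by_cases d0 : classInner α δ = 0
      · exact ⟨a0, d0, b0, key' ▸ d0⟩
      · exact absurd (key'.trans (sep' hδ hα hab d0)) d0
    · exfalso
      have hd := sep hβ hγ hcd b0
      rw [hd] at key
      by_cases d0 : classInner α δ = 0
      · rw [d0] at key
        exact b0 (mul_left_cancel₀ hu' (by linear_combination -key))
      · rcases signed_eq_or_inner hβ hγ with f | f | f
        · rcases signed_eq_or_inner hα hδ with g | g | g
          · rw [f, g, signed_inner_self hγ, signed_inner_self hδ] at key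
            have : δ 1 = γ 1 := by rw [← f, ← g]; exact h1
            rw [this] at h2
            have h3 : (u : ℂ) = v := mul_right_cancel₀ (signed_apply_one_ne_zero hγ) h2
            apply hu'; linear_combination -key / 2 + h3 / 2
          · rw [f, g, signed_inner_self hγ, CharCore.classInner_neg_left,
              signed_inner_self hδ] at key
            have : -δ 1 = γ 1 := by rw [f, g] at h1; exact h1
            rw [← this] at h2
            have h3 : -(u : ℂ) = v := mul_right_cancel₀ (signed_apply_one_ne_zero hδ) (by linear_combination h2)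
            apply hu'; linear_combination -key / 2 - h3 / 2
          · exact d0 g
        · rcases signed_eq_or_inner hα hδ with g | g | g
          · rw [f, g, CharCore.classInner_neg_left, signed_inner_self hγ,
              signed_inner_self hδ] at key
            have : δ 1 = -γ 1 := by rw [f, g] at h1; exact h1
            rw [this] at h2
            have h3 : -(v : ℂ) = u := mul_right_cancel₀ (signed_apply_one_ne_zero hγ) (by linear_combination -h2)
            apply hu'; linear_combination key / 2 - h3 / 2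
          · rw [f, g, CharCore.classInner_neg_left, CharCore.classInner_neg_left,
              signed_inner_self hγ, signed_inner_self hδ] at key
            have : δ 1 = γ 1 := by rw [f, g] at h1; simpa using h1
            rw [this] at h2
            have h3 : (u : ℂ) = v := mul_right_cancel₀ (signed_apply_one_ne_zero hγ) h2
            apply hu'; linear_combination key / 2 + h3 / 2
          · exact d0 g
        · exact b0 f

end Cfsg.Agent.OddChar
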