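import Cfsg.Agent.CharDeep.Ext.Inertia
import Cfsg.Agent.CharDeep.Ext.Wrap
import Cfsg.Agent.Lib.CharCore.Linear
import Cfsg.Agent.Lib.CharClifford.Central
import Cfsg.Agent.OddChar.Normal
import Mathlib.GroupTheory.FiniteAbelian.Duality
import Mathlib.RingTheory.RootsOfUnity.AlgebraicallyClosed
import Mathlib.Analysis.Complex.Polynomial.Basic

set_option autoImplicit false

/-!
Clifford theory over a normal subgroup with abelian quotient in the inertia group.
-/

namespace Cfsg.Agent.OddChar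

open Cfsg
open scoped ComplexConjugate

section Quot

variable {T : Type*} [Group T] [Fintype T] (H : Subgroup T) [H.Normal]

/-- `Ind 1` from a normal subgroup with abelian quotient is a sum of linear characters. -/
theorem ind_one_eq_sum_linear (hab : ∀ x y : T, x * y * x⁻¹ * y⁻¹ ∈ H) :
    ∃ D : Finset (T →* ℂˣ), D.card = H.index ∧ (∀ l ∈ D, ∀ h ∈ H, l h = 1) ∧
      indFun H (fun _ => (1 : ℂ)) = ∑ l ∈ D, fun t => (l t : ℂ) := by
  classical
  letI : CommGroup (T ⧸ H) := { (inferInstance : Group (T ⧸ H)) with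
    mul_comm := fun a b => by
      obtain ⟨x, rfl⟩ := QuotientGroup.mk_surjective a
      obtain ⟨y, rfl⟩ := QuotientGroup.mk_surjective b
      rw [← QuotientGroup.mk_mul, ← QuotientGroup.mk_mul, QuotientGroup.eq]
      have := hab y⁻¹ x⁻¹
      simpa [mul_assoc] using this }
  obtain ⟨e⟩ := CommGroup.monoidHom_mulEquiv_of_hasEnoughRootsOfUnity (T ⧸ H) ℂ
  have : Finite ((T ⧸ H) →* ℂˣ) := Finite.of_equiv _ e.toEquiv.symm
  have : Fintype ((T ⧸ H) →* ℂˣ) := Fintype.ofFinite _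
  have hinj : Function.Injective fun l : (T ⧸ H) →* ℂˣ => l.comp (QuotientGroup.mk' H) :=
    fun a b h => MonoidHom.cancel_right (QuotientGroup.mk'_surjective H) |>.mp h
  have hD : Fintype.card ((T ⧸ H) →* ℂˣ) = H.index := by
    rw [← Nat.card_eq_fintype_card, CommGroup.card_monoidHom_of_hasEnoughRootsOfUnity,
      Subgroup.index]
  refine ⟨Finset.univ.image fun l : (T ⧸ H) →* ℂˣ => l.comp (QuotientGroup.mk' H),
    by rw [Finset.card_image_of_injective _ hinj, Finset.card_univ, hD], ?_, ?_⟩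
  · intro l hl h hh
    obtain ⟨l', -, rfl⟩ := Finset.mem_image.mp hl
    rw [MonoidHom.comp_apply, QuotientGroup.mk'_apply, (QuotientGroup.eq_one_iff h).mpr hh,
      map_one]
  rw [Finset.sum_image hinj.injOn]
  funext t
  rw [Finset.sum_apply]
  by_cases ht : t ∈ H
  · have h1 := CharDeep.Ext.indFun_coe (φ := fun _ : H => (1 : ℂ)) H (fun _ _ => rfl) ⟨t, ht⟩
    rw [h1, mul_one, Finset.sum_congr rfl fun l _ => by
      rw [MonoidHom.comp_apply, QuotientGroup.mk'_apply, (QuotientGroup.eq_one_iff t).mpr ht,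
        map_one, Units.val_one], Finset.sum_const, Finset.card_univ, hD, nsmul_eq_mul, mul_one]
  · rw [CharDeep.Ext.indFun_notMem H _ ht]
    obtain ⟨l₀, hl₀⟩ := CommGroup.exists_apply_ne_one_of_hasEnoughRootsOfUnity (T ⧸ H) ℂ
      (a := (t : T ⧸ H)) (mt (QuotientGroup.eq_one_iff t).mp ht)
    have key := Equiv.sum_comp (Equiv.mulLeft l₀)
      (fun l : (T ⧸ H) →* ℂˣ => (l (t : T ⧸ H) : ℂ))
    simp only [Equiv.coe_mulLeft, MonoidHom.mul_apply, Units.val_mul, ← Finset.mul_sum] at key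
    by_contra h0
    refine hl₀ (Units.ext (mul_right_cancel₀ (b := ∑ l : (T ⧸ H) →* ℂˣ, (l (t : T ⧸ H) : ℂ)) ?_
      (key.trans (one_mul _).symm)))
    intro h
    exact h0 h.symm

/-- An invariant irreducible character of a normal subgroup with abelian quotient induces a
multiple of a sum of irreducibles of one degree. -/
theorem ind_invariant_abelian [Fintype H] (hab : ∀ x y : T, x * y * x⁻¹ * y⁻¹ ∈ H) {θ : H → ℂ}
    (hθ : IsIrrCharacter H θ) (hinv : CharDeep.Ext.Inv H θ) :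
    ∃ (e : ℕ) (C : Finset (IrrCharacter T)), 0 < e ∧ e ^ 2 * C.card = H.index ∧
      indFun H θ = (e : ℂ) • ∑ ψ ∈ C, (ψ : T → ℂ) ∧
      ∀ ψ ∈ C, (fun h : H => (ψ : T → ℂ) h) = (e : ℂ) • θ ∧ (ψ : T → ℂ) 1 = e * θ 1 := by
  classical
  have hθc := CharCore.IsIrrCharacter.isCharacter hθ
  obtain ⟨a, ha⟩ := CharCore.IsCharacter.exists_sum (CharInd.isCharacter_indFun H hθc)
  have hsq : ∑ ψ, a ψ * a ψ = H.index := by
    have h := CharDeep.Ext.classInner_indFun_self H hinv hθ
    rw [ha, CharCore.classInner_sum_sum] at h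
    simp only [map_natCast] at h
    exact_mod_cast h
  have hcoef : ∀ ψ : IrrCharacter T, classInner (fun h : H => (ψ : T → ℂ) h) θ = a ψ := fun ψ => by
    rw [← CharInd.classInner_indFun_right H θ (CharCore.irr_isClassFunction ψ),
      ← CharCore.conj_classInner, ha, CharCore.classInner_sum_all, map_natCast]
  have hres : ∀ ψ : IrrCharacter T, a ψ ≠ 0 →
      (fun h : H => (ψ : T → ℂ) h) = (a ψ : ℂ) • θ := fun ψ hψ => by
    have := CharDeep.Ext.restrict_eq_smul H hinv hθ ψ.2 (by rw [hcoef]; exact_mod_cast hψ)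
    rwa [hcoef] at this
  have hdeg : ∀ ψ : IrrCharacter T, a ψ ≠ 0 → (ψ : T → ℂ) 1 = (a ψ : ℂ) * θ 1 := fun ψ hψ => by
    have := congrFun (hres ψ hψ) 1
    simpa using this
  obtain ⟨ψ₀, hψ₀⟩ : ∃ ψ₀, a ψ₀ ≠ 0 := by
    by_contra h
    push Not at h
    exact Subgroup.index_ne_zero_of_finite (H := H) (hsq.symm.trans (by simp [h]))
  obtain ⟨D, -, hDH, hD⟩ := ind_one_eq_sum_linear H hab
  -- `a ψ₀ • Ind θ` is the sum of the twists of `ψ₀`
  have hprod : (a ψ₀ : ℂ) • indFun H θ = ∑ l ∈ D, fun t => (l t : ℂ) * (ψ₀ : T → ℂ) t := by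
    rw [← CharInd.indFun_smul, ← hres ψ₀ hψ₀,
      show (fun h : H => (ψ₀ : T → ℂ) h) = fun h : H => (1 : ℂ) * (ψ₀ : T → ℂ) h by
        funext h; rw [one_mul],
      ← CharInd.indFun_mul H (fun _ => (1 : ℂ)) (CharCore.irr_isClassFunction ψ₀), hD]
    funext t
    simp [Finset.sum_mul, Finset.sum_apply]
  have hall : ∀ ψ : IrrCharacter T, a ψ ≠ 0 → a ψ = a ψ₀ := by
    intro ψ hψ
    have h := congrArg (fun f => classInner f (ψ : T → ℂ)) hprod
    rw [CharCore.classInner_smul_left, ha, CharCore.classInner_sum_all,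
      CharCore.classInner_sum_left] at h
    obtain ⟨l, -, hl⟩ := Finset.exists_ne_zero_of_sum_ne_zero (h.symm.trans_ne
      (mul_ne_zero (Nat.cast_ne_zero.mpr hψ₀) (Nat.cast_ne_zero.mpr hψ)))
    have hirr : IsIrrCharacter T fun t => (l t : ℂ) * (ψ₀ : T → ℂ) t :=
      CharCore.isIrrCharacter_hom_mul l ψ₀.2
    have heq : (⟨_, hirr⟩ : IrrCharacter T) = ψ := by
      by_contra hne
      exact hl (CharCore.classInner_irr_of_ne hne)
    have h1 := congrFun (congrArg Subtype.val heq) 1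
    simp only [map_one, Units.val_one, one_mul, hdeg ψ hψ, hdeg ψ₀ hψ₀] at h1
    exact_mod_cast (mul_right_cancel₀ (CharCore.irr_apply_one_ne_zero ⟨θ, hθ⟩) h1).symm
  refine ⟨a ψ₀, Finset.univ.filter fun ψ => a ψ ≠ 0, Nat.pos_of_ne_zero hψ₀, ?_, ?_, ?_⟩
  · rw [← hsq, ← Finset.sum_filter_of_ne (p := fun ψ => a ψ ≠ 0)
      (fun ψ _ h => left_ne_zero_of_mul h),
      Finset.sum_congr rfl fun ψ hψ => by rw [hall ψ (Finset.mem_filter.mp hψ).2],
      Finset.sum_const, smul_eq_mul, pow_two]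
    ring
  · rw [ha, Finset.smul_sum, Finset.sum_filter]
    refine Finset.sum_congr rfl fun ψ _ => ?_
    by_cases h : a ψ = 0
    · simp [h]
    · rw [if_pos h, hall ψ h]
  · intro ψ hψ
    have h := (Finset.mem_filter.mp hψ).2
    exact ⟨by rw [hres ψ h, hall ψ h], by rw [hdeg ψ h, hall ψ h]⟩

theorem detOrder_dvd_card {G : Type*} [Group G] [Finite G] (χ : G → ℂ) :
    detOrder χ ∣ Nat.card G := by
  refine orderOf_dvd_of_pow_eq_one (funext fun g => ?_)
  rw [Pi.pow_apply, Pi.one_apply, detChar]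
  split_ifs with h
  · rw [← map_pow, ← map_pow, pow_card_eq_one', map_one, map_one]
  · rw [one_pow]

/-- Coprime case: an extension exists, so the ramification is trivial. -/
theorem ind_invariant_abelian_coprime [Fintype H] (hab : ∀ x y : T, x * y * x⁻¹ * y⁻¹ ∈ H)
    {θ : H → ℂ} (hθ : IsIrrCharacter H θ) (hinv : CharDeep.Ext.Inv H θ)
    (hcop : Nat.Coprime (Nat.card H) H.index) :
    ∃ C : Finset (IrrCharacter T), C.card = H.index ∧ indFun H θ = ∑ ψ ∈ C, (ψ : T → ℂ) ∧
      ∀ ψ ∈ C, (fun h : H => (ψ : T → ℂ) h) = θ ∧ (ψ : T → ℂ) 1 = θ 1 := by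
  classical
  obtain ⟨e, C, he, hsq, hind, hC⟩ := ind_invariant_abelian H hab hθ hinv
  obtain ⟨d, -, hd, hd1⟩ := CharClifford.exists_degree_dvd_card hθ
  obtain ⟨χ, ⟨hχ, hχH, -⟩, -⟩ := CharDeep.Ext.exists_ext_detOrder H hθ hinv hd1
    ((hcop.symm.coprime_dvd_right (detOrder_dvd_card θ)).mul_right
      (hcop.symm.coprime_dvd_right hd))
  have h1 : classInner (indFun H θ) χ = 1 := by
    rw [CharInd.classInner_indFun_left H θ (CharCore.irr_isClassFunction ⟨χ, hχ⟩),
      show (fun h : H => χ h) = θ from funext hχH]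
    exact (CharCore.isIrrCharacter_iff.mp hθ).2
  rw [hind, CharCore.classInner_smul_left, CharCore.classInner_sum_left] at h1
  obtain ⟨ψ, hψ, hne⟩ := Finset.exists_ne_zero_of_sum_ne_zero
    (right_ne_zero_of_mul (h1.trans_ne one_ne_zero))
  have heq : ψ = ⟨χ, hχ⟩ := by
    by_contra h
    exact hne (CharCore.classInner_irr_of_ne h)
  have he1 : (e : ℂ) = 1 := by
    have := congrFun (hC ψ hψ).1 (1 : H)
    rw [heq] at this
    simp only [Pi.smul_apply, smul_eq_mul] at this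
    have hθ1 : θ 1 ≠ 0 := CharCore.irr_apply_one_ne_zero ⟨θ, hθ⟩
    refine mul_right_cancel₀ hθ1 ?_
    rw [← this, one_mul]
    exact hχH 1
  obtain rfl : e = 1 := by exact_mod_cast he1
  refine ⟨C, by simpa using hsq, by simpa using hind, fun ψ hψ => ?_⟩
  obtain ⟨a, b⟩ := hC ψ hψ
  exact ⟨by simpa using a, by simpa using b⟩

end Quot

section Correspondence

variable {G : Type*} [Group G] [Fintype G] (H : Subgroup G) [hN : H.Normal]

/-- Induction from the inertia group is injective and preserves irreducibility over `θ`. -/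
theorem inertia_irr_inj {θ : H → ℂ} (hθ : IsIrrCharacter H θ) (T : Subgroup G) [Fintype T]
    (hT : ∀ g : G, g ∈ T ↔ ∀ h : H, θ ⟨g * h * g⁻¹, hN.conj_mem h h.2 g⟩ = θ h) (hHT : H ≤ T) :
    (∀ ψ : IrrCharacter T,
      classInner (indFun (H.subgroupOf T) (fun x => θ (Subgroup.subgroupOfEquivOfLe hHT x))) ψ ≠ 0 →
      IsIrrCharacter G (indFun T (ψ : T → ℂ))) ∧
    ∀ ψ ψ' : IrrCharacter T,
      classInner (indFun (H.subgroupOf T) (fun x => θ (Subgroup.subgroupOfEquivOfLe hHT x))) ψ ≠ 0 →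
      classInner (indFun (H.subgroupOf T) (fun x => θ (Subgroup.subgroupOfEquivOfLe hHT x))) ψ' ≠ 0 →
      indFun T (ψ : T → ℂ) = indFun T (ψ' : T → ℂ) → ψ = ψ' := by
  classical
  set H' := H.subgroupOf T
  set e := Subgroup.subgroupOfEquivOfLe hHT
  have hθ' : IsIrrCharacter H' (fun x => θ (e x)) :=
    CharCore.isIrrCharacter_comp_surjective hθ e.toMonoidHom e.surjective
  haveI : H'.Normal := Subgroup.normal_subgroupOf
  have hinv : CharDeep.Ext.Inv H' (fun x => θ (e x)) := fun t n => (hT t).mp t.2 (e n)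
  obtain ⟨a, ha⟩ := CharCore.IsCharacter.exists_sum
    (CharInd.isCharacter_indFun H' (CharCore.IsIrrCharacter.isCharacter hθ'))
  have hsq : ((∑ ψ, a ψ * a ψ : ℕ) : ℂ) = (H'.index : ℂ) := by
    have h := CharDeep.Ext.classInner_indFun_self H' hinv hθ'
    rw [ha, CharCore.classInner_sum_sum] at h
    simp only [map_natCast] at h
    push_cast
    exact h
  have hind : indFun H θ = ∑ ψ : IrrCharacter T, (a ψ : ℂ) • indFun T (ψ : T → ℂ) := by
    rw [← CharDeep.Ext.indFun_of_le hHT θ,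
      show indFun (H.subgroupOf T) (fun x => θ (Subgroup.subgroupOfEquivOfLe hHT x)) = _ from ha,
      CharInd.indFun_sum]
    exact Finset.sum_congr rfl fun ψ _ => CharInd.indFun_smul T _ _
  have hnorm : classInner (indFun H θ) (indFun H θ) = (H'.index : ℂ) := by
    haveI := Fintype.ofFinite H
    rw [classInner_indFun_normal]
    have hval : ∀ x : G, classInner θ (conjBy H x θ) = if x ∈ T then 1 else 0 := by
      intro x
      split_ifs with hx
      · rw [show conjBy H x θ = θ from funext ((hT x).mp hx)]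
        exact (CharCore.isIrrCharacter_iff.mp hθ).2
      · exact CharCore.classInner_irr_of_ne (χ := ⟨θ, hθ⟩) (ψ := ⟨_, conjBy_isIrr H x hθ⟩)
          fun h => hx ((hT x).mpr fun n => (congrFun (congrArg Subtype.val h) n).symm)
    rw [Finset.sum_congr rfl fun x _ => hval x, Finset.sum_boole, ← Fintype.card_subtype,
      Fintype.card_eq_nat_card,
      show Nat.card T = Nat.card H * H'.index by
        rw [← H'.card_mul_index, Nat.card_congr e.toEquiv],
      Nat.cast_mul, inv_mul_cancel_left₀ (CharInd.natCard_subgroup_ne_zero H)]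
  have hmain := CharDeep.Ext.irr_of_norm_sum (fun ψ : IrrCharacter T => indFun T (ψ : T → ℂ))
    (fun ψ => CharInd.isCharacter_indFun T (CharCore.irr_isCharacter ψ))
    (fun ψ => by
      rw [CharInd.indFun_apply_one]
      exact mul_ne_zero (Nat.cast_ne_zero.mpr Subgroup.index_ne_zero_of_finite)
        (CharCore.irr_apply_one_ne_zero ψ))
    a (by rw [← hind, hnorm, hsq])
  have hpos : ∀ ψ : IrrCharacter T,
      classInner (indFun H' (fun x => θ (e x))) ψ ≠ 0 → a ψ ≠ 0 := fun ψ h h0 => h (by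
    rw [ha, CharCore.classInner_sum_all, h0, Nat.cast_zero])
  refine ⟨fun ψ h => (hmain ψ (hpos ψ h)).1, fun ψ ψ' h h' heq => ?_⟩
  by_contra hne
  obtain ⟨hirr, hcoef⟩ := hmain ψ (hpos ψ h)
  choose M hM using fun j => CharCore.IsCharacter.exists_classInner_eq_natCast
    (CharInd.isCharacter_indFun T (CharCore.irr_isCharacter (j : IrrCharacter T)))
    (CharCore.IsIrrCharacter.isCharacter hirr)
  rw [CharCore.classInner_sum_left] at hcoef
  simp only [CharCore.classInner_smul_left, hM] at hcoef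
  have hc : ∑ j, a j * M j = a ψ := by exact_mod_cast hcoef
  have hM1 : M ψ = 1 ∧ M ψ' = 1 := by
    have h1 := (CharCore.isIrrCharacter_iff.mp hirr).2
    have h2 : classInner (indFun T (ψ' : T → ℂ)) (indFun T (ψ : T → ℂ)) = 1 := by
      rw [← heq]; exact h1
    exact ⟨by exact_mod_cast (hM ψ).symm.trans h1, by exact_mod_cast (hM ψ').symm.trans h2⟩
  have hle : ∑ j ∈ ({ψ, ψ'} : Finset (IrrCharacter T)), a j * M j ≤ ∑ j, a j * M j :=
    Finset.sum_le_sum_of_subset (Finset.subset_univ _)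
  rw [Finset.sum_pair hne, hM1.1, hM1.2, hc, mul_one, mul_one] at hle
  have := hpos ψ' h'
  omega

/-- Decomposition of `Ind θ` when the inertia quotient is abelian. -/
theorem ind_abelian_inertia {θ : H → ℂ} (hθ : IsIrrCharacter H θ) (T : Subgroup G)
    (hT : ∀ g : G, g ∈ T ↔ ∀ h : H, θ ⟨g * h * g⁻¹, hN.conj_mem h h.2 g⟩ = θ h)
    (hab : ∀ x ∈ T, ∀ y ∈ T, x * y * x⁻¹ * y⁻¹ ∈ H) :
    ∃ (e : ℕ) (C : Finset (G → ℂ)), 0 < e ∧ (∀ χ ∈ C, IsIrrCharacter G χ) ∧
      e ^ 2 * C.card = H.relIndex T ∧ (Nat.Coprime (Nat.card H) (H.relIndex T) → e = 1) ∧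
      indFun H θ = (e : ℂ) • ∑ χ ∈ C, χ ∧ ∀ χ ∈ C, χ 1 = (T.index : ℂ) * e * θ 1 := by
  classical
  have hθcl := CharCore.IsCharacter.isClassFunction (CharCore.IsIrrCharacter.isCharacter hθ)
  have hHT : H ≤ T := fun g hg => (hT g).mpr fun h => hθcl h ⟨g, hg⟩
  haveI := Fintype.ofFinite T
  haveI : (H.subgroupOf T).Normal := Subgroup.normal_subgroupOf
  set ϑ := fun x => θ (Subgroup.subgroupOfEquivOfLe hHT x) with hϑdef
  have hϑ : IsIrrCharacter (H.subgroupOf T) ϑ :=
    CharCore.isIrrCharacter_comp_surjective hθ (Subgroup.subgroupOfEquivOfLe hHT).toMonoidHom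
      (Subgroup.subgroupOfEquivOfLe hHT).surjective
  have hinv : CharDeep.Ext.Inv (H.subgroupOf T) ϑ := fun t n =>
    (hT t).mp t.2 (Subgroup.subgroupOfEquivOfLe hHT n)
  have hab' : ∀ x y : T, x * y * x⁻¹ * y⁻¹ ∈ H.subgroupOf T := fun x y => hab _ x.2 _ y.2
  obtain ⟨hirr, hinj⟩ := inertia_irr_inj H hθ T hT hHT
  obtain ⟨e, C, he, hsq, hind, hC⟩ := ind_invariant_abelian _ hab' hϑ hinv
  have hne : ∀ ψ ∈ C, classInner (indFun (H.subgroupOf T) ϑ) (ψ : T → ℂ) ≠ 0 := by
    intro ψ hψ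
    rw [hind, CharCore.classInner_smul_left, CharCore.classInner_sum_left,
      Finset.sum_eq_single ψ (fun φ _ h => CharCore.classInner_irr_of_ne h) (fun h => absurd hψ h),
      CharCore.classInner_irr_self, mul_one]
    exact Nat.cast_ne_zero.mpr he.ne'
  have hinjC : Set.InjOn (fun ψ : IrrCharacter T => indFun T (ψ : T → ℂ)) C :=
    fun ψ hψ ψ' hψ' h => hinj ψ ψ' (hne ψ hψ) (hne ψ' hψ') h
  refine ⟨e, C.image fun ψ : IrrCharacter T => indFun T (ψ : T → ℂ), he, ?_, ?_, ?_, ?_, ?_⟩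
  · intro χ hχ
    obtain ⟨ψ, hψ, rfl⟩ := Finset.mem_image.mp hχ
    exact hirr ψ (hne ψ hψ)
  · rw [Finset.card_image_of_injOn hinjC]; exact hsq
  · intro hcop
    obtain ⟨C', hc', hind', hC'⟩ := ind_invariant_abelian_coprime _ hab' hϑ hinv (by
      rw [Nat.card_congr (Subgroup.subgroupOfEquivOfLe hHT).toEquiv]; exact hcop)
    obtain ⟨ψ, hψ⟩ : C'.Nonempty := Finset.card_pos.mp (hc' ▸ Nat.pos_of_ne_zero
      Subgroup.index_ne_zero_of_finite)
    have h := congrArg (fun f => classInner f (ψ : T → ℂ)) (hind.symm.trans hind')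
    simp only [CharCore.classInner_smul_left, CharCore.classInner_sum_left,
      CharCore.classInner_irr, Finset.sum_ite_eq', if_pos hψ] at h
    split_ifs at h with hm
    · exact_mod_cast (show (e : ℂ) = 1 by simpa using h)
    · simp at h
  · rw [Finset.sum_image hinjC, ← CharDeep.Ext.indFun_of_le hHT θ,
      show indFun (H.subgroupOf T) (fun x => θ (Subgroup.subgroupOfEquivOfLe hHT x)) = _ from hind,
      CharInd.indFun_smul, CharInd.indFun_sum]
  · intro χ hχ
    obtain ⟨ψ, hψ, rfl⟩ := Finset.mem_image.mp hχ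
    rw [CharInd.indFun_apply_one, (hC ψ hψ).2, mul_assoc]
    congr 2

end Correspondence

end Cfsg.Agent.OddChar
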