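import Cfsg.Agent.Lib.CharClifford.Eigen
import Mathlib.LinearAlgebra.Projection

set_option autoImplicit false

/-!
The congruence `χ (x y) ≡ χ y` modulo `1 - ζ` for `x` of prime order commuting with `y`.
-/

namespace Cfsg.Agent.OddChar

open Cfsg Module
open Cfsg.Agent.CharClifford (exists_eigenbasis_of_pow_eq_one trace_of_eigenbasis)

/-- The trace of a finite-order endomorphism is integral. -/
theorem isIntegral_trace_of_pow_eq_one {V : Type*} [AddCommGroup V] [Module ℂ V]
    [FiniteDimensional ℂ V] (f : Module.End ℂ V) {n : ℕ} (hn : n ≠ 0) (hf : f ^ n = 1) :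
    IsIntegral ℤ (LinearMap.trace ℂ V f) := by
  obtain ⟨b, μ, hμ, hb⟩ := exists_eigenbasis_of_pow_eq_one f hn hf
  rw [trace_of_eigenbasis f b μ hb]
  exact IsIntegral.sum _ fun i _ =>
    IsIntegral.of_pow (Nat.pos_of_ne_zero hn) (by rw [hμ]; exact isIntegral_one)

/-- For commuting endomorphisms `f`, `h` of finite order, `trace (f * h) - trace h` is a multiple
of `1 - ζ` when `f ^ p = 1`. -/
theorem exists_trace_sub_eq {V : Type*} [AddCommGroup V] [Module ℂ V] [FiniteDimensional ℂ V]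
    (f h : Module.End ℂ V) (hc : Commute f h) {p N : ℕ} (hp : p ≠ 0) (hN : N ≠ 0)
    (hf : f ^ p = 1) (hh : h ^ N = 1) {ζ : ℂ} (hζ : IsPrimitiveRoot ζ p) :
    ∃ ω : ℂ, IsIntegral ℤ ω ∧
      LinearMap.trace ℂ V (f * h) - LinearMap.trace ℂ V h = (1 - ζ) * ω := by
  classical
  obtain ⟨b, μ, hμ, hb⟩ := exists_eigenbasis_of_pow_eq_one f hp hf
  have : NeZero p := ⟨hp⟩
  have hμ' : ∀ i, ∃ j : Fin p, ζ ^ (j : ℕ) = μ i := fun i =>
    let ⟨j, hj, he⟩ := hζ.eq_pow_of_pow_eq_one (hμ i); ⟨⟨j, hj⟩, he⟩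
  choose e he using hμ'
  let P : Fin p → Module.End ℂ V := fun j => b.constr ℂ fun i => if e i = j then b i else 0
  have hPb : ∀ j i, P j (b i) = if e i = j then b i else 0 := fun j i => b.constr_basis ℂ _ i
  have hfsum : f - 1 = ∑ j : Fin p, (ζ ^ (j : ℕ) - 1) • P j := b.ext fun i => by
    simp [hb, hPb, he, sub_smul]
  -- `h` preserves the eigenspaces of `f`, hence commutes with each `P j`.
  have hrepr : ∀ (i k : Fin (finrank ℂ V)), b.repr (h (b i)) k ≠ 0 → e k = e i := by
    intro i k hk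
    have h1 : f (h (b i)) = μ i • h (b i) := by
      rw [← Module.End.mul_apply, hc.eq, Module.End.mul_apply, hb, map_smul]
    have h2 : ∀ v : V, b.repr (f v) k = μ k * b.repr v k := by
      intro v
      have : (Finsupp.lapply k).comp (b.repr.toLinearMap.comp f) =
          μ k • (Finsupp.lapply k).comp b.repr.toLinearMap := b.ext fun m => by
        by_cases hm : m = k
        · subst hm; simp [hb]
        · simp [hb, hm]
      exact LinearMap.congr_fun this v
    have h3 : μ k * b.repr (h (b i)) k = μ i * b.repr (h (b i)) k := by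
      rw [← h2, h1]; simp
    have h4 := mul_right_cancel₀ hk h3
    rw [← he k, ← he i] at h4
    exact Fin.ext (hζ.pow_inj (e k).2 (e i).2 h4)
  have hPc : ∀ j, Commute (P j) h := by
    intro j
    refine b.ext fun i => ?_
    rw [Module.End.mul_apply, Module.End.mul_apply, hPb]
    conv_lhs => rw [← b.sum_repr (h (b i))]
    rw [map_sum]
    simp only [map_smul, hPb]
    split_ifs with hij
    · conv_rhs => rw [← b.sum_repr (h (b i))]
      refine Finset.sum_congr rfl fun k _ => ?_
      by_cases hk : b.repr (h (b i)) k = 0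
      · simp [hk]
      · rw [if_pos ((hrepr i k hk).trans hij)]
    · rw [map_zero]
      refine Finset.sum_eq_zero fun k _ => ?_
      by_cases hk : b.repr (h (b i)) k = 0
      · simp [hk]
      · rw [if_neg (fun hkj => hij ((hrepr i k hk).symm.trans hkj)), smul_zero]
  have hPP : ∀ j, P j * P j = P j := fun j => b.ext fun i => by
    rw [Module.End.mul_apply, hPb]
    split_ifs with hij
    · rw [hPb, if_pos hij]
    · rw [map_zero]
  have hint : ∀ j, IsIntegral ℤ (LinearMap.trace ℂ V (P j * h)) := by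
    intro j
    set Q := 1 - P j with hQ
    have hQQ : Q * Q = Q := by rw [hQ]; simp [mul_sub, sub_mul, hPP]
    have hPQ : P j * Q = 0 := by rw [hQ]; simp [mul_sub, hPP]
    have hQP : Q * P j = 0 := by rw [hQ]; simp [sub_mul, hPP]
    have hpow : ∀ m : ℕ, (P j * h + Q) ^ m = P j * h ^ m + Q := by
      intro m
      induction m with
      | zero => simp [hQ]
      | succ m ih =>
        have hcm : Commute (h ^ m) (P j) := ((hPc j).symm).pow_left m
        have hcq : Commute (h ^ m) Q := (Commute.one_right _).sub_right hcm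
        rw [pow_succ, ih, mul_add, add_mul, add_mul]
        have e1 : P j * h ^ m * (P j * h) = P j * h ^ (m + 1) := by
          rw [← mul_assoc, mul_assoc (P j) (h ^ m) (P j), hcm.eq, ← mul_assoc, hPP, mul_assoc,
            ← pow_succ]
        have e2 : P j * h ^ m * Q = 0 := by
          rw [mul_assoc, hcq.eq, ← mul_assoc, hPQ, zero_mul]
        have e3 : Q * (P j * h) = 0 := by rw [← mul_assoc, hQP, zero_mul]
        rw [e1, e2, e3, hQQ]
        simp
    have h1 : (P j * h + Q) ^ N = 1 := by rw [hpow, hh, mul_one, hQ]; simp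
    have h2 := isIntegral_trace_of_pow_eq_one _ hN h1
    have h3 : LinearMap.trace ℂ V Q = ∑ i, (if e i = j then (0 : ℂ) else 1) := by
      refine trace_of_eigenbasis Q b _ fun i => ?_
      rw [hQ, LinearMap.sub_apply, Module.End.one_apply, hPb]
      split_ifs <;> simp
    rw [map_add, h3] at h2
    have h4 : IsIntegral ℤ (∑ i, (if e i = j then (0 : ℂ) else 1)) :=
      IsIntegral.sum _ fun i _ => by
        split_ifs
        · exact isIntegral_zero
        · exact isIntegral_one
    simpa using h2.sub h4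
  refine ⟨∑ j : Fin p, (-∑ k ∈ Finset.range (j : ℕ), ζ ^ k) * LinearMap.trace ℂ V (P j * h),
    IsIntegral.sum _ fun j _ => ?_, ?_⟩
  · exact (IsIntegral.sum _ fun k _ => (IsIntegral.of_pow (Nat.pos_of_ne_zero hp) (hζ.pow_eq_one ▸ isIntegral_one)).pow k).neg.mul
      (hint j)
  rw [← map_sub, show f * h - h = (f - 1) * h by rw [sub_mul, one_mul], hfsum, Finset.sum_mul,
    map_sum, Finset.mul_sum]
  refine Finset.sum_congr rfl fun j _ => ?_
  rw [smul_mul_assoc, map_smul, smul_eq_mul, ← mul_assoc, mul_neg, mul_neg_geom_sum, neg_sub]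

theorem isCharacter_mul_congr {G : Type*} [Group G] [Finite G] {χ : G → ℂ}
    (hχ : IsCharacter G χ) {p : ℕ} (hp : p ≠ 0) {x y : G} (hx : x ^ p = 1)
    (hxy : x * y = y * x) {ζ : ℂ} (hζ : IsPrimitiveRoot ζ p) :
    ∃ ω : ℂ, IsIntegral ℤ ω ∧ χ (x * y) - χ y = (1 - ζ) * ω := by
  obtain ⟨n, ρ, rfl⟩ := hχ
  obtain ⟨ω, hω, he⟩ := exists_trace_sub_eq (ρ x) (ρ y) ((show Commute x y from hxy).map ρ) hp
    (orderOf_pos y).ne' (by rw [← map_pow, hx, map_one])
    (by rw [← map_pow, pow_orderOf_eq_one, map_one]) hζ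
  refine ⟨ω, hω, ?_⟩
  rw [← he, ← map_mul]
  rfl

theorem isGeneralizedCharacter_mul_congr {G : Type*} [Group G] [Finite G] {χ : G → ℂ}
    (hχ : IsGeneralizedCharacter G χ) {p : ℕ} (hp : p ≠ 0) {x y : G} (hx : x ^ p = 1)
    (hxy : x * y = y * x) {ζ : ℂ} (hζ : IsPrimitiveRoot ζ p) :
    ∃ ω : ℂ, IsIntegral ℤ ω ∧ χ (x * y) - χ y = (1 - ζ) * ω := by
  obtain ⟨a, c, ha, hc, rfl⟩ := hχ
  obtain ⟨ωa, ha1, ha2⟩ := isCharacter_mul_congr ha hp hx hxy hζ
  obtain ⟨ωc, hc1, hc2⟩ := isCharacter_mul_congr hc hp hx hxy hζ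
  refine ⟨ωa - ωc, ha1.sub hc1, ?_⟩
  simp only [Pi.sub_apply]
  linear_combination ha2 - hc2

end Cfsg.Agent.OddChar
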