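import Cfsg.Agent.OddChar.GridSearch
import Mathlib.Data.Fintype.EquivFin
import Mathlib.Data.Fin.VecNotation
import Mathlib.Tactic.Tauto

set_option autoImplicit false

/-!
Decomposition of an `R × C` grid of norm three vectors into row, column and cell atoms.
-/

namespace Cfsg.Agent.OddChar.Grid

variable {ι : Type*} [Fintype ι] [DecidableEq ι]
variable {R C : Type*} [Fintype R] [Fintype C] [DecidableEq R] [DecidableEq C]

/-- The Gram matrix of the grid. -/
def IsGrid (v : R → C → ι → ℤ) : Prop :=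
  ∀ i j i' j', ∑ k, v i j k * v i' j' k =
    (if i = i' then 1 else 0) + (if j = j' then 1 else 0) +
      (if i = i' then 1 else 0) * (if j = j' then 1 else 0)

omit [DecidableEq ι] [Fintype R] [Fintype C] in
theorem IsGrid.swap {v : R → C → ι → ℤ} (h : IsGrid v) : IsGrid (fun j i => v i j) := by
  intro j i j' i'
  rw [h]; ring

omit [Fintype ι] [DecidableEq ι] [Fintype R] [DecidableEq R] in
theorem exists_fin_four (hC : 4 ≤ Fintype.card C) {j j' : C} (h : j ≠ j') :
    ∃ f : Fin 4 → C, Function.Injective f ∧ f 0 = j ∧ f 1 = j' := by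
  obtain ⟨a, ha, b, hb, hab⟩ := Finset.one_lt_card.mp
    (show 1 < (Finset.univ \ {j, j'} : Finset C).card by
      rw [Finset.card_univ_diff, Finset.card_pair h]; omega)
  simp only [Finset.mem_sdiff, Finset.mem_univ, true_and, Finset.mem_insert,
    Finset.mem_singleton, not_or] at ha hb
  refine ⟨![j, j', a, b], ?_, rfl, rfl⟩
  intro x y hxy
  fin_cases x <;> fin_cases y <;>
    simp [h, h.symm, hab, Ne.symm hab, ha.1, ha.2, hb.1, hb.2, Ne.symm ha.1, Ne.symm ha.2,
      Ne.symm hb.1, Ne.symm hb.2] at hxy ⊢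

theorem disjoint_of_four {v : R → C → ι → ℤ} (h : IsGrid v)
    (hC : 4 ≤ Fintype.card C) {i i' : R} {j j' : C} (hi : i ≠ i') (hj : j ≠ j') (k : ι) :
    v i j k = 0 ∨ v i' j' k = 0 := by
  obtain ⟨f, hf, f0, f1⟩ := exists_fin_four hC hj
  have hg : Function.Injective (![i, i'] : Fin 2 → R) := by
    intro x y hxy
    fin_cases x <;> fin_cases y <;> simp [hi, hi.symm] at hxy ⊢
  have := no_share (fun a b => v (![i, i'] a) (f b)) (fun a b a' b' => by
    rw [h]; simp only [hg.eq_iff, hf.eq_iff]) k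
  simpa [f0, f1] using this

/-- Hypotheses on the sizes. -/
structure Sizes (R C : Type*) [Fintype R] [Fintype C] : Prop where
  rows : Fintype.card R = 2 ∨ 4 ≤ Fintype.card R
  cols : Fintype.card C = 2 ∨ 4 ≤ Fintype.card C
  big : 4 ≤ Fintype.card R ∨ 4 ≤ Fintype.card C

omit [Fintype ι] [DecidableEq ι] [DecidableEq R] [DecidableEq C] in
theorem Sizes.swap (h : Sizes R C) : Sizes C R := ⟨h.cols, h.rows, h.big.symm⟩

theorem disjoint_cells {v : R → C → ι → ℤ} (h : IsGrid v) (hs : Sizes R C)
    {i i' : R} {j j' : C} (hi : i ≠ i') (hj : j ≠ j') (k : ι) :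
    v i j k = 0 ∨ v i' j' k = 0 := by
  rcases hs.big with hb | hb
  · exact disjoint_of_four h.swap hb hj hi k
  · exact disjoint_of_four h hb hi hj k

omit [Fintype ι] [DecidableEq ι] [DecidableEq R] [DecidableEq C] [Fintype C] in
theorem exists_ne_of_two_le (h : 2 ≤ Fintype.card R) (i : R) : ∃ i', i' ≠ i :=
  Fintype.exists_ne_of_one_lt_card h i

/-- Two cells of a row share exactly one atom, with equal signs. -/
theorem exists_unique_common {v : R → C → ι → ℤ} (h : IsGrid v) (hs : Sizes R C) (i : R)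
    {j j' : C} (hj : j ≠ j') :
    ∃ k, v i j k ≠ 0 ∧ v i j' k = v i j k ∧ ∀ l, v i j l ≠ 0 → v i j' l ≠ 0 → l = k := by
  have h3 : ∀ i j, ∑ l, v i j l * v i j l = 3 := fun i j => by rw [h]; simp
  obtain ⟨i', hi'⟩ := exists_ne_of_two_le (by rcases hs.rows with e | e <;> omega) i
  obtain ⟨q, -, hq⟩ := Finset.exists_ne_zero_of_sum_ne_zero
    (show ∑ k, v i j k * v i' j k ≠ 0 by rw [h]; simp [hi'.symm])
  let W := Finset.univ.filter fun l => v i j l ≠ 0 ∧ v i j' l ≠ 0
  have hq1 : q ∈ Finset.univ.filter (fun l => v i j l ≠ 0) := by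
    simp [left_ne_zero_of_mul hq]
  have hsub : W ⊆ (Finset.univ.filter (fun l => v i j l ≠ 0)).erase q := by
    intro l hl
    simp only [W, Finset.mem_filter, Finset.mem_univ, true_and] at hl
    refine Finset.mem_erase.mpr ⟨?_, by simp [hl.1]⟩
    rintro rfl
    exact (disjoint_cells h hs hi' hj l).elim (right_ne_zero_of_mul hq) hl.2
  have hW : W.card ≤ 2 := by
    have := Finset.card_le_card hsub
    rw [Finset.card_erase_of_mem hq1, card_support_eq_three (h3 i j)] at this
    exact this
  have hsum : ∑ l ∈ W, v i j l * v i j' l = 1 := by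
    rw [Finset.sum_filter_of_ne fun l _ hne => ⟨left_ne_zero_of_mul hne, right_ne_zero_of_mul hne⟩,
      h]
    simp [hj]
  have hpm : ∀ l ∈ W, v i j l * v i j' l = 1 ∨ v i j l * v i j' l = -1 := by
    intro l hl
    simp only [W, Finset.mem_filter, Finset.mem_univ, true_and] at hl
    rcases norm_three_values (h3 i j) l with e | e | e <;>
      rcases norm_three_values (h3 i j') l with e' | e' | e' <;> simp_all
  have hcard : W.card = 1 := by
    rcases (by omega : W.card = 0 ∨ W.card = 1 ∨ W.card = 2) with c | c | c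
    · rw [Finset.card_eq_zero.mp c] at hsum; simp at hsum
    · exact c
    · obtain ⟨a, b, hab, he⟩ := Finset.card_eq_two.mp c
      rw [he, Finset.sum_pair hab] at hsum
      rcases hpm a (by simp [he]) with e | e <;> rcases hpm b (by simp [he]) with e' | e' <;> omega
  obtain ⟨k, hk⟩ := Finset.card_eq_one.mp hcard
  have hkW : k ∈ W := hk ▸ Finset.mem_singleton_self k
  rw [hk, Finset.sum_singleton] at hsum
  simp only [W, Finset.mem_filter, Finset.mem_univ, true_and] at hkW
  refine ⟨k, hkW.1, ?_, fun l h1 h2 => ?_⟩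
  · rcases Int.eq_one_or_neg_one_of_mul_eq_one' hsum with ⟨a, b⟩ | ⟨a, b⟩ <;> rw [a, b]
  · have : l ∈ W := by simp [W, h1, h2]
    rwa [hk, Finset.mem_singleton] at this

/-- Three distinct atoms exhaust the support of a cell. -/
theorem support_eq {n : ι → ℤ} (h : ∑ l, n l * n l = 3) {a b c : ι} (ha : n a ≠ 0) (hb : n b ≠ 0)
    (hc : n c ≠ 0) (hab : a ≠ b) (hac : a ≠ c) (hbc : b ≠ c) (l : ι) (hl : n l ≠ 0) :
    l = a ∨ l = b ∨ l = c := by
  have hsub : ({a, b, c} : Finset ι) ⊆ Finset.univ.filter fun x => n x ≠ 0 := by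
    intro x hx
    simp only [Finset.mem_insert, Finset.mem_singleton] at hx
    rcases hx with rfl | rfl | rfl <;> simp [ha, hb, hc]
  have := Finset.eq_of_subset_of_card_le hsub (by
    rw [card_support_eq_three h, Finset.card_eq_three.mpr ⟨a, b, c, hab, hac, hbc, rfl⟩])
  simpa [← this] using (Finset.mem_filter.mpr ⟨Finset.mem_univ l, hl⟩ :
    l ∈ Finset.univ.filter fun x => n x ≠ 0)

/-- All cells of a row share one atom, with one sign. -/
theorem exists_row_atom {v : R → C → ι → ℤ} (h : IsGrid v) (hs : Sizes R C) (i : R) :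
    ∃ k, ∀ j j', v i j k ≠ 0 ∧ v i j' k = v i j k := by
  have h3 : ∀ i j, ∑ l, v i j l * v i j l = 3 := fun i j => by rw [h]; simp
  obtain ⟨a, b, hab⟩ := Fintype.exists_pair_of_one_lt_card
    (show 1 < Fintype.card C by rcases hs.cols with e | e <;> omega)
  obtain ⟨k, hka, hkbe, hku⟩ := exists_unique_common h hs i hab
  have hkb : v i b k ≠ 0 := hkbe ▸ hka
  obtain ⟨i', hi'⟩ := exists_ne_of_two_le (R := R) (by rcases hs.rows with e | e <;> omega) i
  have hmem : ∀ c, v i c k ≠ 0 := by
    intro c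
    by_contra hc

    have hca : c ≠ a := fun e => hka (e ▸ hc)
    have hcb : c ≠ b := fun e => hkb (e ▸ hc)
    have h3c : ({a, b, c} : Finset C).card = 3 :=
      Finset.card_eq_three.mpr ⟨a, b, c, hab, hca.symm, hcb.symm, rfl⟩
    have hC4 : 4 ≤ Fintype.card C := hs.cols.resolve_left fun e => by
      have : ({a, b, c} : Finset C).card ≤ Fintype.card C := Finset.card_le_univ _
      omega
    obtain ⟨d, -, hd⟩ := Finset.exists_mem_notMem_of_card_lt_card
      (show ({a, b, c} : Finset C).card < (Finset.univ : Finset C).card by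
        rw [h3c, Finset.card_univ]; omega)
    simp only [Finset.mem_insert, Finset.mem_singleton, not_or] at hd
    obtain ⟨hda, hdb, hdc⟩ := hd
    obtain ⟨p, hpc, hpe, hpu⟩ := exists_unique_common h hs i hca
    obtain ⟨r, hrc, hre, hru⟩ := exists_unique_common h hs i hcb
    have hpa : v i a p ≠ 0 := hpe ▸ hpc
    have hrb : v i b r ≠ 0 := hre ▸ hrc
    have hpb : v i b p = 0 := by
      by_contra e; exact hpc (hku p hpa e ▸ hc)
    have hra : v i a r = 0 := by
      by_contra e; exact hrc (hku r e hrb ▸ hc)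
    -- column atoms occur in a single cell of the row
    have col : ∀ x : C, ∃ q, v i x q ≠ 0 ∧ ∀ e, e ≠ x → v i e q = 0 := by
      intro x
      obtain ⟨q, hq, hqe, -⟩ := exists_unique_common h.swap hs.swap x hi'.symm
      have hq' : v i' x q ≠ 0 := hqe ▸ hq
      exact ⟨q, hq, fun e he => (disjoint_cells h hs hi'.symm he q).resolve_right hq'⟩
    have part : ∀ (x y : C) (t u : ι), d ≠ x → y ≠ x → v i x t ≠ 0 → v i x u ≠ 0 →
        (∃ e, e ≠ x ∧ v i e t ≠ 0) → (∃ e, e ≠ x ∧ v i e u ≠ 0) → t ≠ u →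
        (v i d t ≠ 0 ↔ v i d u = 0) := by
      intro x y t u hdx _ ht hu ⟨e, he, het⟩ ⟨e', he', heu⟩ htu
      obtain ⟨q, hq, hqo⟩ := col x
      have hqt : q ≠ t := fun E => het (E ▸ hqo e he)
      have hqu : q ≠ u := fun E => heu (E ▸ hqo e' he')
      obtain ⟨s, hs1, hse, hsu⟩ := exists_unique_common h hs i (Ne.symm hdx)
      have hs2 : v i d s ≠ 0 := hse ▸ hs1
      constructor
      · intro hdt
        by_contra hdu
        exact htu ((hsu t ht hdt).trans (hsu u hu hdu).symm)
      · intro hdu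
        rcases support_eq (h3 i x) hq ht hu hqt hqu htu s hs1 with rfl | rfl | rfl
        · exact absurd (hqo d hdx) hs2
        · exact hs2
        · exact absurd hdu hs2
    have hkp : k ≠ p := fun e => hpc (e ▸ hc)
    have hkr : k ≠ r := fun e => hrc (e ▸ hc)
    have hpr : p ≠ r := fun e => hpa (e ▸ hra)
    have e1 := part a b k p hda hab.symm hka hpa ⟨b, hab.symm, hkb⟩ ⟨c, hca, hpc⟩ hkp
    have e2 := part b a k r hdb hab hkb hrb ⟨a, hab, hka⟩ ⟨c, hcb, hrc⟩ hkr
    have e3 := part c a p r hdc hca.symm hpc hrc ⟨a, hca.symm, hpa⟩ ⟨b, hcb.symm, hrb⟩ hpr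
    by_cases hk0 : v i d k = 0 <;> by_cases hp0 : v i d p = 0 <;> by_cases hr0 : v i d r = 0 <;>
      simp [hk0, hp0, hr0] at e1 e2 e3
  refine ⟨k, fun j j' => ⟨hmem j, ?_⟩⟩
  by_cases hj : j = j'
  · rw [hj]
  · obtain ⟨l, hl, hle, hlu⟩ := exists_unique_common h hs i hj
    obtain rfl := hlu k (hmem j) (hmem j')
    exact hle

/-- The decomposition into mutually orthogonal unit vectors. -/
theorem exists_decomposition {v : R → C → ι → ℤ} (h : IsGrid v) (hs : Sizes R C) :
    ∃ (xk : R → ι) (yk : C → ι) (zk : R → C → ι) (sx : R → ℤ) (sy : C → ℤ) (sz : R → C → ℤ),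
      Function.Injective (Sum.elim (Sum.elim xk yk) (fun p : R × C => zk p.1 p.2)) ∧
      (∀ i, sx i = 1 ∨ sx i = -1) ∧ (∀ j, sy j = 1 ∨ sy j = -1) ∧
      (∀ i j, sz i j = 1 ∨ sz i j = -1) ∧
      ∀ i j k, v i j k = (if k = xk i then sx i else 0) + (if k = yk j then sy j else 0) +
        (if k = zk i j then sz i j else 0) := by
  classical
  have h3 : ∀ i j, ∑ l, v i j l * v i j l = 3 := fun i j => by rw [h]; simp
  choose xk hx using exists_row_atom h hs
  choose yk hy using exists_row_atom h.swap hs.swap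
  obtain ⟨i₀⟩ : Nonempty R := Fintype.card_pos_iff.mp (by rcases hs.rows with e | e <;> omega)
  obtain ⟨j₀⟩ : Nonempty C := Fintype.card_pos_iff.mp (by rcases hs.cols with e | e <;> omega)
  have hR : ∀ i : R, ∃ i', i' ≠ i :=
    exists_ne_of_two_le (by rcases hs.rows with e | e <;> omega)
  have hCne : ∀ j : C, ∃ j', j' ≠ j :=
    exists_ne_of_two_le (by rcases hs.cols with e | e <;> omega)
  have hxy : ∀ i j, xk i ≠ yk j := by
    intro i j e
    obtain ⟨i', hi'⟩ := hR i
    obtain ⟨j', hj'⟩ := hCne j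
    rcases disjoint_cells h hs hi'.symm hj' (xk i) with q | q
    · exact (hx i j' j').1 q
    · rw [e] at q; exact (hy j i' i').1 q
  have hz : ∀ i j, ∃ z, v i j z ≠ 0 ∧ z ≠ xk i ∧ z ≠ yk j := by
    intro i j
    have : ({xk i, yk j} : Finset ι).card <
        (Finset.univ.filter fun l => v i j l ≠ 0).card := by
      rw [card_support_eq_three (h3 i j), Finset.card_pair (hxy i j)]; omega
    obtain ⟨z, hz1, hz2⟩ := Finset.exists_mem_notMem_of_card_lt_card this
    simp only [Finset.mem_filter, Finset.mem_univ, true_and, Finset.mem_insert,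
      Finset.mem_singleton, not_or] at hz1 hz2
    exact ⟨z, hz1, hz2⟩
  choose zk hz using hz
  have hpm : ∀ i j k, v i j k ≠ 0 → v i j k = 1 ∨ v i j k = -1 := fun i j k hk =>
    (norm_three_values (h3 i j) k).resolve_left hk
  refine ⟨xk, yk, zk, fun i => v i j₀ (xk i), fun j => v i₀ j (yk j),
    fun i j => v i j (zk i j), ?_, fun i => hpm _ _ _ (hx i j₀ j₀).1,
    fun j => hpm _ _ _ (hy j i₀ i₀).1, fun i j => hpm _ _ _ (hz i j).1, ?_⟩
  · have hxx : ∀ i i', xk i = xk i' → i = i' := by
      intro i i' e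
      by_contra hne
      obtain ⟨j', hj'⟩ := hCne j₀
      rcases disjoint_cells h hs hne hj'.symm (xk i) with q | q
      · exact (hx i j₀ j₀).1 q
      · rw [e] at q; exact (hx i' j' j').1 q
    have hyy : ∀ j j', yk j = yk j' → j = j' := by
      intro j j' e
      by_contra hne
      obtain ⟨i', hi'⟩ := hR i₀
      rcases disjoint_cells h hs hi'.symm hne (yk j) with q | q
      · exact (hy j i₀ i₀).1 q
      · rw [e] at q; exact (hy j' i' i').1 q
    have hxz : ∀ i i' j, xk i ≠ zk i' j := by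
      intro i i' j e
      by_cases hii : i' = i
      · subst hii; exact (hz i' j).2.1 e.symm
      · obtain ⟨j', hj'⟩ := hCne j
        rcases disjoint_cells h hs hii hj'.symm (xk i) with q | q
        · rw [e] at q; exact (hz i' j).1 q
        · exact (hx i j' j').1 q
    have hyz : ∀ j i j', yk j ≠ zk i j' := by
      intro j i j' e
      by_cases hjj : j' = j
      · subst hjj; exact (hz i j').2.2 e.symm
      · obtain ⟨i', hi'⟩ := hR i
        rcases disjoint_cells h hs hi'.symm hjj (yk j) with q | q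
        · rw [e] at q; exact (hz i j').1 q
        · exact (hy j i' i').1 q
    have hzz : ∀ i j i' j', zk i j = zk i' j' → i = i' ∧ j = j' := by
      intro i j i' j' e
      by_cases hii : i = i'
      · subst hii
        refine ⟨rfl, ?_⟩
        by_contra hjj
        obtain ⟨l, hl, -, hlu⟩ := exists_unique_common h hs i hjj
        have e1 := hlu (zk i j) (hz i j).1 (e ▸ (hz i j').1)
        have e2 := hlu (xk i) (hx i j j).1 (hx i j' j').1
        exact (hz i j).2.1 (e1.trans e2.symm)
      · by_cases hjj : j = j'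
        · subst hjj
          exfalso
          obtain ⟨l, hl, -, hlu⟩ := exists_unique_common h.swap hs.swap j hii
          have e1 := hlu (zk i j) (hz i j).1 (e ▸ (hz i' j).1)
          have e2 := hlu (yk j) (hy j i i).1 (hy j i' i').1
          exact (hz i j).2.2 (e1.trans e2.symm)
        · exfalso
          rcases disjoint_cells h hs hii hjj (zk i j) with q | q
          · exact (hz i j).1 q
          · rw [e] at q; exact (hz i' j').1 q
    rintro ((i | j) | ⟨i, j⟩) ((i' | j') | ⟨i', j'⟩) e <;> simp only [Sum.elim_inl, Sum.elim_inr] at e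
    · rw [hxx i i' e]
    · exact absurd e (hxy i j')
    · exact absurd e (hxz i i' j')
    · exact absurd e.symm (hxy i' j)
    · rw [hyy j j' e]
    · exact absurd e (hyz j i' j')
    · exact absurd e.symm (hxz i' i j)
    · exact absurd e.symm (hyz j' i j)
    · obtain ⟨rfl, rfl⟩ := hzz i j i' j' e; rfl
  · intro i j k
    dsimp only
    rw [show v i j₀ (xk i) = v i j (xk i) from (hx i j j₀).2, show v i₀ j (yk j) = v i j (yk j) from (hy j i i₀).2]
    by_cases hk : v i j k = 0
    · have h1 : k ≠ xk i := fun e => (hx i j j).1 (e ▸ hk)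
      have h2 : k ≠ yk j := fun e => (hy j i i).1 (e ▸ hk)
      have h4 : k ≠ zk i j := fun e => (hz i j).1 (e ▸ hk)
      simp [hk, h1, h2, h4]
    · rcases support_eq (h3 i j) (hx i j j).1 (hy j i i).1 (hz i j).1 (hxy i j) (hz i j).2.1.symm
        (hz i j).2.2.symm k hk with rfl | rfl | rfl
      · simp [hxy i j, (hz i j).2.1.symm]
      · simp [(hxy i j).symm, (hz i j).2.2.symm]
      · simp [(hz i j).2.1, (hz i j).2.2]

end Cfsg.Agent.OddChar.Grid
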