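import Cfsg.Agent.OddChar.CyclicTI
import Cfsg.Agent.OddChar.Grid
import Cfsg.Agent.Lib.CharCore.Linear
import Cfsg.Agent.Lib.CharInd.Char
import Mathlib.Algebra.Ring.Parity

set_option autoImplicit false

/-!
Existence and uniqueness of the family attached to a cyclic TI subgroup of odd order.
-/

namespace Cfsg.Agent.OddChar.CycTI

open Cfsg
open scoped ComplexConjugate

/-- An additive array with at most two nonzero entries vanishes. -/
theorem additive_sparse {X Y : Type*} [Fintype X] [Fintype Y] (hX : 3 ≤ Fintype.card X)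
    (hY : 3 ≤ Fintype.card Y) (x : X → ℂ) (y : Y → ℂ) (p q : X × Y)
    (h : ∀ i j, (i, j) ≠ p → (i, j) ≠ q → x i + y j = 0) (i : X) (j : Y) : x i + y j = 0 := by
  classical
  obtain ⟨i₀, hi₀⟩ : ∃ i₀, i₀ ∉ ({p.1, q.1} : Finset X) := by
    obtain ⟨a, -, ha⟩ := Finset.exists_mem_notMem_of_card_lt_card
      (show ({p.1, q.1} : Finset X).card < (Finset.univ : Finset X).card by
        have := Finset.card_le_two (a := p.1) (b := q.1)
        rw [Finset.card_univ]; omega)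
    exact ⟨a, ha⟩
  obtain ⟨j₀, hj₀⟩ : ∃ j₀, j₀ ∉ ({p.2, q.2} : Finset Y) := by
    obtain ⟨a, -, ha⟩ := Finset.exists_mem_notMem_of_card_lt_card
      (show ({p.2, q.2} : Finset Y).card < (Finset.univ : Finset Y).card by
        have := Finset.card_le_two (a := p.2) (b := q.2)
        rw [Finset.card_univ]; omega)
    exact ⟨a, ha⟩
  simp only [Finset.mem_insert, Finset.mem_singleton, not_or] at hi₀ hj₀
  have e1 := h i₀ j (fun e => hi₀.1 (congrArg Prod.fst e)) (fun e => hi₀.2 (congrArg Prod.fst e))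
  have e2 := h i₀ j₀ (fun e => hi₀.1 (congrArg Prod.fst e)) (fun e => hi₀.2 (congrArg Prod.fst e))
  have e3 := h i j₀ (fun e => hj₀.1 (congrArg Prod.snd e)) (fun e => hj₀.2 (congrArg Prod.snd e))
  linear_combination e1 + e3 - e2

/-- An additive array with few nonzero entries is supported on one line. -/
theorem additive_few {X Y : Type*} [Fintype X] [Fintype Y] [Nonempty X]
    (hlt : Fintype.card X + 2 ≤ Fintype.card Y) (x : X → ℂ) (y : Y → ℂ)
    (hfew : Nat.card {p : X × Y // x p.1 + y p.2 ≠ 0} < 2 * Fintype.card X) :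
    (∀ i j, x i + y j = 0) ∨
      (∃ j₀ a, ∀ i, x i + y j₀ = a ∧ ∀ j, j ≠ j₀ → x i + y j = 0) ∨
      (∃ i₀ a, ∀ j, x i₀ + y j = a ∧ ∀ i, i ≠ i₀ → x i + y j = 0) := by
  classical
  let N : Finset (X × Y) := Finset.univ.filter fun p => x p.1 + y p.2 ≠ 0
  have hN : N.card < 2 * Fintype.card X := by
    rwa [Nat.card_eq_fintype_card, Fintype.card_subtype] at hfew
  by_cases hx : ∀ i i', x i = x i'
  · by_cases h2 : ∀ i j, x i + y j = 0
    · exact Or.inl h2
    push Not at h2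
    obtain ⟨i₀, j₀, h0⟩ := h2
    refine Or.inr (Or.inl ⟨j₀, x i₀ + y j₀, fun i => ⟨by rw [hx i i₀], fun j hj => ?_⟩⟩)
    by_contra hne
    have hsub : Finset.univ ×ˢ ({j₀, j} : Finset Y) ⊆ N := by
      rintro ⟨a, b⟩ hab
      simp only [Finset.mem_product, Finset.mem_univ, true_and, Finset.mem_insert,
        Finset.mem_singleton] at hab
      simp only [N, Finset.mem_filter, Finset.mem_univ, true_and]
      rcases hab with rfl | rfl
      · rwa [hx a i₀]
      · rwa [hx a i]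
    have := Finset.card_le_card hsub
    rw [Finset.card_product, Finset.card_pair hj.symm, Finset.card_univ] at this
    omega
  by_cases hy : ∀ j j', y j = y j'
  · by_cases h2 : ∀ i j, x i + y j = 0
    · exact Or.inl h2
    push Not at h2
    obtain ⟨i₀, j₀, h0⟩ := h2
    refine Or.inr (Or.inr ⟨i₀, x i₀ + y j₀, fun j => ⟨by rw [hy j j₀], fun i hi => ?_⟩⟩)
    by_contra hne
    have hsub : ({i₀, i} : Finset X) ×ˢ Finset.univ ⊆ N := by
      rintro ⟨a, b⟩ hab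
      simp only [Finset.mem_product, Finset.mem_univ, and_true, Finset.mem_insert,
        Finset.mem_singleton] at hab
      simp only [N, Finset.mem_filter, Finset.mem_univ, true_and]
      rcases hab with rfl | rfl
      · rwa [hy b j₀]
      · rwa [hy b j]
    have := Finset.card_le_card hsub
    rw [Finset.card_product, Finset.card_pair hi.symm, Finset.card_univ] at this
    omega
  exfalso
  push Not at hx hy
  obtain ⟨ia, ib, hab⟩ := hx
  obtain ⟨ja, jb, hjab⟩ := hy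
  let col : Y → Finset X := fun j => Finset.univ.filter fun i => x i + y j ≠ 0
  have hNcard : N.card = ∑ j, (col j).card := by
    rw [Finset.card_eq_sum_card_fiberwise (f := Prod.snd) (t := Finset.univ)
      fun _ _ => Finset.mem_univ _]
    refine Finset.sum_congr rfl fun j _ => ?_
    refine Finset.card_bij (fun p _ => p.1) (fun p hp => ?_) (fun p hp q hq e => ?_)
      fun i hi => ⟨(i, j), ?_, rfl⟩
    · simp only [N, col, Finset.mem_filter, Finset.mem_univ, true_and] at hp ⊢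
      rw [← hp.2]; exact hp.1
    · simp only [Finset.mem_filter] at hp hq
      exact Prod.ext e (hp.2.trans hq.2.symm)
    · simpa [N, col] using hi
  have h1 : ∀ j, 1 ≤ (col j).card := by
    intro j
    rw [Nat.one_le_iff_ne_zero, ne_eq, Finset.card_eq_zero, Finset.filter_eq_empty_iff]
    intro h0
    simp only [not_not] at h0
    exact hab (by linear_combination h0 (Finset.mem_univ ia) - h0 (Finset.mem_univ ib))
  by_cases h2 : ∀ j, 2 ≤ (col j).card
  · have : ∑ _j : Y, 2 ≤ ∑ j, (col j).card := Finset.sum_le_sum fun j _ => h2 j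
    rw [Finset.sum_const, Finset.card_univ, smul_eq_mul] at this
    omega
  push Not at h2
  obtain ⟨j₀, hj₀⟩ := h2
  obtain ⟨i₀, hi₀⟩ := Finset.card_eq_one.mp (le_antisymm (by omega) (h1 j₀))
  have hv : ∀ i, i ≠ i₀ → x i + y j₀ = 0 := by
    intro i hi
    by_contra hne
    have : i ∈ col j₀ := by simp [col, hne]
    rw [hi₀, Finset.mem_singleton] at this
    exact hi this
  obtain ⟨j₁, hj₁⟩ : ∃ j₁, y j₁ ≠ y j₀ := by
    by_cases h : y ja = y j₀
    · exact ⟨jb, fun e => hjab (h.trans e.symm)⟩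
    · exact ⟨ja, h⟩
  have hbig : Fintype.card X - 1 ≤ (col j₁).card := by
    rw [← Finset.card_univ, ← Finset.card_erase_of_mem (Finset.mem_univ i₀)]
    refine Finset.card_le_card fun i hi => ?_
    simp only [col, Finset.mem_filter, Finset.mem_univ, true_and]
    intro h
    exact hj₁ (by linear_combination h - hv i (Finset.ne_of_mem_erase hi))
  have hrest := Finset.add_sum_erase Finset.univ (fun j => (col j).card) (Finset.mem_univ j₁)
  have : ∑ _j ∈ Finset.univ.erase j₁, 1 ≤ ∑ j ∈ Finset.univ.erase j₁, (col j).card :=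
    Finset.sum_le_sum fun j _ => h1 j
  rw [Finset.sum_const, smul_eq_mul, mul_one, Finset.card_erase_of_mem (Finset.mem_univ _),
    Finset.card_univ] at this
  omega

variable {G : Type*} [Group G] [Fintype G] {W₁ W₂ : Subgroup G}

theorem card_facts (hW : IsSelfNormalizingCyclic W₁ W₂) (hodd : Odd (Nat.card ↥(W₁ ⊔ W₂))) :
    Odd (Nat.card W₁) ∧ Odd (Nat.card W₂) ∧ 3 ≤ Nat.card W₁ ∧ 3 ≤ Nat.card W₂ ∧
      Nat.card W₁ ≠ Nat.card W₂ := by
  have h := Split.of_selfNormalizing hW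
  have hcard : Nat.card ↥(W₁ ⊔ W₂) = Nat.card W₁ * Nat.card W₂ := by
    rw [← Nat.card_congr (prodEquiv W₁ W₂ h.disj h.comm).toEquiv, Nat.card_prod]
  rw [hcard, Nat.odd_mul] at hodd
  have h1 : 1 < Nat.card W₁ := Subgroup.one_lt_card_iff_ne_bot _ |>.mpr hW.1
  have h2 : 1 < Nat.card W₂ := Subgroup.one_lt_card_iff_ne_bot _ |>.mpr hW.2.1
  obtain ⟨⟨k, hk⟩, ⟨l, hl⟩⟩ := hodd
  refine ⟨⟨k, hk⟩, ⟨l, hl⟩, by omega, by omega, fun e => ?_⟩
  classical
  have := h.cyc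
  have hall : (Finset.univ.filter fun w : ↥(W₁ ⊔ W₂) => w ^ Nat.card W₁ = 1) = Finset.univ := by
    refine Finset.filter_true_of_mem fun w _ => ?_
    obtain ⟨⟨a, b⟩, rfl⟩ := (prodEquiv W₁ W₂ h.disj h.comm).surjective w
    rw [← map_pow, Prod.pow_mk, show b ^ Nat.card W₁ = 1 by rw [e]; exact pow_card_eq_one',
      pow_card_eq_one', ← Prod.one_eq_mk, map_one]
  have := IsCyclic.card_pow_eq_one_le (α := ↥(W₁ ⊔ W₂)) (n := Nat.card W₁) Nat.card_pos
  rw [hall, Finset.card_univ, ← Nat.card_eq_fintype_card, hcard, ← e] at this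
  have := Nat.le_of_mul_le_mul_left (this.trans_eq (mul_one _).symm) Nat.card_pos
  omega

theorem beta_isGen (φ ψ : ↥(W₁ ⊔ W₂) →* ℂˣ) :
    IsGeneralizedCharacter ↥(W₁ ⊔ W₂) (beta φ ψ) := by
  have hc : ∀ ω : ↥(W₁ ⊔ W₂) →* ℂˣ, IsGeneralizedCharacter ↥(W₁ ⊔ W₂) (fun x => (ω x : ℂ)) :=
    fun ω => Coherence.irr_gen (CharCore.isIrrCharacter_hom ω)
  rw [beta_expand]
  exact Coherence.gen_add (Coherence.gen_sub (Coherence.gen_sub (hc 1) (hc φ)) (hc ψ)) (hc _)

/-- Existence of the family. -/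
theorem exists_family (hW : IsSelfNormalizingCyclic W₁ W₂)
    (hodd : Odd (Nat.card ↥(W₁ ⊔ W₂))) :
    ∃ χ : (↥(W₁ ⊔ W₂) →* ℂˣ) → (G → ℂ), IsCyclicTIFamily W₁ W₂ χ := by
  classical
  have h := Split.of_selfNormalizing hW
  obtain ⟨ho1, ho2, h31, h32, hne⟩ := card_facts hW hodd
  have := h.finite_dual
  have : Fintype (↥(W₁ ⊔ W₂) →* ℂˣ) := Fintype.ofFinite _
  let R := {φ : ↥(D1 W₁ W₂) // φ ≠ 1}
  let C := {ψ : ↥(D2 W₁ W₂) // ψ ≠ 1}
  have hR : Fintype.card R = Nat.card W₁ - 1 := by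
    rw [Fintype.card_subtype_compl, Fintype.card_subtype_eq, ← Nat.card_eq_fintype_card, h.card_d1]
  have hC : Fintype.card C = Nat.card W₂ - 1 := by
    rw [Fintype.card_subtype_compl, Fintype.card_subtype_eq, ← Nat.card_eq_fintype_card, h.card_d2]
  have hs : Grid.Sizes R C := by
    obtain ⟨k, hk⟩ := ho1
    obtain ⟨l, hl⟩ := ho2
    exact ⟨by omega, by omega, by omega⟩
  have hne1 : ∀ i : R, i.1.1 ≠ 1 := fun i e => i.2 (Subtype.ext e)
  have hne2 : ∀ j : C, j.1.1 ≠ 1 := fun j e => j.2 (Subtype.ext e)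
  let γ : R → C → (G → ℂ) := fun i j => indFun (W₁ ⊔ W₂) (beta i.1.1 j.1.1) - fun _ => 1
  have hone : IsGeneralizedCharacter G (fun _ : G => (1 : ℂ)) :=
    Coherence.irr_gen CharCore.isIrrCharacter_one
  have hgen : ∀ i j, IsGeneralizedCharacter G (γ i j) := fun i j =>
    Coherence.gen_sub (CharInd.isGeneralizedCharacter_indFun _ (beta_isGen _ _)) hone
  choose n hn using fun i j => gen_exists_coeff (hgen i j)
  have h11 : classInner (fun _ : G => (1 : ℂ)) (fun _ => 1) = 1 :=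
    (CharCore.isIrrCharacter_iff.mp CharCore.isIrrCharacter_one).2
  have hind1 : ∀ (i : R) (j : C),
      classInner (indFun (W₁ ⊔ W₂) (beta i.1.1 j.1.1)) (fun _ => (1 : ℂ)) = 1 := fun i j =>
    classInner_ind_beta_one hW i.1.2 j.1.2 (hne1 i) (hne2 j)
  have hgrid : Grid.IsGrid n := by
    intro i j i' j'
    have key : classInner (γ i j) (γ i' j') = ((∑ k, n i j k * n i' j' k : ℤ) : ℂ) := by
      rw [hn, hn, CharCore.classInner_sum_sum]; simp
    have e : classInner (γ i j) (γ i' j') = ((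
        (if i = i' then 1 else 0) + (if j = j' then 1 else 0) +
        (if i = i' then 1 else 0) * (if j = j' then 1 else 0) : ℤ) : ℂ) := by
      simp only [γ]
      rw [CharCore.classInner_sub_left, CharCore.classInner_sub_right, CharCore.classInner_sub_right,
        classInner_ind_beta hW i.1.2 i'.1.2 j.1.2 j'.1.2 (hne1 i) (hne1 i') (hne2 j) (hne2 j'),
        hind1, ← CharCore.conj_classInner (indFun (W₁ ⊔ W₂) (beta i'.1.1 j'.1.1)), hind1, map_one,
        h11]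
      have a : (i.1.1 = i'.1.1) ↔ i = i' := ⟨fun e => Subtype.ext (Subtype.ext e), fun e => e ▸ rfl⟩
      have b : (j.1.1 = j'.1.1) ↔ j = j' := ⟨fun e => Subtype.ext (Subtype.ext e), fun e => e ▸ rfl⟩
      simp only [a, b]
      push_cast
      ring
    exact_mod_cast key.symm.trans e
  obtain ⟨xk, yk, zk, sx, sy, sz, hinj, hsx, hsy, hsz, hdec⟩ :=
    Grid.exists_decomposition hgrid hs
  let p : IrrCharacter G := ⟨fun _ => 1, CharCore.isIrrCharacter_one⟩
  have hp : ∀ i j, n i j p = 0 := by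
    intro i j
    have := CharCore.classInner_sum_all (fun k => (n i j k : ℂ)) p
    rw [← hn] at this
    simp only [γ, p, CharCore.classInner_sub_left, hind1, h11, sub_self] at this
    exact_mod_cast this.symm
  have hγ : ∀ i j, γ i j = (sx i : ℂ) • (xk i : G → ℂ) + (sy j : ℂ) • (yk j : G → ℂ)
      + (sz i j : ℂ) • (zk i j : G → ℂ) := by
    intro i j
    rw [hn]
    simp only [hdec, Int.cast_add, Int.cast_ite, Int.cast_zero, add_smul, ite_smul, zero_smul,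
      Finset.sum_add_distrib, Finset.sum_ite_eq', Finset.mem_univ, if_true]
  obtain ⟨i₁⟩ : Nonempty R := Fintype.card_pos_iff.mp (by omega)
  obtain ⟨j₁⟩ : Nonempty C := Fintype.card_pos_iff.mp (by omega)
  have hxy : ∀ i j, xk i ≠ yk j := fun i j e => by
    exact absurd (hinj (a₁ := Sum.inl (Sum.inl i)) (a₂ := Sum.inl (Sum.inr j)) e) (by simp)
  have hxz : ∀ i i' j, xk i ≠ zk i' j := fun i i' j e => by
    exact absurd (hinj (a₁ := Sum.inl (Sum.inl i)) (a₂ := Sum.inr (i', j)) e) (by simp)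
  have hyz : ∀ j i j', yk j ≠ zk i j' := fun j i j' e => by
    exact absurd (hinj (a₁ := Sum.inl (Sum.inr j)) (a₂ := Sum.inr (i, j')) e) (by simp)
  have hpx : ∀ i, p ≠ xk i := fun i e => by
    have := hdec i j₁ p
    rw [hp, e, if_pos rfl, if_neg (hxy i j₁), if_neg (hxz i i j₁)] at this
    rcases hsx i with q | q <;> omega
  have hpy : ∀ j, p ≠ yk j := fun j e => by
    have := hdec i₁ j p
    rw [hp, e, if_pos rfl, if_neg (hxy i₁ j).symm, if_neg (hyz j i₁ j)] at this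
    rcases hsy j with q | q <;> omega
  have hpz : ∀ i j, p ≠ zk i j := fun i j e => by
    have := hdec i j p
    rw [hp, e, if_pos rfl, if_neg (hxz i i j).symm, if_neg (hyz j i j).symm] at this
    rcases hsz i j with q | q <;> omega
  let K : ↥(D1 W₁ W₂) → ↥(D2 W₁ W₂) → IrrCharacter G := fun φ ψ =>
    if h1 : φ = 1 then (if h2 : ψ = 1 then p else yk ⟨ψ, h2⟩)
    else if h2 : ψ = 1 then xk ⟨φ, h1⟩ else zk ⟨φ, h1⟩ ⟨ψ, h2⟩
  let S : ↥(D1 W₁ W₂) → ↥(D2 W₁ W₂) → ℤ := fun φ ψ =>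
    if h1 : φ = 1 then (if h2 : ψ = 1 then 1 else -sy ⟨ψ, h2⟩)
    else if h2 : ψ = 1 then -sx ⟨φ, h1⟩ else sz ⟨φ, h1⟩ ⟨ψ, h2⟩
  have hxx : ∀ i i', xk i = xk i' → i.1 = i'.1 := fun i i' e => congrArg Subtype.val
    (Sum.inl_injective (Sum.inl_injective (hinj (a₁ := Sum.inl (Sum.inl i)) (a₂ := Sum.inl (Sum.inl i')) e)))
  have hyy : ∀ j j', yk j = yk j' → j.1 = j'.1 := fun j j' e => congrArg Subtype.val
    (Sum.inr_injective (Sum.inl_injective (hinj (a₁ := Sum.inl (Sum.inr j)) (a₂ := Sum.inl (Sum.inr j')) e)))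
  have hzz : ∀ i j i' j', zk i j = zk i' j' → i.1 = i'.1 ∧ j.1 = j'.1 := fun i j i' j' e =>
    have q := Sum.inr_injective (hinj (a₁ := Sum.inr (i, j)) (a₂ := Sum.inr (i', j')) e)
    ⟨congrArg (fun r => r.1.1) q, congrArg (fun r => r.2.1) q⟩
  have hK : ∀ a b a' b', K a b = K a' b' → a = a' ∧ b = b' := by
    intro a b a' b' e
    simp only [K] at e
    split_ifs at e with q1 q2 q3 q4 q5 q6 q7 q8 q9 <;> (try subst_vars) <;>
      first
        | exact ⟨rfl, rfl⟩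
        | exact absurd e (hpx _)
        | exact absurd e (hpy _)
        | exact absurd e (hpz _ _)
        | exact absurd e.symm (hpx _)
        | exact absurd e.symm (hpy _)
        | exact absurd e.symm (hpz _ _)
        | exact absurd e (hxy _ _)
        | exact absurd e.symm (hxy _ _)
        | exact absurd e (hxz _ _ _)
        | exact absurd e.symm (hxz _ _ _)
        | exact absurd e (hyz _ _ _)
        | exact absurd e.symm (hyz _ _ _)
        | exact ⟨hxx _ _ e, rfl⟩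
        | exact ⟨rfl, hyy _ _ e⟩
        | exact hzz _ _ _ _ e
  have hS : ∀ a b, S a b = 1 ∨ S a b = -1 := by
    intro a b
    simp only [S]
    split_ifs
    · exact Or.inl rfl
    · rcases hsy ⟨b, ‹_›⟩ with e | e <;> simp [e]
    · rcases hsx ⟨a, ‹_›⟩ with e | e <;> simp [e]
    · exact hsz _ _
  choose f1 hf1 f2 hf2 hf using fun ω => exists_factor W₁ W₂ h.disj h.comm ω
  let χ : (↥(W₁ ⊔ W₂) →* ℂˣ) → (G → ℂ) := fun ω =>
    (S ⟨f1 ω, hf1 ω⟩ ⟨f2 ω, hf2 ω⟩ : ℂ) • (K ⟨f1 ω, hf1 ω⟩ ⟨f2 ω, hf2 ω⟩ : G → ℂ)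
  have hval : ∀ (φ ψ : ↥(W₁ ⊔ W₂) →* ℂˣ) (a : φ ∈ D1 W₁ W₂) (b : ψ ∈ D2 W₁ W₂),
      χ (φ * ψ) = (S ⟨φ, a⟩ ⟨ψ, b⟩ : ℂ) • (K ⟨φ, a⟩ ⟨ψ, b⟩ : G → ℂ) := by
    intro φ ψ a b
    obtain ⟨e1, e2⟩ := mul_inj W₁ W₂ (hf1 (φ * ψ)) a (hf2 (φ * ψ)) b (hf (φ * ψ))
    simp only [χ, e1, e2]
  have hchi1 : χ 1 = fun _ => 1 := by
    have := hval 1 1 (one_mem _) (one_mem _)
    rw [show (1 : ↥(W₁ ⊔ W₂) →* ℂˣ) * 1 = 1 from MonoidHom.ext fun x => one_mul _] at this
    rw [this]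
    simp [S, K, p]
  have horth : ∀ ω ω', classInner (χ ω) (χ ω') = if ω = ω' then 1 else 0 := by
    intro ω ω'
    by_cases e : ω = ω'
    · subst e
      rw [if_pos rfl]
      exact signed_inner_self (isSignedIrr_smul _ (hS _ _))
    · rw [if_neg e]
      simp only [χ, CharCore.classInner_smul_left, CharCore.classInner_smul_right]
      rw [CharCore.classInner_irr_of_ne fun h => e ?_, mul_zero, mul_zero]
      obtain ⟨a, b⟩ := hK _ _ _ _ h
      rw [← hf ω, ← hf ω', show f1 ω = f1 ω' from congrArg Subtype.val a,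
        show f2 ω = f2 ω' from congrArg Subtype.val b]
  have hind : ∀ φ ψ : ↥(W₁ ⊔ W₂) →* ℂˣ, φ ∈ D1 W₁ W₂ → ψ ∈ D2 W₁ W₂ → φ ≠ 1 → ψ ≠ 1 →
      indFun (W₁ ⊔ W₂) (beta φ ψ) = χ 1 - χ φ - χ ψ + χ (φ * ψ) := by
    intro φ ψ a b hφ hψ
    have a1 : (⟨φ, a⟩ : ↥(D1 W₁ W₂)) ≠ 1 := fun e => hφ (congrArg Subtype.val e)
    have b1 : (⟨ψ, b⟩ : ↥(D2 W₁ W₂)) ≠ 1 := fun e => hψ (congrArg Subtype.val e)
    have eφ := hval φ 1 a (one_mem _)
    rw [show φ * (1 : ↥(W₁ ⊔ W₂) →* ℂˣ) = φ from MonoidHom.ext fun x => mul_one _] at eφ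
    have eψ := hval 1 ψ (one_mem _) b
    rw [show (1 : ↥(W₁ ⊔ W₂) →* ℂˣ) * ψ = ψ from MonoidHom.ext fun x => one_mul _] at eψ
    have key : γ ⟨⟨φ, a⟩, a1⟩ ⟨⟨ψ, b⟩, b1⟩ + (fun _ => (1 : ℂ)) = indFun (W₁ ⊔ W₂) (beta φ ψ) :=
      sub_add_cancel _ _
    rw [← key, hγ, hchi1, eφ, eψ, hval φ ψ a b]
    have q1 : (⟨(1 : ↥(W₁ ⊔ W₂) →* ℂˣ), one_mem _⟩ : ↥(D1 W₁ W₂)) = 1 := rfl
    have q2 : (⟨(1 : ↥(W₁ ⊔ W₂) →* ℂˣ), one_mem _⟩ : ↥(D2 W₁ W₂)) = 1 := rfl
    simp only [S, K, q1, q2, dif_pos, dif_neg a1, dif_neg b1]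
    push_cast
    funext g
    simp only [Pi.add_apply, Pi.sub_apply, Pi.smul_apply, smul_eq_mul]
    ring
  refine ⟨χ, ⟨fun ω => isSignedIrr_smul _ (hS _ _), fun ω ω' => by convert horth ω ω', hchi1,
    ?_, ?_⟩⟩
  · intro ω w hw1 hw2
    refine sub_eq_zero.mp (eq_zero_of_orth h (fun x : ↥(W₁ ⊔ W₂) => χ ω x - (ω x : ℂ))
      (fun φ hφ ψ hψ h1 h2 => ?_) w hw1 hw2)
    have hcf : IsClassFunction G (χ ω) := by
      intro x y
      simp only [χ, Pi.smul_apply]
      rw [CharCore.irr_isClassFunction]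
    have e : classInner (fun x : ↥(W₁ ⊔ W₂) => χ ω x) (beta φ ψ) =
        classInner (fun x : ↥(W₁ ⊔ W₂) => (ω x : ℂ)) (beta φ ψ) := by
      rw [← CharInd.classInner_indFun_right _ _ hcf, hind φ ψ hφ hψ h1 h2,
        CharCore.classInner_add_right, CharCore.classInner_sub_right, CharCore.classInner_sub_right,
        horth, horth, horth, horth, classInner_hom_beta]
    have e2 := CharCore.classInner_sub_left (fun x : ↥(W₁ ⊔ W₂) => χ ω x)
      (fun x : ↥(W₁ ⊔ W₂) => (ω x : ℂ)) (beta φ ψ)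
    rw [e, sub_self] at e2
    exact e2
  · intro φ ψ h1 h2 a b
    have := hind φ ψ a b h1 h2
    funext g
    have e := congrFun this g
    simp only [Pi.add_apply, Pi.sub_apply, hchi1] at e
    exact e

/-- A signed irreducible agreeing with a linear character off `W₁ ∪ W₂` is the family member. -/
theorem family_unique (hW : IsSelfNormalizingCyclic W₁ W₂) (hodd : Odd (Nat.card ↥(W₁ ⊔ W₂)))
    {χ : (↥(W₁ ⊔ W₂) →* ℂˣ) → (G → ℂ)} (hχ : IsCyclicTIFamily W₁ W₂ χ)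
    {θ : G → ℂ} (hθ : IsSignedIrr θ) (ω₀ : ↥(W₁ ⊔ W₂) →* ℂˣ)
    (hV : ∀ w : ↥(W₁ ⊔ W₂), (w : G) ∉ W₁ → (w : G) ∉ W₂ → θ w = (ω₀ w : ℂ)) : θ = χ ω₀ := by
  classical
  have h := Split.of_selfNormalizing hW
  obtain ⟨-, -, h31, h32, -⟩ := card_facts hW hodd
  have := h.finite_dual
  have : Fintype (↥(W₁ ⊔ W₂) →* ℂˣ) := Fintype.ofFinite _
  have hcf : ∀ {f : G → ℂ}, IsSignedIrr f → IsClassFunction G f := by
    intro f hf
    obtain ⟨e, k, -, rfl⟩ := signed_exists_sign hf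
    intro a b
    simp only [Pi.smul_apply]
    rw [CharCore.irr_isClassFunction]
  set d : G → ℂ := θ - χ ω₀ with hd
  have hdcf : IsClassFunction G d := fun a b => by
    simp only [hd, Pi.sub_apply]
    rw [hcf hθ a b, hcf (hχ.irr_or_neg ω₀) a b]
  have hdV : ∀ w : ↥(W₁ ⊔ W₂), (w : G) ∉ W₁ → (w : G) ∉ W₂ → d w = 0 := fun w a b => by
    simp [hd, hV w a b, hχ.eq_on ω₀ w a b]
  have hadd := fun φ ψ (a : φ ∈ D1 W₁ W₂) (b : ψ ∈ D2 W₁ W₂) => coeff_additive hχ hdcf hdV a b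
  obtain ⟨p, hp⟩ : ∃ p, ∀ ω, ω ≠ p → classInner θ (χ ω) = 0 := by
    by_cases he : ∃ ω, classInner θ (χ ω) ≠ 0
    · obtain ⟨p, hp⟩ := he
      refine ⟨p, fun ω hω => ?_⟩
      rcases signed_eq_or_inner hθ (hχ.irr_or_neg p) with e | e | e
      · rw [e, hχ.orthonormal, if_neg hω.symm]
      · rw [e, CharCore.classInner_neg_left, hχ.orthonormal, if_neg hω.symm, neg_zero]
      · exact absurd e hp
    · push Not at he
      exact ⟨ω₀, fun ω _ => he ω⟩
  obtain ⟨p1, hp1, p2, hp2, hpe⟩ := exists_factor W₁ W₂ h.disj h.comm p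
  obtain ⟨q1, hq1, q2, hq2, hqe⟩ := exists_factor W₁ W₂ h.disj h.comm ω₀
  have h0 := additive_sparse (X := ↥(D1 W₁ W₂)) (Y := ↥(D2 W₁ W₂))
    (by rw [← Nat.card_eq_fintype_card, h.card_d1]; exact h31)
    (by rw [← Nat.card_eq_fintype_card, h.card_d2]; exact h32)
    (fun φ => classInner d (χ φ.1)) (fun ψ => classInner d (χ ψ.1) - classInner d (χ 1))
    (⟨p1, hp1⟩, ⟨p2, hp2⟩) (⟨q1, hq1⟩, ⟨q2, hq2⟩) (fun φ ψ a b => by
      have e := hadd φ.1 ψ.1 φ.2 ψ.2
      have n1 : φ.1 * ψ.1 ≠ p := fun q => a (by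
        obtain ⟨u, v⟩ := mul_inj W₁ W₂ φ.2 hp1 ψ.2 hp2 (q.trans hpe.symm)
        exact Prod.ext (Subtype.ext u) (Subtype.ext v))
      have n2 : φ.1 * ψ.1 ≠ ω₀ := fun q => b (by
        obtain ⟨u, v⟩ := mul_inj W₁ W₂ φ.2 hq1 ψ.2 hq2 (q.trans hqe.symm)
        exact Prod.ext (Subtype.ext u) (Subtype.ext v))
      have z : classInner d (χ (φ.1 * ψ.1)) = 0 := by
        rw [hd, CharCore.classInner_sub_left, hp _ n1, hχ.orthonormal, if_neg (Ne.symm n2),
          sub_self]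
      rw [z] at e
      linear_combination -e) ⟨q1, hq1⟩ ⟨q2, hq2⟩
  have e := hadd q1 q2 hq1 hq2
  rw [hqe, hd, CharCore.classInner_sub_left, hχ.orthonormal, if_pos rfl, ← hd] at e
  exact signed_eq_of_inner_eq_one hθ (hχ.irr_or_neg ω₀) (by linear_combination e + h0)

end Cfsg.Agent.OddChar.CycTI
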