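import Cfsg.Agent.OddChar.CyclicW
import Cfsg.Agent.OddChar.SignedIrr

set_option autoImplicit false

/-!
Induction from a self-normalizing cyclic subgroup `W₁ × W₂`.
-/

namespace Cfsg.Agent.OddChar.CycTI

open Cfsg
open scoped ComplexConjugate

variable {G : Type*} [Group G] {W₁ W₂ : Subgroup G}

/-- The elements of `W₁ ⊔ W₂` outside both factors. -/
def offSet (W₁ W₂ : Subgroup G) : Set G := (↑(W₁ ⊔ W₂) : Set G) \ (↑W₁ ∪ ↑W₂)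

theorem mem_offSet {v : G} :
    v ∈ offSet W₁ W₂ ↔ v ∈ W₁ ⊔ W₂ ∧ v ∉ W₁ ∧ v ∉ W₂ := by
  simp [offSet, not_or]

section Finite

variable [Finite G]

omit [Finite G] in
theorem centralizer_eq (hW : IsSelfNormalizingCyclic W₁ W₂) {v : G} (hv : v ∈ offSet W₁ W₂) :
    Subgroup.centralizer ({v} : Set G) = W₁ ⊔ W₂ := by
  rw [← hW.2.2.2.2.2 {v} (Set.singleton_subset_iff.mpr hv) (Set.singleton_nonempty v)]
  ext g
  rw [Subgroup.mem_centralizer_singleton_iff, Subgroup.mem_set_normalizer_iff]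
  simp only [Set.mem_singleton_iff]
  constructor
  · intro hg n
    constructor
    · rintro rfl; rw [hg, mul_inv_cancel_right]
    · intro hn
      have : g * n * g⁻¹ = g * v * g⁻¹ := by rw [hn, hg, mul_inv_cancel_right]
      simpa using this
  · intro hg
    exact mul_inv_eq_iff_eq_mul.mp ((hg v).mp rfl)

omit [Finite G] in
theorem card_pow_le (h : Split W₁ W₂) [Finite G] {U : Subgroup G} (hU : U ≤ W₁ ⊔ W₂) {x : G}
    (hx : x ∈ W₁ ⊔ W₂) (hxn : x ^ Nat.card U = 1) : x ∈ U := by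
  classical
  have := h.cyc
  have := Fintype.ofFinite G
  let S : Finset ↥(W₁ ⊔ W₂) := Finset.univ.filter fun y => (y : G) ∈ U
  let T : Finset ↥(W₁ ⊔ W₂) := Finset.univ.filter fun y => y ^ Nat.card U = 1
  have hsub : S ⊆ T := fun y hy => by
    simp only [S, T, Finset.mem_filter, Finset.mem_univ, true_and] at hy ⊢
    exact Subtype.ext (congrArg Subtype.val (pow_card_eq_one' (x := (⟨(y : G), hy⟩ : U))) :)
  have hS : S.card = Nat.card U := by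
    rw [← Fintype.card_subtype, ← Nat.card_eq_fintype_card]
    exact Nat.card_congr (Subgroup.subgroupOfEquivOfLe hU).toEquiv
  have hT : T.card ≤ Nat.card U := IsCyclic.card_pow_eq_one_le Nat.card_pos
  have he := Finset.eq_of_subset_of_card_le hsub (hS ▸ hT)
  have : (⟨x, hx⟩ : ↥(W₁ ⊔ W₂)) ∈ S := he ▸ Finset.mem_filter.mpr
    ⟨Finset.mem_univ _, Subtype.ext hxn⟩
  exact (Finset.mem_filter.mp this).2

theorem mem_W_of_conj (hW : IsSelfNormalizingCyclic W₁ W₂) {v g : G} (hv : v ∈ offSet W₁ W₂)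
    (hgv : g * v * g⁻¹ ∈ offSet W₁ W₂) : g ∈ W₁ ⊔ W₂ := by
  have h := Split.of_selfNormalizing hW
  have hmapW : ∀ x ∈ W₁ ⊔ W₂, g * x * g⁻¹ ∈ W₁ ⊔ W₂ := by
    intro x hx
    rw [← centralizer_eq hW hgv, Subgroup.mem_centralizer_singleton_iff]
    have hx' : x * v = v * x := by
      rw [← centralizer_eq hW hv] at hx
      exact Subgroup.mem_centralizer_singleton_iff.mp hx
    calc g * x * g⁻¹ * (g * v * g⁻¹) = g * (x * v) * g⁻¹ := by group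
      _ = g * v * g⁻¹ * (g * x * g⁻¹) := by rw [hx']; group
  have hmapWi : ∀ x ∈ W₁ ⊔ W₂, g⁻¹ * x * g ∈ W₁ ⊔ W₂ := by
    intro x hx
    rw [← centralizer_eq hW hv, Subgroup.mem_centralizer_singleton_iff]
    have hx' : x * (g * v * g⁻¹) = g * v * g⁻¹ * x := by
      rw [← centralizer_eq hW hgv] at hx
      exact Subgroup.mem_centralizer_singleton_iff.mp hx
    calc g⁻¹ * x * g * v = g⁻¹ * (x * (g * v * g⁻¹)) * g := by group
      _ = v * (g⁻¹ * x * g) := by rw [hx']; group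
  have hU : ∀ U : Subgroup G, U ≤ W₁ ⊔ W₂ → ∀ x ∈ W₁ ⊔ W₂, (g * x * g⁻¹ ∈ U ↔ x ∈ U) := by
    intro U hU x hx
    constructor
    · intro hxU
      refine card_pow_le h hU hx ?_
      have : (g * x * g⁻¹) ^ Nat.card U = 1 :=
        congrArg Subtype.val (pow_card_eq_one' (x := (⟨_, hxU⟩ : U)))
      rwa [conj_pow, mul_inv_eq_one, mul_eq_left] at this
    · intro hxU
      refine card_pow_le h hU (hmapW x hx) ?_
      rw [conj_pow, show x ^ Nat.card U = 1 from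
        congrArg Subtype.val (pow_card_eq_one' (x := (⟨_, hxU⟩ : U)))]
      simp
  rw [← hW.2.2.2.2.2 (offSet W₁ W₂) le_rfl ⟨v, hv⟩, Subgroup.mem_set_normalizer_iff]
  intro n
  rw [mem_offSet, mem_offSet]
  constructor
  · rintro ⟨hn, h1, h2⟩
    exact ⟨hmapW n hn, mt (hU W₁ le_sup_left n hn).mp h1, mt (hU W₂ le_sup_right n hn).mp h2⟩
  · rintro ⟨hn, h1, h2⟩
    have hn' : n ∈ W₁ ⊔ W₂ := by
      have := hmapWi _ hn
      simpa [mul_assoc] using this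
    exact ⟨hn', mt (hU W₁ le_sup_left n hn').mpr h1, mt (hU W₂ le_sup_right n hn').mpr h2⟩

end Finite

variable [Fintype G]

theorem indFun_apply_off (hW : IsSelfNormalizingCyclic W₁ W₂) (f : ↥(W₁ ⊔ W₂) → ℂ)
    (hf : ∀ w : ↥(W₁ ⊔ W₂), (w : G) ∈ W₁ ∨ (w : G) ∈ W₂ → f w = 0) (v : ↥(W₁ ⊔ W₂))
    (hv₁ : (v : G) ∉ W₁) (hv₂ : (v : G) ∉ W₂) :
    indFun (W₁ ⊔ W₂) f (v : G) = f v := by
  classical
  have h := Split.of_selfNormalizing hW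
  have hv : (v : G) ∈ offSet W₁ W₂ := mem_offSet.mpr ⟨v.2, hv₁, hv₂⟩
  rw [CharInd.indFun_apply]
  have hx : ∀ x : G, extendByZero (W₁ ⊔ W₂) f (x⁻¹ * v * x) =
      if x ∈ W₁ ⊔ W₂ then f v else 0 := by
    intro x
    split_ifs with hxW
    · have e : x⁻¹ * (v : G) * x = v := by
        have := congrArg Subtype.val (h.mulComm v ⟨x, hxW⟩)
        simp only [Subgroup.coe_mul] at this
        rw [mul_assoc, this, inv_mul_cancel_left]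
      rw [e, CharInd.extendByZero_coe]
    · by_cases hm : x⁻¹ * (v : G) * x ∈ W₁ ⊔ W₂
      · rw [CharInd.extendByZero_mem f hm]
        refine hf ⟨_, hm⟩ ?_
        by_contra hne
        rw [not_or] at hne
        refine hxW ?_
        have := mem_W_of_conj hW hv (g := x⁻¹) (by
          rw [inv_inv]; exact mem_offSet.mpr ⟨hm, hne.1, hne.2⟩)
        exact (Subgroup.inv_mem_iff _).mp this
      · exact CharInd.extendByZero_notMem f hm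
  rw [Finset.sum_congr rfl fun x _ => hx x, Finset.sum_ite, Finset.sum_const_zero, add_zero,
    Finset.sum_const, nsmul_eq_mul, ← Fintype.card_subtype, ← Nat.card_eq_fintype_card,
    ← mul_assoc, inv_mul_cancel₀ (CharInd.natCard_subgroup_ne_zero _), one_mul]

theorem classInner_congr_off [Fintype ↥(W₁ ⊔ W₂)] {f f' b : ↥(W₁ ⊔ W₂) → ℂ}
    (hb : ∀ w : ↥(W₁ ⊔ W₂), (w : G) ∈ W₁ ∨ (w : G) ∈ W₂ → b w = 0)
    (he : ∀ w : ↥(W₁ ⊔ W₂), (w : G) ∉ W₁ → (w : G) ∉ W₂ → f w = f' w) :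
    classInner f b = classInner f' b := by
  rw [CharCore.classInner_def, CharCore.classInner_def]
  refine congrArg _ (Finset.sum_congr rfl fun w _ => ?_)
  by_cases h : (w : G) ∈ W₁ ∨ (w : G) ∈ W₂
  · rw [hb w h, map_zero, mul_zero, mul_zero]
  · rw [not_or] at h; rw [he w h.1 h.2]

theorem beta_expand {W : Type*} [Group W] (φ ψ : W →* ℂˣ) :
    beta φ ψ = (fun x => ((1 : W →* ℂˣ) x : ℂ)) - (fun x => (φ x : ℂ)) - (fun x => (ψ x : ℂ))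
      + (fun x => ((φ * ψ) x : ℂ)) := by
  funext x; simp [beta]

open Classical in
theorem classInner_hom_beta [Fintype ↥(W₁ ⊔ W₂)] (ω φ ψ : ↥(W₁ ⊔ W₂) →* ℂˣ) :
    classInner (fun x => (ω x : ℂ)) (beta φ ψ) =
      (if ω = 1 then 1 else 0) - (if ω = φ then 1 else 0) - (if ω = ψ then 1 else 0)
        + (if ω = φ * ψ then 1 else 0) := by
  rw [beta_expand, CharCore.classInner_add_right, CharCore.classInner_sub_right,
    CharCore.classInner_sub_right, classInner_hom, classInner_hom, classInner_hom, classInner_hom]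

theorem classInner_indFun_indFun (hW : IsSelfNormalizingCyclic W₁ W₂) [Fintype ↥(W₁ ⊔ W₂)]
    {f b : ↥(W₁ ⊔ W₂) → ℂ}
    (hf : ∀ w : ↥(W₁ ⊔ W₂), (w : G) ∈ W₁ ∨ (w : G) ∈ W₂ → f w = 0)
    (hb : ∀ w : ↥(W₁ ⊔ W₂), (w : G) ∈ W₁ ∨ (w : G) ∈ W₂ → b w = 0) :
    classInner (indFun (W₁ ⊔ W₂) f) (indFun (W₁ ⊔ W₂) b) = classInner f b := by
  rw [CharInd.classInner_indFun_right _ b (CharInd.isClassFunction_indFun _ f)]
  exact classInner_congr_off hb fun w h1 h2 => indFun_apply_off hW f hf w h1 h2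

theorem hom_ne {φ ψ : ↥(W₁ ⊔ W₂) →* ℂˣ} (hφ : φ ∈ D1 W₁ W₂) (hψ : ψ ∈ D2 W₁ W₂)
    (hφ1 : φ ≠ 1) : φ ≠ ψ := fun e => hφ1 (d_disjoint W₁ W₂ hφ (e ▸ hψ))

theorem mul_ne_one {φ ψ : ↥(W₁ ⊔ W₂) →* ℂˣ} (hφ : φ ∈ D1 W₁ W₂) (hψ : ψ ∈ D2 W₁ W₂)
    (hφ1 : φ ≠ 1) : φ * ψ ≠ 1 := fun e =>
  hφ1 (mul_inj W₁ W₂ hφ (one_mem _) hψ (one_mem _) (by rw [one_mul]; exact e)).1

theorem classInner_one_beta [Fintype ↥(W₁ ⊔ W₂)] {φ ψ : ↥(W₁ ⊔ W₂) →* ℂˣ}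
    (hφ : φ ∈ D1 W₁ W₂) (hψ : ψ ∈ D2 W₁ W₂) (hφ1 : φ ≠ 1) (hψ1 : ψ ≠ 1) :
    classInner (fun _ => (1 : ℂ)) (beta φ ψ) = 1 := by
  have := classInner_hom_beta (1 : ↥(W₁ ⊔ W₂) →* ℂˣ) φ ψ
  simp only [if_neg hφ1.symm, if_neg hψ1.symm, if_neg (mul_ne_one hφ hψ hφ1).symm, if_true,
    sub_zero, add_zero] at this
  simpa using this

theorem classInner_beta_one [Fintype ↥(W₁ ⊔ W₂)] {φ ψ : ↥(W₁ ⊔ W₂) →* ℂˣ}
    (hφ : φ ∈ D1 W₁ W₂) (hψ : ψ ∈ D2 W₁ W₂) (hφ1 : φ ≠ 1) (hψ1 : ψ ≠ 1) :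
    classInner (beta φ ψ) (fun _ => (1 : ℂ)) = 1 := by
  rw [← CharCore.conj_classInner, classInner_one_beta hφ hψ hφ1 hψ1, map_one]

theorem classInner_ind_beta_one (W : IsSelfNormalizingCyclic W₁ W₂)
    {φ ψ : ↥(W₁ ⊔ W₂) →* ℂˣ} (hφ : φ ∈ D1 W₁ W₂) (hψ : ψ ∈ D2 W₁ W₂) (hφ1 : φ ≠ 1)
    (hψ1 : ψ ≠ 1) : classInner (indFun (W₁ ⊔ W₂) (beta φ ψ)) (fun _ => (1 : ℂ)) = 1 := by
  classical
  have _ := W
  rw [CharInd.classInner_indFun_left _ _ (fun _ _ => rfl)]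
  exact classInner_beta_one hφ hψ hφ1 hψ1

open Classical in
theorem classInner_ind_beta (hW : IsSelfNormalizingCyclic W₁ W₂)
    {φ φ' ψ ψ' : ↥(W₁ ⊔ W₂) →* ℂˣ} (hφ : φ ∈ D1 W₁ W₂) (hφ' : φ' ∈ D1 W₁ W₂)
    (hψ : ψ ∈ D2 W₁ W₂) (hψ' : ψ' ∈ D2 W₁ W₂) (hφ1 : φ ≠ 1) (hφ'1 : φ' ≠ 1) (hψ1 : ψ ≠ 1)
    (hψ'1 : ψ' ≠ 1) :
    classInner (indFun (W₁ ⊔ W₂) (beta φ ψ)) (indFun (W₁ ⊔ W₂) (beta φ' ψ')) =
      1 + (if φ = φ' then 1 else 0) + (if ψ = ψ' then 1 else 0)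
        + (if φ = φ' then 1 else 0) * (if ψ = ψ' then 1 else 0) := by
  rw [classInner_indFun_indFun hW (beta_vanish W₁ W₂ hφ hψ) (beta_vanish W₁ W₂ hφ' hψ'),
    show classInner (beta φ ψ) (beta φ' ψ') =
      classInner (fun x => ((1 : ↥(W₁ ⊔ W₂) →* ℂˣ) x : ℂ)) (beta φ' ψ')
        - classInner (fun x => (φ x : ℂ)) (beta φ' ψ') - classInner (fun x => (ψ x : ℂ)) (beta φ' ψ')
        + classInner (fun x => ((φ * ψ) x : ℂ)) (beta φ' ψ') by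
      rw [beta_expand φ ψ, CharCore.classInner_add_left, CharCore.classInner_sub_left,
        CharCore.classInner_sub_left],
    classInner_hom_beta, classInner_hom_beta, classInner_hom_beta, classInner_hom_beta]
  have e1 : φ * ψ ≠ 1 := mul_ne_one hφ hψ hφ1
  have e2 : φ' * ψ' ≠ 1 := mul_ne_one hφ' hψ' hφ'1
  have e3 : φ * ψ ≠ φ' := fun e => hψ1 (mul_inj W₁ W₂ hφ hφ' hψ (one_mem _) (by rw [mul_one]; exact e)).2
  have e4 : φ * ψ ≠ ψ' := fun e => hφ1 (mul_inj W₁ W₂ hφ (one_mem _) hψ hψ' (by rw [one_mul]; exact e)).1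
  have e5 : φ ≠ φ' * ψ' := fun e => hψ'1 (mul_inj W₁ W₂ hφ hφ' (one_mem _) hψ' (by rw [mul_one]; exact e)).2.symm
  have e6 : ψ ≠ φ' * ψ' := fun e => hφ'1 (mul_inj W₁ W₂ (one_mem _) hφ' hψ hψ' (by rw [one_mul]; exact e)).1.symm
  have e7 : φ ≠ ψ' := hom_ne hφ hψ' hφ1
  have e8 : ψ ≠ φ' := (hom_ne hφ' hψ hφ'1).symm
  have e9 : φ * ψ = φ' * ψ' ↔ φ = φ' ∧ ψ = ψ' :=
    ⟨mul_inj W₁ W₂ hφ hφ' hψ hψ', fun h => by rw [h.1, h.2]⟩
  simp only [hφ1, hψ1, hφ'1.symm, hψ'1.symm, e1, e2.symm, e3, e4, e5, e6, e7, e8, e9, if_false,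
    if_true]
  by_cases a : φ = φ' <;> by_cases b : ψ = ψ' <;> simp [a, b]

theorem classInner_res_beta {χ : (↥(W₁ ⊔ W₂) →* ℂˣ) → (G → ℂ)} [Fintype ↥(W₁ ⊔ W₂)]
    (hχ : IsCyclicTIFamily W₁ W₂ χ) {θ : G → ℂ} (hθ : IsClassFunction G θ)
    {φ ψ : ↥(W₁ ⊔ W₂) →* ℂˣ} (hφ : φ ∈ D1 W₁ W₂) (hψ : ψ ∈ D2 W₁ W₂) (hφ1 : φ ≠ 1)
    (hψ1 : ψ ≠ 1) :
    classInner (fun w : ↥(W₁ ⊔ W₂) => θ w) (beta φ ψ) =
      classInner θ (χ 1) - classInner θ (χ φ) - classInner θ (χ ψ) + classInner θ (χ (φ * ψ)) := by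
  rw [← CharInd.classInner_indFun_right _ _ hθ]
  show classInner θ (indFun (W₁ ⊔ W₂)
    (fun w => 1 - (φ w : ℂ) - (ψ w : ℂ) + (φ w : ℂ) * (ψ w : ℂ))) = _
  rw [hχ.induced_eq φ ψ hφ1 hψ1 hφ hψ,
    show (fun g => 1 - χ φ g - χ ψ g + χ (φ * ψ) g) = χ 1 - χ φ - χ ψ + χ (φ * ψ) by
      funext g; simp [hχ.map_one],
    CharCore.classInner_add_right, CharCore.classInner_sub_right, CharCore.classInner_sub_right]

/-- Coefficients of a function vanishing off `W₁ ∪ W₂` are additive. -/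
theorem coeff_additive {χ : (↥(W₁ ⊔ W₂) →* ℂˣ) → (G → ℂ)} (hχ : IsCyclicTIFamily W₁ W₂ χ)
    {θ : G → ℂ} (hθ : IsClassFunction G θ)
    (hθV : ∀ w : ↥(W₁ ⊔ W₂), (w : G) ∉ W₁ → (w : G) ∉ W₂ → θ w = 0)
    {φ ψ : ↥(W₁ ⊔ W₂) →* ℂˣ} (hφ : φ ∈ D1 W₁ W₂) (hψ : ψ ∈ D2 W₁ W₂) :
    classInner θ (χ (φ * ψ)) =
      classInner θ (χ φ) + classInner θ (χ ψ) - classInner θ (χ 1) := by
  classical
  by_cases hφ1 : φ = 1
  · subst hφ1; rw [show (1 : ↥(W₁ ⊔ W₂) →* ℂˣ) * ψ = ψ from MonoidHom.ext fun x => one_mul _]; ring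
  by_cases hψ1 : ψ = 1
  · subst hψ1; rw [show φ * (1 : ↥(W₁ ⊔ W₂) →* ℂˣ) = φ from MonoidHom.ext fun x => mul_one _]; ring
  have h := classInner_res_beta hχ hθ hφ hψ hφ1 hψ1
  rw [classInner_congr_off (beta_vanish W₁ W₂ hφ hψ) (f' := 0) (fun w a b => hθV w a b),
    CharCore.classInner_zero_left] at h
  linear_combination -h

theorem vanish_of_orth (hW : IsSelfNormalizingCyclic W₁ W₂)
    {χ : (↥(W₁ ⊔ W₂) →* ℂˣ) → (G → ℂ)} (hχ : IsCyclicTIFamily W₁ W₂ χ) {θ : G → ℂ}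
    (hθ : IsClassFunction G θ) (horth : ∀ ω, classInner θ (χ ω) = 0) (w : ↥(W₁ ⊔ W₂))
    (hw₁ : (w : G) ∉ W₁) (hw₂ : (w : G) ∉ W₂) : θ w = 0 := by
  classical
  refine eq_zero_of_orth (Split.of_selfNormalizing hW) (fun x : ↥(W₁ ⊔ W₂) => θ x)
    (fun φ hφ ψ hψ h1 h2 => ?_) w hw₁ hw₂
  rw [classInner_res_beta hχ hθ hφ hψ h1 h2, horth, horth, horth, horth]
  ring

end Cfsg.Agent.OddChar.CycTI
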