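import Cfsg.Prelude.Def_OddOrderChar
import Cfsg.Prelude.Def_OddOrderLocal
import Cfsg.Agent.Lib.CharCore.Basic
import Cfsg.Agent.Lib.CharInd.Basic
import Mathlib.GroupTheory.FiniteAbelian.Duality
import Mathlib.RingTheory.RootsOfUnity.Complex
import Mathlib.RingTheory.RootsOfUnity.AlgebraicallyClosed
import Mathlib.Analysis.Complex.Polynomial.Basic
import Mathlib.GroupTheory.SpecificGroups.Cyclic
import Mathlib.RingTheory.IntegralDomain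

set_option autoImplicit false

/-!
The duals of the factors of `W = W₁ × W₂` and the functions `(1 - φ) (1 - ψ)`.
-/

namespace Cfsg.Agent.OddChar.CycTI

open Cfsg
open scoped ComplexConjugate

variable {G : Type*} [Group G] (W₁ W₂ : Subgroup G)

/-- Linear characters of `W₁ ⊔ W₂` trivial on `W₂`. -/
def D1 : Subgroup (↥(W₁ ⊔ W₂) →* ℂˣ) where
  carrier := {φ | ∀ w : ↥(W₁ ⊔ W₂), (w : G) ∈ W₂ → φ w = 1}
  one_mem' := fun _ _ => rfl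
  mul_mem' := fun ha hb w hw => by simp [ha w hw, hb w hw]
  inv_mem' := fun ha w hw => by simp [ha w hw]

/-- Linear characters of `W₁ ⊔ W₂` trivial on `W₁`. -/
def D2 : Subgroup (↥(W₁ ⊔ W₂) →* ℂˣ) where
  carrier := {φ | ∀ w : ↥(W₁ ⊔ W₂), (w : G) ∈ W₁ → φ w = 1}
  one_mem' := fun _ _ => rfl
  mul_mem' := fun ha hb w hw => by simp [ha w hw, hb w hw]
  inv_mem' := fun ha w hw => by simp [ha w hw]

/-- The function `1 - φ - ψ + φ ψ`. -/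
noncomputable def beta {W : Type*} [Group W] (φ ψ : W →* ℂˣ) : W → ℂ :=
  fun w => 1 - (φ w : ℂ) - (ψ w : ℂ) + (φ w : ℂ) * (ψ w : ℂ)

theorem beta_eq {W : Type*} [Group W] (φ ψ : W →* ℂˣ) (w : W) :
    beta φ ψ w = (1 - (φ w : ℂ)) * (1 - (ψ w : ℂ)) := by
  unfold beta; ring

theorem eq_of_eq_on {φ φ' : ↥(W₁ ⊔ W₂) →* ℂˣ}
    (h₁ : ∀ w : ↥(W₁ ⊔ W₂), (w : G) ∈ W₁ → φ w = φ' w)
    (h₂ : ∀ w : ↥(W₁ ⊔ W₂), (w : G) ∈ W₂ → φ w = φ' w) : φ = φ' := by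
  refine MonoidHom.ext fun ⟨w, hw⟩ => ?_
  have key : ∀ x ∈ W₁ ⊔ W₂, ∀ hx : x ∈ W₁ ⊔ W₂, φ ⟨x, hx⟩ = φ' ⟨x, hx⟩ := by
    intro x hx
    rw [Subgroup.sup_eq_closure] at hx
    induction hx using Subgroup.closure_induction with
    | mem y hy => exact fun hy' => hy.elim (h₁ ⟨y, hy'⟩) (h₂ ⟨y, hy'⟩)
    | one =>
      intro h
      rw [show (⟨1, h⟩ : ↥(W₁ ⊔ W₂)) = 1 from rfl, map_one, map_one]
    | mul a b ha hb iha ihb =>
      intro h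
      rw [← Subgroup.sup_eq_closure] at ha hb
      rw [show (⟨a * b, h⟩ : ↥(W₁ ⊔ W₂)) = ⟨a, ha⟩ * ⟨b, hb⟩ from rfl, map_mul, map_mul,
        iha ha, ihb hb]
    | inv a ha iha =>
      intro h
      rw [← Subgroup.sup_eq_closure] at ha
      rw [show (⟨a⁻¹, h⟩ : ↥(W₁ ⊔ W₂)) = ⟨a, ha⟩⁻¹ from rfl, map_inv, map_inv, iha ha]
  exact key w hw hw

theorem beta_vanish {φ ψ : ↥(W₁ ⊔ W₂) →* ℂˣ} (hφ : φ ∈ D1 W₁ W₂) (hψ : ψ ∈ D2 W₁ W₂)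
    (w : ↥(W₁ ⊔ W₂)) (hw : (w : G) ∈ W₁ ∨ (w : G) ∈ W₂) : beta φ ψ w = 0 := by
  rw [beta_eq]
  rcases hw with hw | hw
  · simp [hψ w hw]
  · simp [hφ w hw]

theorem d_disjoint {φ : ↥(W₁ ⊔ W₂) →* ℂˣ} (h1 : φ ∈ D1 W₁ W₂) (h2 : φ ∈ D2 W₁ W₂) : φ = 1 :=
  eq_of_eq_on W₁ W₂ (fun w hw => by rw [h2 w hw]; rfl) (fun w hw => by rw [h1 w hw]; rfl)

theorem mul_inj {φ φ' ψ ψ' : ↥(W₁ ⊔ W₂) →* ℂˣ} (hφ : φ ∈ D1 W₁ W₂) (hφ' : φ' ∈ D1 W₁ W₂)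
    (hψ : ψ ∈ D2 W₁ W₂) (hψ' : ψ' ∈ D2 W₁ W₂) (h : φ * ψ = φ' * ψ') : φ = φ' ∧ ψ = ψ' := by
  have h1 : φ = φ' := eq_of_eq_on W₁ W₂ (fun w hw => by
    have := DFunLike.congr_fun h w
    simpa [hψ w hw, hψ' w hw] using this) (fun w hw => by rw [hφ w hw, hφ' w hw])
  subst h1
  exact ⟨rfl, mul_left_cancel h⟩

section Decompose

variable (hdisj : W₁ ⊓ W₂ = ⊥) (hcomm : ∀ a ∈ W₁, ∀ b ∈ W₂, a * b = b * a)

/-- The product map `W₁ × W₂ → W₁ ⊔ W₂`. -/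
def prodHom : ↥W₁ × ↥W₂ →* ↥(W₁ ⊔ W₂) where
  toFun p := ⟨p.1 * p.2, Subgroup.mul_mem_sup p.1.2 p.2.2⟩
  map_one' := Subtype.ext (by simp)
  map_mul' p q := Subtype.ext (by
    show ((p.1 : G) * q.1) * ((p.2 : G) * q.2) = ((p.1 : G) * p.2) * ((q.1 : G) * q.2)
    simp only [mul_assoc]
    congr 1
    rw [← mul_assoc, hcomm q.1 q.1.2 p.2 p.2.2, mul_assoc])

include hdisj in
theorem prodHom_bijective : Function.Bijective (prodHom W₁ W₂ hcomm) := by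
  refine ⟨(injective_iff_map_eq_one _).mpr fun p hp => ?_, ?_⟩
  · have h : (p.1 : G) * p.2 = 1 := congrArg Subtype.val hp
    have h1 : (p.1 : G) ∈ W₁ ⊓ W₂ := ⟨p.1.2, by
      rw [eq_inv_of_mul_eq_one_left h]; exact W₂.inv_mem p.2.2⟩
    rw [hdisj, Subgroup.mem_bot] at h1
    rw [h1, one_mul] at h
    exact Prod.ext (Subtype.ext h1) (Subtype.ext h)
  · rw [← MonoidHom.range_eq_top]
    refine eq_top_iff.mpr fun w _ => ?_
    have hle : W₁ ⊔ W₂ ≤ (prodHom W₁ W₂ hcomm).range.map (W₁ ⊔ W₂).subtype := by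
      refine sup_le (fun a ha => ?_) fun b hb => ?_
      · exact ⟨_, ⟨(⟨a, ha⟩, 1), rfl⟩, by simp [prodHom]⟩
      · exact ⟨_, ⟨(1, ⟨b, hb⟩), rfl⟩, by simp [prodHom]⟩
    obtain ⟨x, hx, hxw⟩ := hle w.2
    exact Subtype.ext (a1 := x) hxw ▸ hx

/-- `W₁ × W₂ ≃* W₁ ⊔ W₂`. -/
noncomputable def prodEquiv : ↥W₁ × ↥W₂ ≃* ↥(W₁ ⊔ W₂) :=
  MulEquiv.ofBijective _ (prodHom_bijective W₁ W₂ hdisj hcomm)

/-- The projection to `W₁`. -/
noncomputable def pr1 : ↥(W₁ ⊔ W₂) →* ↥W₁ :=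
  (MonoidHom.fst ↥W₁ ↥W₂).comp (prodEquiv W₁ W₂ hdisj hcomm).symm.toMonoidHom

/-- The projection to `W₂`. -/
noncomputable def pr2 : ↥(W₁ ⊔ W₂) →* ↥W₂ :=
  (MonoidHom.snd ↥W₁ ↥W₂).comp (prodEquiv W₁ W₂ hdisj hcomm).symm.toMonoidHom

theorem pr_mul_pr (w : ↥(W₁ ⊔ W₂)) :
    (w : G) = (pr1 W₁ W₂ hdisj hcomm w : G) * (pr2 W₁ W₂ hdisj hcomm w : G) :=
  (congrArg Subtype.val ((prodEquiv W₁ W₂ hdisj hcomm).apply_symm_apply w)).symm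

theorem pr_of_mem_left (a : W₁) :
    (prodEquiv W₁ W₂ hdisj hcomm).symm ⟨a, Subgroup.mem_sup_left a.2⟩ = (a, 1) := by
  rw [MulEquiv.symm_apply_eq]
  exact Subtype.ext (show (a : G) = a * ((1 : W₂) : G) by simp)

theorem pr_of_mem_right (b : W₂) :
    (prodEquiv W₁ W₂ hdisj hcomm).symm ⟨b, Subgroup.mem_sup_right b.2⟩ = (1, b) := by
  rw [MulEquiv.symm_apply_eq]
  exact Subtype.ext (show (b : G) = ((1 : W₁) : G) * b by simp)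

theorem pr1_eq_one_iff (w : ↥(W₁ ⊔ W₂)) : pr1 W₁ W₂ hdisj hcomm w = 1 ↔ (w : G) ∈ W₂ := by
  constructor
  · intro h
    rw [pr_mul_pr W₁ W₂ hdisj hcomm w, h, Subgroup.coe_one, one_mul]
    exact Subtype.coe_prop _
  · intro h
    have e := pr_of_mem_right W₁ W₂ hdisj hcomm ⟨w, h⟩
    simp only [pr1, MonoidHom.coe_comp, MonoidHom.coe_fst, MulEquiv.coe_toMonoidHom,
      Function.comp_apply]
    exact congrArg Prod.fst e

theorem pr2_eq_one_iff (w : ↥(W₁ ⊔ W₂)) : pr2 W₁ W₂ hdisj hcomm w = 1 ↔ (w : G) ∈ W₁ := by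
  constructor
  · intro h
    rw [pr_mul_pr W₁ W₂ hdisj hcomm w, h, Subgroup.coe_one, mul_one]
    exact Subtype.coe_prop _
  · intro h
    have e := pr_of_mem_left W₁ W₂ hdisj hcomm ⟨w, h⟩
    simp only [pr2, MonoidHom.coe_comp, MonoidHom.coe_snd, MulEquiv.coe_toMonoidHom,
      Function.comp_apply]
    exact congrArg Prod.snd e

theorem pr1_of_mem (a : W₁) :
    pr1 W₁ W₂ hdisj hcomm ⟨a, Subgroup.mem_sup_left a.2⟩ = a :=
  congrArg Prod.fst (pr_of_mem_left W₁ W₂ hdisj hcomm a)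

theorem pr2_of_mem (b : W₂) :
    pr2 W₁ W₂ hdisj hcomm ⟨b, Subgroup.mem_sup_right b.2⟩ = b :=
  congrArg Prod.snd (pr_of_mem_right W₁ W₂ hdisj hcomm b)

/-- `D1` is the dual of `W₁`. -/
noncomputable def d1Equiv : ↥(D1 W₁ W₂) ≃ (↥W₁ →* ℂˣ) where
  toFun φ := φ.1.comp (Subgroup.inclusion le_sup_left)
  invFun a := ⟨a.comp (pr1 W₁ W₂ hdisj hcomm), fun w hw => by
    rw [MonoidHom.comp_apply, (pr1_eq_one_iff W₁ W₂ hdisj hcomm w).mpr hw, map_one]⟩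
  left_inv φ := Subtype.ext (eq_of_eq_on W₁ W₂
    (fun w hw => by
      have e : pr1 W₁ W₂ hdisj hcomm w = ⟨w, hw⟩ := pr1_of_mem W₁ W₂ hdisj hcomm ⟨w, hw⟩
      simp [e]; rfl)
    (fun w hw => by
      rw [φ.2 w hw, MonoidHom.comp_apply, (pr1_eq_one_iff W₁ W₂ hdisj hcomm w).mpr hw, map_one]))
  right_inv a := MonoidHom.ext fun x => congrArg a (pr1_of_mem W₁ W₂ hdisj hcomm x)

/-- `D2` is the dual of `W₂`. -/
noncomputable def d2Equiv : ↥(D2 W₁ W₂) ≃ (↥W₂ →* ℂˣ) where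
  toFun φ := φ.1.comp (Subgroup.inclusion le_sup_right)
  invFun a := ⟨a.comp (pr2 W₁ W₂ hdisj hcomm), fun w hw => by
    rw [MonoidHom.comp_apply, (pr2_eq_one_iff W₁ W₂ hdisj hcomm w).mpr hw, map_one]⟩
  left_inv φ := Subtype.ext (eq_of_eq_on W₁ W₂
    (fun w hw => by
      rw [φ.2 w hw, MonoidHom.comp_apply, (pr2_eq_one_iff W₁ W₂ hdisj hcomm w).mpr hw, map_one])
    (fun w hw => by
      have e : pr2 W₁ W₂ hdisj hcomm w = ⟨w, hw⟩ := pr2_of_mem W₁ W₂ hdisj hcomm ⟨w, hw⟩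
      simp [e]; rfl))
  right_inv a := MonoidHom.ext fun x => congrArg a (pr2_of_mem W₁ W₂ hdisj hcomm x)

include hdisj hcomm in
theorem exists_factor (ω : ↥(W₁ ⊔ W₂) →* ℂˣ) :
    ∃ φ ∈ D1 W₁ W₂, ∃ ψ ∈ D2 W₁ W₂, φ * ψ = ω := by
  let a := (d1Equiv W₁ W₂ hdisj hcomm).symm (ω.comp (Subgroup.inclusion le_sup_left))
  let b := (d2Equiv W₁ W₂ hdisj hcomm).symm (ω.comp (Subgroup.inclusion le_sup_right))
  refine ⟨a.1, a.2, b.1, b.2, eq_of_eq_on W₁ W₂ (fun w hw => ?_) (fun w hw => ?_)⟩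
  · rw [MonoidHom.mul_apply, b.2 w hw, mul_one]
    have e := DFunLike.congr_fun ((d1Equiv W₁ W₂ hdisj hcomm).apply_symm_apply
      (ω.comp (Subgroup.inclusion le_sup_left))) ⟨w, hw⟩
    exact e
  · rw [MonoidHom.mul_apply, a.2 w hw, one_mul]
    have e := DFunLike.congr_fun ((d2Equiv W₁ W₂ hdisj hcomm).apply_symm_apply
      (ω.comp (Subgroup.inclusion le_sup_right))) ⟨w, hw⟩
    exact e

end Decompose

section Data

variable [Finite G]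

/-- The standing facts on `W₁`, `W₂` used for duality. -/
structure Split : Prop where
  disj : W₁ ⊓ W₂ = ⊥
  comm : ∀ a ∈ W₁, ∀ b ∈ W₂, a * b = b * a
  cyc : IsCyclic ↥(W₁ ⊔ W₂)

variable {W₁ W₂}

omit [Finite G] in
theorem Split.of_selfNormalizing (hW : IsSelfNormalizingCyclic W₁ W₂) : Split W₁ W₂ :=
  ⟨hW.2.2.1, hW.2.2.2.1, hW.2.2.2.2.1⟩

omit [Finite G] in
theorem Split.mulComm (h : Split W₁ W₂) (x y : ↥(W₁ ⊔ W₂)) : x * y = y * x := by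
  have := h.cyc
  exact (IsCyclic.isMulCommutative (α := ↥(W₁ ⊔ W₂))).is_comm.comm x y

omit [Finite G] in
theorem Split.cyc_left (h : Split W₁ W₂) : IsCyclic ↥W₁ :=
  have := h.cyc
  isCyclic_of_surjective (pr1 W₁ W₂ h.disj h.comm) fun a => ⟨_, pr1_of_mem W₁ W₂ h.disj h.comm a⟩

omit [Finite G] in
theorem Split.cyc_right (h : Split W₁ W₂) : IsCyclic ↥W₂ :=
  have := h.cyc
  isCyclic_of_surjective (pr2 W₁ W₂ h.disj h.comm) fun a => ⟨_, pr2_of_mem W₁ W₂ h.disj h.comm a⟩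

theorem dual_finite {A : Type*} [Group A] [Finite A] (hA : IsCyclic A) : Finite (A →* ℂˣ) := by
  letI : CommGroup A := hA.commGroup
  obtain ⟨e⟩ := CommGroup.monoidHom_mulEquiv_of_hasEnoughRootsOfUnity A ℂ
  exact Finite.of_equiv A e.toEquiv.symm

theorem dual_card {A : Type*} [Group A] [Finite A] (hA : IsCyclic A) :
    Nat.card (A →* ℂˣ) = Nat.card A := by
  letI : CommGroup A := hA.commGroup
  exact CommGroup.card_monoidHom_of_hasEnoughRootsOfUnity A ℂ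

theorem dual_sep {A : Type*} [Group A] [Finite A] (hA : IsCyclic A) {x : A} (hx : x ≠ 1) :
    ∃ φ : A →* ℂˣ, φ x ≠ 1 := by
  letI : CommGroup A := hA.commGroup
  exact CommGroup.exists_apply_ne_one_of_hasEnoughRootsOfUnity A ℂ hx

theorem Split.finite_dual (h : Split W₁ W₂) : Finite (↥(W₁ ⊔ W₂) →* ℂˣ) := dual_finite h.cyc

theorem Split.card_d1 (h : Split W₁ W₂) : Nat.card ↥(D1 W₁ W₂) = Nat.card W₁ := by
  rw [Nat.card_congr (d1Equiv W₁ W₂ h.disj h.comm), dual_card h.cyc_left]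

theorem Split.card_d2 (h : Split W₁ W₂) : Nat.card ↥(D2 W₁ W₂) = Nat.card W₂ := by
  rw [Nat.card_congr (d2Equiv W₁ W₂ h.disj h.comm), dual_card h.cyc_right]

theorem norm_hom_apply {A : Type*} [Group A] [Finite A] (φ : A →* ℂˣ) (x : A) :
    ‖(φ x : ℂ)‖ = 1 := by
  refine Complex.norm_eq_one_of_pow_eq_one (n := Nat.card A) ?_ Nat.card_pos.ne'
  rw [← Units.val_pow_eq_pow_val, ← map_pow, pow_card_eq_one', map_one, Units.val_one]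

theorem conj_hom_apply {A : Type*} [Group A] [Finite A] (φ : A →* ℂˣ) (x : A) :
    conj (φ x : ℂ) = (φ x⁻¹ : ℂ) := by
  rw [← Complex.inv_eq_conj (norm_hom_apply φ x), map_inv, Units.val_inv_eq_inv_val]

theorem sum_d1_apply (h : Split W₁ W₂) [Fintype ↥(D1 W₁ W₂)] {w : ↥(W₁ ⊔ W₂)}
    (hw : (w : G) ∉ W₂) : ∑ φ : ↥(D1 W₁ W₂), ((φ : ↥(W₁ ⊔ W₂) →* ℂˣ) w : ℂ) = 0 := by
  obtain ⟨a, ha⟩ := dual_sep h.cyc_left
    (mt (pr1_eq_one_iff W₁ W₂ h.disj h.comm w).mp hw)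
  set φ₀ := (d1Equiv W₁ W₂ h.disj h.comm).symm a with hφ₀
  have hne : ((φ₀ : ↥(W₁ ⊔ W₂) →* ℂˣ) w : ℂ) ≠ 1 := fun e => ha (Units.ext e)
  have key := Equiv.sum_comp (Equiv.mulLeft φ₀)
    (fun φ : ↥(D1 W₁ W₂) => ((φ : ↥(W₁ ⊔ W₂) →* ℂˣ) w : ℂ))
  simp only [Equiv.coe_mulLeft, Subgroup.coe_mul, MonoidHom.mul_apply, Units.val_mul,
    ← Finset.mul_sum] at key
  by_contra h0
  exact hne (mul_right_cancel₀ h0 (key.trans (one_mul _).symm))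

theorem sum_d2_apply (h : Split W₁ W₂) [Fintype ↥(D2 W₁ W₂)] {w : ↥(W₁ ⊔ W₂)}
    (hw : (w : G) ∉ W₁) : ∑ φ : ↥(D2 W₁ W₂), ((φ : ↥(W₁ ⊔ W₂) →* ℂˣ) w : ℂ) = 0 := by
  obtain ⟨a, ha⟩ := dual_sep h.cyc_right
    (mt (pr2_eq_one_iff W₁ W₂ h.disj h.comm w).mp hw)
  set φ₀ := (d2Equiv W₁ W₂ h.disj h.comm).symm a with hφ₀
  have hne : ((φ₀ : ↥(W₁ ⊔ W₂) →* ℂˣ) w : ℂ) ≠ 1 := fun e => ha (Units.ext e)
  have key := Equiv.sum_comp (Equiv.mulLeft φ₀)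
    (fun φ : ↥(D2 W₁ W₂) => ((φ : ↥(W₁ ⊔ W₂) →* ℂˣ) w : ℂ))
  simp only [Equiv.coe_mulLeft, Subgroup.coe_mul, MonoidHom.mul_apply, Units.val_mul,
    ← Finset.mul_sum] at key
  by_contra h0
  exact hne (mul_right_cancel₀ h0 (key.trans (one_mul _).symm))

/-- Orthogonality of linear characters. -/
theorem classInner_hom {A : Type*} [Group A] [Fintype A] [DecidableEq (A →* ℂˣ)]
    (φ ψ : A →* ℂˣ) :
    classInner (fun x => (φ x : ℂ)) (fun x => (ψ x : ℂ)) = if φ = ψ then 1 else 0 := by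
  rw [CharCore.classInner_def]
  have hx : ∀ x, (φ x : ℂ) * conj (ψ x : ℂ) = ((φ * ψ⁻¹) x : ℂ) := fun x => by
    rw [conj_hom_apply, map_inv]; simp
  simp only [hx]
  split_ifs with e
  · subst e
    simp [Finset.card_univ, Nat.card_eq_fintype_card]
  · have : ∑ x, (((Units.coeHom ℂ).comp (φ * ψ⁻¹)) x) = (0 : ℂ) :=
      sum_hom_units_eq_zero _ fun h1 => e (by
        refine MonoidHom.ext fun x => Units.ext ?_
        have := DFunLike.congr_fun h1 x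
        simp only [MonoidHom.coe_comp, Function.comp_apply, Units.coeHom_apply, MonoidHom.mul_apply,
          MonoidHom.inv_apply, Units.val_mul, Units.val_inv_eq_inv_val, MonoidHom.one_apply] at this
        exact (mul_inv_eq_one₀ (Units.ne_zero _)).mp this)
    simp only [MonoidHom.coe_comp, Function.comp_apply, Units.coeHom_apply] at this
    rw [this, mul_zero]

/-- A function orthogonal to all `(1 - φ) (1 - ψ)` vanishes off `W₁ ∪ W₂`. -/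
theorem eq_zero_of_orth (h : Split W₁ W₂) [Fintype ↥(W₁ ⊔ W₂)] (f : ↥(W₁ ⊔ W₂) → ℂ)
    (hf : ∀ φ ∈ D1 W₁ W₂, ∀ ψ ∈ D2 W₁ W₂, φ ≠ 1 → ψ ≠ 1 → classInner f (beta φ ψ) = 0)
    (v : ↥(W₁ ⊔ W₂)) (hv₁ : (v : G) ∉ W₁) (hv₂ : (v : G) ∉ W₂) : f v = 0 := by
  classical
  have := h.finite_dual
  have : Fintype (↥(W₁ ⊔ W₂) →* ℂˣ) := Fintype.ofFinite _
  have hall : ∀ (φ : ↥(D1 W₁ W₂)) (ψ : ↥(D2 W₁ W₂)), classInner f (beta φ.1 ψ.1) = 0 := by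
    intro φ ψ
    by_cases h1 : φ.1 = 1
    · rw [show beta φ.1 ψ.1 = 0 by funext w; simp [beta_eq, h1], CharCore.classInner_zero_right]
    by_cases h2 : ψ.1 = 1
    · rw [show beta φ.1 ψ.1 = 0 by funext w; simp [beta_eq, h2], CharCore.classInner_zero_right]
    exact hf _ φ.2 _ ψ.2 h1 h2
  have s1 : ∀ x, ∑ φ : ↥(D1 W₁ W₂), (φ.1 v : ℂ) * conj (1 - (φ.1 x : ℂ))
      = -(if ((v * x⁻¹ : ↥(W₁ ⊔ W₂)) : G) ∈ W₂ then (Nat.card ↥(D1 W₁ W₂) : ℂ) else 0) := by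
    intro x
    simp only [map_sub, map_one, mul_sub, mul_one, Finset.sum_sub_distrib, sum_d1_apply h hv₂,
      conj_hom_apply, ← Units.val_mul, ← map_mul, zero_sub]
    split_ifs with hx
    · rw [Finset.sum_congr rfl (g := fun _ => (1 : ℂ)) fun φ _ => by rw [φ.2 _ hx]; rfl]
      simp [Nat.card_eq_fintype_card]
    · rw [sum_d1_apply h hx]
  have s2 : ∀ x, ∑ φ : ↥(D2 W₁ W₂), (φ.1 v : ℂ) * conj (1 - (φ.1 x : ℂ))
      = -(if ((v * x⁻¹ : ↥(W₁ ⊔ W₂)) : G) ∈ W₁ then (Nat.card ↥(D2 W₁ W₂) : ℂ) else 0) := by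
    intro x
    simp only [map_sub, map_one, mul_sub, mul_one, Finset.sum_sub_distrib, sum_d2_apply h hv₁,
      conj_hom_apply, ← Units.val_mul, ← map_mul, zero_sub]
    split_ifs with hx
    · rw [Finset.sum_congr rfl (g := fun _ => (1 : ℂ)) fun φ _ => by rw [φ.2 _ hx]; rfl]
      simp [Nat.card_eq_fintype_card]
    · rw [sum_d2_apply h hx]
  have key : ∀ x, ∑ φ : ↥(D1 W₁ W₂), ∑ ψ : ↥(D2 W₁ W₂),
      (φ.1 v : ℂ) * (ψ.1 v : ℂ) * conj (beta φ.1 ψ.1 x)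
      = if x = v then (Nat.card ↥(D1 W₁ W₂) : ℂ) * (Nat.card ↥(D2 W₁ W₂) : ℂ) else 0 := by
    intro x
    rw [show (∑ φ : ↥(D1 W₁ W₂), ∑ ψ : ↥(D2 W₁ W₂),
        (φ.1 v : ℂ) * (ψ.1 v : ℂ) * conj (beta φ.1 ψ.1 x)) =
        (∑ φ : ↥(D1 W₁ W₂), (φ.1 v : ℂ) * conj (1 - (φ.1 x : ℂ))) *
          ∑ ψ : ↥(D2 W₁ W₂), (ψ.1 v : ℂ) * conj (1 - (ψ.1 x : ℂ)) by
      rw [Finset.sum_mul_sum]
      refine Finset.sum_congr rfl fun φ _ => Finset.sum_congr rfl fun ψ _ => ?_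
      rw [beta_eq, map_mul]; ring, s1, s2]
    by_cases hx : x = v
    · subst hx; simp
    · rw [if_neg hx]
      have hne : ¬ (((v * x⁻¹ : ↥(W₁ ⊔ W₂)) : G) ∈ W₂ ∧ ((v * x⁻¹ : ↥(W₁ ⊔ W₂)) : G) ∈ W₁) :=
        fun ⟨a, b⟩ => hx (by
          have : ((v * x⁻¹ : ↥(W₁ ⊔ W₂)) : G) ∈ W₁ ⊓ W₂ := ⟨b, a⟩
          rw [h.disj, Subgroup.mem_bot] at this
          exact (mul_inv_eq_one.mp (Subtype.ext this : v * x⁻¹ = 1)).symm)
      by_cases a : ((v * x⁻¹ : ↥(W₁ ⊔ W₂)) : G) ∈ W₂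
      · rw [if_neg (fun b => hne ⟨a, b⟩)]; simp
      · rw [if_neg a]; simp
  have hsum : ∑ x, f x * (if x = v then
      (Nat.card ↥(D1 W₁ W₂) : ℂ) * (Nat.card ↥(D2 W₁ W₂) : ℂ) else 0) = 0 := by
    simp only [← key, Finset.mul_sum]
    rw [Finset.sum_comm]
    refine Finset.sum_eq_zero fun φ _ => ?_
    rw [Finset.sum_comm]
    refine Finset.sum_eq_zero fun ψ _ => ?_
    have h0 := hall φ ψ
    rw [CharCore.classInner_def, mul_eq_zero] at h0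
    replace h0 := h0.resolve_left (inv_ne_zero (Nat.cast_ne_zero.mpr Nat.card_pos.ne'))
    rw [show (∑ x, f x * ((φ.1 v : ℂ) * (ψ.1 v : ℂ) * conj (beta φ.1 ψ.1 x))) =
      ((φ.1 v : ℂ) * (ψ.1 v : ℂ)) * ∑ x, f x * conj (beta φ.1 ψ.1 x) by
        rw [Finset.mul_sum]; exact Finset.sum_congr rfl fun x _ => by ring, h0, mul_zero]
  simp only [mul_ite, mul_zero, Finset.sum_ite_eq', Finset.mem_univ, if_true] at hsum
  exact (mul_eq_zero.mp hsum).resolve_right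
    (mul_ne_zero (Nat.cast_ne_zero.mpr Nat.card_pos.ne') (Nat.cast_ne_zero.mpr Nat.card_pos.ne'))

end Data

end Cfsg.Agent.OddChar.CycTI
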