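import Cfsg.Prelude.Def_OddOrderChar
import Cfsg.Agent.OddChar.Coprime

set_option autoImplicit false

/-!
Elementary consequences of the Dade hypothesis.
-/

namespace Cfsg.Agent.OddChar

open Cfsg

variable {G : Type*} [Group G] {A : Set G} {L : Subgroup G} {H : G → Subgroup G}

theorem dade_mem_centL (hD : DadeHypothesis A L H) {a : G} (ha : a ∈ A) :
    a ∈ L ⊓ Subgroup.centralizer ({a} : Set G) :=
  ⟨hD.subset ha, Subgroup.mem_centralizer_singleton_iff.mpr rfl⟩

theorem dade_H_commute (hD : DadeHypothesis A L H) {a u : G} (ha : a ∈ A) (hu : u ∈ H a) :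
    a * u = u * a :=
  (Subgroup.mem_centralizer_singleton_iff.mp (hD.le_centralizer a ha hu)).symm

/-- An element of `C(a)` of order prime to `|C_L(a)|` lies in `H a`. -/
theorem dade_mem_H_of_coprime [Finite G] (hD : DadeHypothesis A L H) {a u : G} (ha : a ∈ A)
    (hu : u ∈ Subgroup.centralizer ({a} : Set G)) {n : ℕ} (hn : u ^ n = 1)
    (hcop : Nat.Coprime n (Nat.card ↥(L ⊓ Subgroup.centralizer ({a} : Set G)))) :
    u ∈ H a := by
  set D := L ⊓ Subgroup.centralizer ({a} : Set G) with hDdef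
  have hnorm : D ≤ Subgroup.normalizer (H a : Set G) := by
    intro c hc
    rw [Subgroup.mem_normalizer_iff]
    refine fun v => ⟨hD.conj_mem_H a ha c hc.2 v, fun hv => ?_⟩
    simpa [mul_assoc] using hD.conj_mem_H a ha c⁻¹ (Subgroup.inv_mem _ hc.2) _ hv
  have hu' : u ∈ ((H a ⊔ D : Subgroup G) : Set G) := by rw [hD.sup_eq a ha]; exact hu
  rw [Subgroup.coe_mul_of_right_le_normalizer_left (H a) D hnorm] at hu'
  obtain ⟨k, hk, l, hl, rfl⟩ := Set.mem_mul.mp hu'
  have hpow : ∀ i : ℕ, ∃ k' ∈ H a, (k * l) ^ i = k' * l ^ i := by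
    intro i
    induction i with
    | zero => exact ⟨1, (H a).one_mem, by simp⟩
    | succ i ih =>
      obtain ⟨k', hk', he⟩ := ih
      refine ⟨k' * (l ^ i * k * (l ^ i)⁻¹), (H a).mul_mem hk'
        (hD.conj_mem_H a ha _ (Subgroup.pow_mem _ hl.2 i) k hk), ?_⟩
      rw [pow_succ, he, pow_succ]; group
  obtain ⟨k', hk', he⟩ := hpow n
  rw [hn] at he
  have hl1 : l ^ n ∈ H a ⊓ D := by
    refine ⟨?_, D.pow_mem hl n⟩
    rw [show l ^ n = k'⁻¹ from eq_inv_of_mul_eq_one_right he.symm]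
    exact (H a).inv_mem hk'
  rw [hDdef, hD.inf_eq_bot a ha, Subgroup.mem_bot] at hl1
  have hl2 : l = 1 := by
    rw [← orderOf_eq_one_iff]
    exact Nat.eq_one_of_dvd_coprimes hcop (orderOf_dvd_of_pow_eq_one hl1)
      (orderOf_dvd_of_pow_eq_one (pow_card_eq_one_of_mem D hl))
  subst hl2
  simpa using hk

/-- `g` conjugating an element of `a * H a` into `b * H b` conjugates `a` to `b`. -/
theorem dade_conj_eq [Finite G] (hD : DadeHypothesis A L H) {a b g u v : G} (ha : a ∈ A)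
    (hb : b ∈ A) (hu : u ∈ H a) (hv : v ∈ H b) (hg : g * (a * u) * g⁻¹ = b * v) :
    g * a * g⁻¹ = b := by
  refine conj_eq_of_coprime (n := Nat.card ↥(L ⊓ Subgroup.centralizer ({a} : Set G)) *
    Nat.card ↥(L ⊓ Subgroup.centralizer ({b} : Set G))) (m := Nat.card (H a) * Nat.card (H b))
    ?_ (dade_H_commute hD ha hu) (dade_H_commute hD hb hv) ?_ ?_ ?_ ?_ hg
  · exact Nat.Coprime.mul_left
      (Nat.Coprime.mul_right (hD.coprime a ha a ha).symm (hD.coprime b hb a ha).symm)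
      (Nat.Coprime.mul_right (hD.coprime a ha b hb).symm (hD.coprime b hb b hb).symm)
  · rw [pow_mul, pow_card_eq_one_of_mem _ (dade_mem_centL hD ha), one_pow]
  · rw [pow_mul, pow_card_eq_one_of_mem _ hu, one_pow]
  · rw [Nat.mul_comm, pow_mul, pow_card_eq_one_of_mem _ (dade_mem_centL hD hb), one_pow]
  · rw [Nat.mul_comm, pow_mul, pow_card_eq_one_of_mem _ hv, one_pow]

theorem dade_centralizer_conj {a x c : G} (hc : c ∈ Subgroup.centralizer ({a} : Set G)) :
    x * c * x⁻¹ ∈ Subgroup.centralizer ({x * a * x⁻¹} : Set G) := by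
  rw [Subgroup.mem_centralizer_singleton_iff] at hc ⊢
  calc x * c * x⁻¹ * (x * a * x⁻¹) = x * (c * a) * x⁻¹ := by group
    _ = x * a * x⁻¹ * (x * c * x⁻¹) := by rw [hc]; group

theorem dade_H_conj_mem [Finite G] (hD : DadeHypothesis A L H) {a x u : G} (ha : a ∈ A)
    (hx : x ∈ L) (hu : u ∈ H a) : x * u * x⁻¹ ∈ H (x * a * x⁻¹) := by
  have hb := hD.conj_mem x hx a ha
  refine dade_mem_H_of_coprime hD hb (dade_centralizer_conj (hD.le_centralizer a ha hu))
    (n := Nat.card (H a)) ?_ (hD.coprime a ha _ hb)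
  rw [conj_pow, pow_card_eq_one_of_mem _ hu, mul_one, mul_inv_cancel]

/-- `H` is `L`-equivariant. -/
theorem dade_H_conj [Finite G] (hD : DadeHypothesis A L H) {a x : G} (ha : a ∈ A)
    (hx : x ∈ L) : H (x * a * x⁻¹) = (H a).map (MulAut.conj x).toMonoidHom := by
  ext u
  rw [Subgroup.mem_map]
  constructor
  · intro hu
    refine ⟨x⁻¹ * u * x, ?_, by simp [MulAut.conj_apply, mul_assoc]⟩
    have := dade_H_conj_mem hD (hD.conj_mem x hx a ha) (L.inv_mem hx) hu
    simpa [mul_assoc] using this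
  · rintro ⟨v, hv, rfl⟩
    exact dade_H_conj_mem hD ha hx hv

end Cfsg.Agent.OddChar
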