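import Mathlib.Algebra.BigOperators.Ring.Finset
import Mathlib.Algebra.Order.BigOperators.Group.Finset
import Mathlib.Data.Fintype.BigOperators
import Mathlib.Tactic.Linarith
import Mathlib.Tactic.Ring
import Mathlib.Tactic.FinCases

set_option autoImplicit false

/-!
A small verified search: in a `2 × 4` grid of integer vectors of norm three in which two cells
have inner product `1` when they share a row or a column and `0` otherwise, two cells in
different rows and columns have disjoint supports.
-/

namespace Cfsg.Agent.OddChar.Grid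

/-- Dot product of two coefficient lists, the shorter one padded with zeros. -/
def dot : List ℤ → List ℤ → ℤ
  | a :: l, b :: m => a * b + dot l m
  | _, _ => 0

/-- All coefficient lists with `b` nonzero entries on `na` old atoms and fresh ones. -/
def cands : ℕ → ℕ → List (List ℤ)
  | 0, b => [List.replicate b 1]
  | na + 1, 0 => (cands na 0).map (List.cons 0)
  | na + 1, b + 1 => (cands na (b + 1)).map (List.cons 0) ++
      ((cands na b).map (List.cons 1) ++ (cands na b).map (List.cons (-1)))

def okDots : List (List ℤ) → List ℤ → List ℤ → Bool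
  | u :: us, t :: ts, v => dot u v == t && okDots us ts v
  | _, _, _ => true

/-- Add one cell with prescribed inner products to the earlier ones. -/
def step (states : List (ℕ × List (List ℤ))) (t : List ℤ) : List (ℕ × List (List ℤ)) :=
  states.flatMap fun s =>
    ((cands s.1 3).filter fun v => okDots s.2 t v).map fun v => (v.length, s.2 ++ [v])

/-- The second cell must meet the first. -/
def firstPair : List (ℕ × List (List ℤ)) :=
  (step [(3, [[1, 1, 1]])] [0]).filter fun s => !(s.2 == [[1, 1, 1], [0, 0, 0, 1, 1, 1]])

/-- Targets for the cells `(0,2), (1,2), (0,3), (1,3), (0,1), (1,0)` after `(0,0), (1,1)`. -/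
def targets : List (List ℤ) :=
  [[1, 0], [0, 1, 1], [1, 0, 1, 0], [0, 1, 0, 1, 1], [1, 1, 1, 0, 1, 0], [1, 1, 0, 1, 0, 1, 0]]

theorem search_empty : targets.foldl step firstPair = [] := by decide +kernel

section Sound

variable {ι : Type*}

/-- Coefficients of `n` on a list of signed atoms. -/
def code (L : List (ι × ℤ)) (n : ι → ℤ) : List ℤ := L.map fun p => p.2 * n p.1

theorem dot_code_self_append (L M : List (ι × ℤ)) (n n' : ι → ℤ)
    (h : ∀ p ∈ M, n p.1 = 0) : dot (code L n) (code (L ++ M) n') =
      dot (code (L ++ M) n) (code (L ++ M) n') := by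
  induction L with
  | nil =>
    induction M with
    | nil => rfl
    | cons p M ih =>
      have h0 := ih fun q hq => h q (List.mem_cons_of_mem _ hq)
      simp only [List.nil_append, code, List.map_cons, List.map_nil, dot] at h0 ⊢
      rw [h p List.mem_cons_self]
      simpa using h0
  | cons p L ih => simp only [List.cons_append, code, List.map_cons, dot] at ih ⊢; rw [ih]

/-- A list of signed atoms with distinct keys. -/
def Atoms (L : List (ι × ℤ)) : Prop := (L.map Prod.fst).Nodup ∧ ∀ p ∈ L, p.2 * p.2 = 1

variable [Fintype ι] [DecidableEq ι]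

theorem dot_code (L : List (ι × ℤ)) (hL : Atoms L) (n n' : ι → ℤ)
    (hn : ∀ k, n k ≠ 0 → k ∈ L.map Prod.fst) :
    dot (code L n) (code L n') = ∑ k, n k * n' k := by
  induction L generalizing n with
  | nil =>
    rw [Finset.sum_eq_zero fun k _ => by
      by_cases h : n k = 0
      · simp [h]
      · simpa using hn k h]
    rfl
  | cons p L ih =>
    obtain ⟨hd, hs⟩ := hL
    rw [List.map_cons, List.nodup_cons] at hd
    simp only [code, List.map_cons, dot]
    let m : ι → ℤ := fun k => if k = p.1 then 0 else n k
    have hm : code L n = code L m := List.map_congr_left fun q hq => by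
      have hne : q.1 ≠ p.1 := fun e => hd.1 (e ▸ List.mem_map_of_mem hq)
      simp [m, hne]
    have := ih ⟨hd.2, fun q hq => hs q (List.mem_cons_of_mem _ hq)⟩ m fun k hk => by
      have hne : k ≠ p.1 := fun e => hk (by simp [m, e])
      have := hn k (by simpa [m, hne] using hk)
      simpa [hne] using this
    show _ + dot (code L n) (code L n') = _
    rw [hm, this, ← Finset.add_sum_erase _ _ (Finset.mem_univ p.1),
      ← Finset.add_sum_erase (f := fun k => n k * n' k) _ (Finset.mem_univ p.1)]
    have hp := hs p List.mem_cons_self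
    simp only [m, if_true, zero_mul, zero_add]
    rw [show p.2 * n p.1 * (p.2 * n' p.1) = (p.2 * p.2) * (n p.1 * n' p.1) by ring, hp, one_mul]
    congr 1
    exact Finset.sum_congr rfl fun k hk => by rw [if_neg (Finset.ne_of_mem_erase hk)]

omit [Fintype ι] [DecidableEq ι] in
theorem code_mem_cands (L : List (ι × ℤ)) (n : ι → ℤ) (f : ℕ)
    (h : ∀ p ∈ L, p.2 * n p.1 = 0 ∨ p.2 * n p.1 = 1 ∨ p.2 * n p.1 = -1) :
    code L n ++ List.replicate f 1 ∈
      cands L.length ((L.filter fun p => !(p.2 * n p.1 == 0)).length + f) := by
  induction L with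
  | nil => simp [code, cands]
  | cons p L ih =>
    have ih := ih fun q hq => h q (List.mem_cons_of_mem _ hq)
    simp only [code, List.map_cons, List.cons_append, List.length_cons]
    rcases h p List.mem_cons_self with e | e | e
    · rw [List.filter_cons_of_neg (by simp [e]), e]
      set b := (L.filter fun p => !(p.2 * n p.1 == 0)).length + f
      cases hb : b with
      | zero => rw [hb] at ih; exact List.mem_map_of_mem ih
      | succ c => rw [hb] at ih; exact List.mem_append_left _ (List.mem_map_of_mem ih)
    · rw [List.filter_cons_of_pos (by simp [e]), e, List.length_cons, Nat.add_right_comm]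
      exact List.mem_append_right _ (List.mem_append_left _ (List.mem_map_of_mem ih))
    · rw [List.filter_cons_of_pos (by simp [e]), e, List.length_cons, Nat.add_right_comm]
      exact List.mem_append_right _ (List.mem_append_right _ (List.mem_map_of_mem ih))

theorem norm_three_values {n : ι → ℤ} (h : ∑ k, n k * n k = 3) (k : ι) :
    n k = 0 ∨ n k = 1 ∨ n k = -1 := by
  have h1 : n k * n k ≤ 3 :=
    h ▸ Finset.single_le_sum (fun j _ => mul_self_nonneg (n j)) (Finset.mem_univ k)
  have : -1 ≤ n k ∧ n k ≤ 1 := ⟨by nlinarith, by nlinarith⟩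
  omega

theorem card_support_eq_three {n : ι → ℤ} (h : ∑ k, n k * n k = 3) :
    (Finset.univ.filter fun k => n k ≠ 0).card = 3 := by
  have e : ∑ k, n k * n k = ∑ k, if n k ≠ 0 then (1 : ℤ) else 0 :=
    Finset.sum_congr rfl fun k _ => by rcases norm_three_values h k with e | e | e <;> simp [e]
  rw [e, Finset.sum_boole] at h
  exact_mod_cast h

/-- The configuration `ns` is described by the state `s`. -/
def Desc (ns : List (ι → ℤ)) (s : ℕ × List (List ℤ)) : Prop :=
  ∃ L : List (ι × ℤ), Atoms L ∧ L.length = s.1 ∧ ns.length = s.2.length ∧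
    (∀ n ∈ ns, ∀ k, n k ≠ 0 → k ∈ L.map Prod.fst) ∧
    ∀ (i : ℕ) (n : ι → ℤ), ns[i]? = some n → ∃ M N : List (ι × ℤ),
      L = M ++ N ∧ s.2[i]? = some (code M n) ∧ ∀ p ∈ N, n p.1 = 0

theorem okDots_of_forall {cs : List (List ℤ)} {t v : List ℤ}
    (h : ∀ (i : ℕ) (u : List ℤ) (e : ℤ), cs[i]? = some u → t[i]? = some e → dot u v = e) : okDots cs t v = true := by
  induction cs generalizing t with
  | nil => cases t <;> rfl
  | cons u us ih =>
    cases t with
    | nil => rfl
    | cons e ts =>
      simp only [okDots, Bool.and_eq_true, beq_iff_eq]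
      exact ⟨h 0 u e rfl rfl, ih fun i u' e' h1 h2 => h (i + 1) u' e' (by simpa) (by simpa)⟩

theorem desc_step {ns : List (ι → ℤ)} {states : List (ℕ × List (List ℤ))}
    (h : ∃ s ∈ states, Desc ns s) {n : ι → ℤ} {t : List ℤ} (hn : ∑ k, n k * n k = 3)
    (ht : ∀ (i : ℕ) (m : ι → ℤ) (e : ℤ), ns[i]? = some m → t[i]? = some e → ∑ k, m k * n k = e) :
    ∃ s ∈ step states t, Desc (ns ++ [n]) s := by
  obtain ⟨s, hs, L, hL, hlen, hlen2, hsupp, hcodes⟩ := h
  classical
  let F : Finset ι := Finset.univ.filter fun k => n k ≠ 0 ∧ k ∉ L.map Prod.fst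
  let N : List (ι × ℤ) := F.toList.map fun k => (k, n k)
  have hF : ∀ k ∈ F, n k ≠ 0 ∧ k ∉ L.map Prod.fst := fun k hk => (Finset.mem_filter.mp hk).2
  have hNfst : N.map Prod.fst = F.toList := by simp [N, Function.comp_def]
  have hsq : ∀ k, n k ≠ 0 → n k * n k = 1 := fun k hk => by
    rcases norm_three_values hn k with e | e | e <;> simp_all
  have hL' : Atoms (L ++ N) := by
    refine ⟨?_, fun p hp => ?_⟩
    · rw [List.map_append, hNfst, List.nodup_append]
      exact ⟨hL.1, F.nodup_toList, fun a ha b hb e =>
        (hF b (Finset.mem_toList.mp hb)).2 (e ▸ ha)⟩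
    · rcases List.mem_append.mp hp with hp | hp
      · exact hL.2 p hp
      · obtain ⟨k, hk, rfl⟩ := List.mem_map.mp hp
        exact hsq k (hF k (Finset.mem_toList.mp hk)).1
  have hcover : ∀ k, n k ≠ 0 → k ∈ (L ++ N).map Prod.fst := fun k hk => by
    rw [List.map_append, hNfst, List.mem_append, Finset.mem_toList]
    by_cases h : k ∈ L.map Prod.fst
    · exact Or.inl h
    · exact Or.inr (Finset.mem_filter.mpr ⟨Finset.mem_univ _, hk, h⟩)
  have hcode : code (L ++ N) n = code L n ++ List.replicate F.card 1 := by
    rw [code, List.map_append]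
    congr 1
    rw [List.eq_replicate_iff]
    refine ⟨by simp [N], fun b hb => ?_⟩
    obtain ⟨p, hp, rfl⟩ := List.mem_map.mp hb
    obtain ⟨k, hk, rfl⟩ := List.mem_map.mp hp
    exact hsq k (hF k (Finset.mem_toList.mp hk)).1
  have hcount : (L.filter fun p => !(p.2 * n p.1 == 0)).length + F.card = 3 := by
    rw [← card_support_eq_three hn]
    have h1 : (L.filter fun p => !(p.2 * n p.1 == 0)).length =
        ((L.map Prod.fst).filter fun k => !(n k == 0)).length := by
      rw [List.filter_map, List.length_map]
      congr 1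
      refine List.filter_congr fun p hp => ?_
      have := hL.2 p hp
      have hp0 : p.2 ≠ 0 := fun e => by simp [e] at this
      simp [hp0]
    rw [h1, ← List.toFinset_card_of_nodup (hL.1.filter _),
      ← Finset.card_union_of_disjoint]
    · congr 1
      ext k
      simp only [Finset.mem_union, List.mem_toFinset, List.mem_filter, F, Finset.mem_filter,
        Finset.mem_univ, true_and, Bool.not_eq_true', beq_eq_false_iff_ne]
      tauto
    · rw [Finset.disjoint_left]
      intro k hk hk'
      simp only [List.mem_toFinset, List.mem_filter] at hk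
      exact (hF k hk').2 hk.1
  refine ⟨((code (L ++ N) n).length, s.2 ++ [code (L ++ N) n]), ?_, L ++ N, hL',
    by simp [code], by simp [hlen2], ?_, ?_⟩
  · refine List.mem_flatMap.mpr ⟨s, hs, List.mem_map.mpr ⟨code (L ++ N) n, ?_, rfl⟩⟩
    refine List.mem_filter.mpr ⟨?_, okDots_of_forall fun i u e hu he => ?_⟩
    · rw [hcode, ← hlen, ← hcount]
      refine code_mem_cands L n F.card fun p hp => ?_
      rcases norm_three_values hn p.1 with e | e | e <;>
        rcases Int.eq_one_or_neg_one_of_mul_eq_one (hL.2 p hp) with e' | e' <;> simp [e, e']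
    · have hi : i < ns.length := by
        rw [hlen2]; exact (List.getElem?_eq_some_iff.mp hu).1
      obtain ⟨M, M', hM, hu', hz⟩ := hcodes i _ (List.getElem?_eq_getElem hi)
      rw [hu, Option.some.injEq] at hu'
      rw [hu', hM, List.append_assoc, dot_code_self_append, ← List.append_assoc, ← hM,
        dot_code _ hL' _ _ ?_, ht i _ e (List.getElem?_eq_getElem hi) he]
      · intro k hk
        rw [List.map_append]
        exact List.mem_append_left _ (hsupp _ (List.getElem_mem hi) k hk)
      · intro p hp
        rcases List.mem_append.mp hp with hp | hp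
        · exact hz p hp
        · obtain ⟨k, hk, rfl⟩ := List.mem_map.mp hp
          by_contra h0
          exact (hF k (Finset.mem_toList.mp hk)).2 (hsupp _ (List.getElem_mem hi) k h0)
  · intro m hm k hk
    rcases List.mem_append.mp hm with hm | hm
    · rw [List.map_append]; exact List.mem_append_left _ (hsupp m hm k hk)
    · rw [List.mem_singleton] at hm; subst hm; exact hcover k hk
  · intro i m hm
    by_cases hi : i < ns.length
    · rw [List.getElem?_append_left hi] at hm
      obtain ⟨M, M', hM, hu', hz⟩ := hcodes i m hm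
      refine ⟨M, M' ++ N, by rw [hM, List.append_assoc], ?_, fun p hp => ?_⟩
      · rw [List.getElem?_append_left (hlen2 ▸ hi)]; exact hu'
      · rcases List.mem_append.mp hp with hp | hp
        · exact hz p hp
        · obtain ⟨k, hk, rfl⟩ := List.mem_map.mp hp
          by_contra h0
          exact (hF k (Finset.mem_toList.mp hk)).2
            (hsupp _ (List.mem_of_getElem? hm) k h0)
    · rw [List.getElem?_append_right (by omega)] at hm
      cases hj : i - ns.length with
      | succ j => rw [hj] at hm; simp at hm
      | zero =>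
        rw [hj] at hm
        simp only [List.getElem?_cons_zero, Option.some.injEq] at hm
        subst hm
        refine ⟨L ++ N, [], by simp, ?_, by simp⟩
        rw [List.getElem?_append_right (by omega), show i - s.2.length = 0 by omega]
        rfl

/-- Iterate `desc_step` along a list of new cells. -/
theorem desc_targets (states : List (ℕ × List (List ℤ))) (ns news : List (ι → ℤ))
    (ts : List (List ℤ)) (h : ∃ s ∈ states, Desc ns s) (hlen : news.length = ts.length)
    (h3 : ∀ n ∈ news, ∑ k, n k * n k = 3)
    (ht : ∀ (j : ℕ) (t : List ℤ) (n : ι → ℤ) (i : ℕ) (m : ι → ℤ) (e : ℤ), ts[j]? = some t →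
      news[j]? = some n → i < ns.length + j → (ns ++ news)[i]? = some m → t[i]? = some e →
      ∑ k, m k * n k = e) :
    ∃ s ∈ ts.foldl step states, Desc (ns ++ news) s := by
  induction ts generalizing states ns news with
  | nil =>
    rw [List.length_eq_zero_iff.mp hlen, List.append_nil]
    exact h
  | cons t ts ih =>
    obtain ⟨n, news, rfl⟩ := List.exists_cons_of_length_eq_add_one hlen
    have h1 := desc_step h (h3 n List.mem_cons_self) (t := t) fun i m e hm he =>
      ht 0 t n i m e rfl rfl (by
        rw [Nat.add_zero]; exact (List.getElem?_eq_some_iff.mp hm).1) (by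
        rw [List.getElem?_append_left (List.getElem?_eq_some_iff.mp hm).1]; exact hm) he
    have := ih (step states t) (ns ++ [n]) news h1 (by simpa using hlen)
      (fun m hm => h3 m (List.mem_cons_of_mem _ hm)) fun j t' n' i m e h1 h2 hi hm he =>
        ht (j + 1) t' n' i m e (by simpa using h1) (by simpa using h2)
          (by simp at hi; omega) (by simpa using hm) he
    simpa [List.foldl_cons] using this

/-- In a `2 × 4` grid, cells in different rows and columns have disjoint supports. -/
theorem no_share (v : Fin 2 → Fin 4 → ι → ℤ)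
    (hg : ∀ i j i' j', ∑ k, v i j k * v i' j' k =
      (if i = i' then 1 else 0) + (if j = j' then 1 else 0) +
        (if i = i' then 1 else 0) * (if j = j' then 1 else 0)) (k : ι) :
    v 0 0 k = 0 ∨ v 1 1 k = 0 := by
  by_contra hk
  push Not at hk
  have h3 : ∀ i j, ∑ l, v i j l * v i j l = 3 := fun i j => by rw [hg]; simp
  classical
  let S : Finset ι := Finset.univ.filter fun l => v 0 0 l ≠ 0
  let L : List (ι × ℤ) := S.toList.map fun l => (l, v 0 0 l)
  have hS : S.card = 3 := card_support_eq_three (h3 0 0)
  have hfst : L.map Prod.fst = S.toList := by simp [L, Function.comp_def]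
  have hcode : code L (v 0 0) = [1, 1, 1] := by
    show _ = List.replicate 3 (1 : ℤ)
    rw [List.eq_replicate_iff]
    refine ⟨by simp [code, L, hS], fun b hb => ?_⟩
    obtain ⟨p, hp, rfl⟩ := List.mem_map.mp hb
    obtain ⟨l, hl, rfl⟩ := List.mem_map.mp hp
    have := (Finset.mem_filter.mp (Finset.mem_toList.mp hl)).2
    rcases norm_three_values (h3 0 0) l with e | e | e <;> simp_all
  have h1 : ∃ s ∈ [(3, [[(1 : ℤ), 1, 1]])], Desc [v 0 0] s := by
    refine ⟨_, List.mem_singleton_self _, L, ⟨?_, ?_⟩, by simp [L, hS], rfl, ?_, ?_⟩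
    · rw [hfst]; exact S.nodup_toList
    · intro p hp
      obtain ⟨l, hl, rfl⟩ := List.mem_map.mp hp
      have := (Finset.mem_filter.mp (Finset.mem_toList.mp hl)).2
      rcases norm_three_values (h3 0 0) l with e | e | e <;> simp_all
    · intro n hn l hl
      rw [List.mem_singleton] at hn
      subst hn
      rw [hfst, Finset.mem_toList]
      exact Finset.mem_filter.mpr ⟨Finset.mem_univ _, hl⟩
    · intro i n hi
      match i with
      | 0 =>
        simp only [List.getElem?_cons_zero, Option.some.injEq] at hi
        subst hi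
        exact ⟨L, [], by simp, by simp [hcode], by simp⟩
      | i + 1 => simp at hi
  obtain ⟨s, hs, hd⟩ := desc_step h1 (n := v 1 1) (t := [0]) (h3 1 1) (by
    intro i m e hm he
    match i with
    | 0 =>
      simp only [List.getElem?_cons_zero, Option.some.injEq] at hm he
      subst hm he; rw [hg]; decide
    | i + 1 => simp at hm)
  have h2 : ∃ s ∈ firstPair, Desc ([v 0 0] ++ [v 1 1]) s := by
    refine ⟨s, List.mem_filter.mpr ⟨hs, ?_⟩, hd⟩
    obtain ⟨M, -, -, -, hsupp, hcodes⟩ := hd
    simp only [Bool.not_eq_eq_eq_not, Bool.not_true, beq_eq_false_iff_ne, ne_eq]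
    intro h6
    obtain ⟨A, A', hA, hA1, hA0⟩ := hcodes 0 (v 0 0) rfl
    obtain ⟨B, B', hB, hB1, -⟩ := hcodes 1 (v 1 1) rfl
    rw [h6] at hA1 hB1
    simp only [List.getElem?_cons_zero, List.getElem?_cons_succ, Option.some.injEq] at hA1 hB1
    have hAlen : A.length = 3 := by simpa [code] using congrArg List.length hA1.symm
    have hBlen : B.length = 6 := by simpa [code] using congrArg List.length hB1.symm
    obtain ⟨p, hp, hpk⟩ := List.mem_map.mp (hsupp (v 0 0) (by simp) k hk.1)
    have hpA : p ∈ A := by
      rw [hA] at hp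
      exact (List.mem_append.mp hp).resolve_right fun h => hk.1 (hpk ▸ hA0 p h)
    obtain ⟨i, hi, hip⟩ := List.getElem_of_mem hpA
    have hiB : B[i]'(by omega) = p := by
      have e : (A ++ A')[i]'(by rw [List.length_append]; omega) =
          (B ++ B')[i]'(by rw [List.length_append]; omega) := by simp [← hA, ← hB]
      rwa [List.getElem_append_left hi, List.getElem_append_left (by omega), hip, eq_comm] at e
    have hzero : p.2 * v 1 1 p.1 = 0 := by
      have e : (code B (v 1 1))[i]'(by simp [code]; omega) = 0 := by
        simp only [← hB1]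
        rcases (by omega : i = 0 ∨ i = 1 ∨ i = 2) with rfl | rfl | rfl <;> rfl
      simpa [code, hiB] using e
    obtain ⟨A₀, A₁⟩ : (A.map fun p => p.2 * v 0 0 p.1)[i]'(by simp; omega) = 1 ∧ True := by
      refine ⟨?_, trivial⟩
      simp only [show (A.map fun p => p.2 * v 0 0 p.1) = [1, 1, 1] from hA1.symm]
      rcases (by omega : i = 0 ∨ i = 1 ∨ i = 2) with rfl | rfl | rfl <;> rfl
    rw [List.getElem_map, hip] at A₀
    rcases mul_eq_zero.mp hzero with h | h
    · rw [h, zero_mul] at A₀; exact zero_ne_one A₀
    · exact hk.2 (hpk ▸ h)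
  suffices h : (∀ n ∈ [v 0 2, v 1 2, v 0 3, v 1 3, v 0 1, v 1 0], ∑ k, n k * n k = 3) ∧
      ∀ (j : ℕ) (t : List ℤ) (n : ι → ℤ) (i : ℕ) (m : ι → ℤ) (e : ℤ), targets[j]? = some t →
        [v 0 2, v 1 2, v 0 3, v 1 3, v 0 1, v 1 0][j]? = some n → i < [v 0 0, v 1 1].length + j →
        ([v 0 0, v 1 1] ++ [v 0 2, v 1 2, v 0 3, v 1 3, v 0 1, v 1 0])[i]? = some m →
        t[i]? = some e → ∑ k, m k * n k = e by
    obtain ⟨s', hs', -⟩ := desc_targets firstPair [v 0 0, v 1 1]
      [v 0 2, v 1 2, v 0 3, v 1 3, v 0 1, v 1 0] targets h2 rfl h.1 h.2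
    rw [search_empty] at hs'
    exact absurd hs' List.not_mem_nil
  refine ⟨?_, ?_⟩
  · intro n hn
    simp only [List.mem_cons, List.not_mem_nil, or_false] at hn
    rcases hn with rfl | rfl | rfl | rfl | rfl | rfl <;> exact h3 _ _
  · intro j t n i m e ht hn hi hm he
    rcases j with _ | _ | _ | _ | _ | _ | j
    all_goals simp only [targets, List.getElem?_cons_zero, List.getElem?_cons_succ, List.getElem?_nil,
      Option.some.injEq, reduceCtorEq] at ht hn
    all_goals subst ht hn
    all_goals rcases i with _ | _ | _ | _ | _ | _ | _ | i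
    all_goals simp only [List.cons_append, List.nil_append, List.getElem?_cons_zero,
      List.getElem?_cons_succ, List.getElem?_nil, Option.some.injEq, reduceCtorEq] at hm he
    all_goals (first | omega | (subst hm he; rw [hg]; decide))

end Sound

end Cfsg.Agent.OddChar.Grid
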