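import Cfsg.Agent.OddChar.CyclicExist
import Cfsg.Agent.OddChar.AbelianQuot
import Cfsg.Agent.CharDeep.Expand
import Cfsg.Agent.S1496
import Cfsg.Agent.S1510
import Cfsg.Agent.S1512

set_option autoImplicit false

/-!
Characters of `L = K ⋊ W₁` when every nonidentity element of `W₁` has centraliser `W₂` in `K`
(Peterfalvi, §4).
-/

namespace Cfsg.Agent.OddChar.PrimeTI

open Cfsg CycTI
open scoped ComplexConjugate

variable {L : Type*} [Group L] (K W₁ W₂ : Subgroup L)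

/-- The standing hypothesis. -/
structure Hyp : Prop where
  normal : K.Normal
  inf : K ⊓ W₁ = ⊥
  sup : K ⊔ W₁ = ⊤
  ne₁ : W₁ ≠ ⊥
  cyc₁ : IsCyclic W₁
  hall : Nat.Coprime (Nat.card W₁) W₁.index
  ne₂ : W₂ ≠ ⊥
  cyc₂ : IsCyclic W₂
  le : W₂ ≤ K
  cent : ∀ x ∈ W₁, x ≠ 1 → K ⊓ Subgroup.centralizer ({x} : Set L) = W₂
  odd : Odd (Nat.card ↥(W₁ ⊔ W₂))

variable {K W₁ W₂}

theorem Hyp.selfNorm [Fintype L] (h : Hyp K W₁ W₂) : IsSelfNormalizingCyclic W₁ W₂ :=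
  S1510.result (hK := h.normal) K W₁ W₂ h.inf h.sup h.ne₁ h.cyc₁ h.hall h.ne₂ h.cyc₂ h.le h.cent
    h.odd

theorem Hyp.split [Fintype L] (h : Hyp K W₁ W₂) : Split W₁ W₂ :=
  Split.of_selfNormalizing h.selfNorm

theorem Hyp.exists_factor (h : Hyp K W₁ W₂) (g : L) : ∃ k ∈ K, ∃ a ∈ W₁, k * a = g := by
  have := h.normal
  have hg : g ∈ ((K ⊔ W₁ : Subgroup L) : Set L) := by rw [h.sup]; exact Set.mem_univ g
  rw [Subgroup.coe_mul_of_right_le_normalizer_left K W₁ (by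
    rw [Subgroup.normalizer_eq_top]; exact le_top)] at hg
  obtain ⟨k, hk, a, ha, rfl⟩ := Set.mem_mul.mp hg
  exact ⟨k, hk, a, ha, rfl⟩

theorem Hyp.quotBij [K.Normal] (h : Hyp K W₁ W₂) :
    Function.Bijective ((QuotientGroup.mk' K).comp W₁.subtype) := by
  refine ⟨(injective_iff_map_eq_one _).mpr fun a ha => Subtype.ext ?_, fun q => ?_⟩
  · have : (a : L) ∈ K ⊓ W₁ := ⟨(QuotientGroup.eq_one_iff (a : L)).mp ha, a.2⟩
    rwa [h.inf, Subgroup.mem_bot] at this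
  · obtain ⟨g, rfl⟩ := QuotientGroup.mk'_surjective K q
    obtain ⟨k, hk, a, ha, rfl⟩ := h.exists_factor g
    refine ⟨⟨a, ha⟩, ?_⟩
    simp [(QuotientGroup.eq_one_iff k).mpr hk]

/-- The projection `L →* W₁`. -/
noncomputable def Hyp.proj (h : Hyp K W₁ W₂) : L →* ↥W₁ :=
  haveI := h.normal
  (MulEquiv.ofBijective _ h.quotBij).symm.toMonoidHom.comp (QuotientGroup.mk' K)

theorem Hyp.proj_mem (h : Hyp K W₁ W₂) (a : W₁) : h.proj (a : L) = a := by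
  have := h.normal
  unfold Hyp.proj
  simp only [MonoidHom.comp_apply, MulEquiv.coe_toMonoidHom, MulEquiv.symm_apply_eq]
  rfl

theorem Hyp.proj_eq_one_iff (h : Hyp K W₁ W₂) (g : L) : h.proj g = 1 ↔ g ∈ K := by
  have := h.normal
  unfold Hyp.proj
  simp only [MonoidHom.comp_apply, MulEquiv.coe_toMonoidHom]
  rw [MulEquiv.map_eq_one_iff, QuotientGroup.mk'_apply, QuotientGroup.eq_one_iff]

/-- The inflation of a character of `W₁ ⊔ W₂` restricted to `W₁`. -/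
noncomputable def Hyp.infl (h : Hyp K W₁ W₂) (φ : ↥(W₁ ⊔ W₂) →* ℂˣ) : L →* ℂˣ :=
  (φ.comp (Subgroup.inclusion le_sup_left)).comp h.proj

theorem Hyp.infl_K (h : Hyp K W₁ W₂) (φ : ↥(W₁ ⊔ W₂) →* ℂˣ) {g : L} (hg : g ∈ K) :
    h.infl φ g = 1 := by
  simp [Hyp.infl, (h.proj_eq_one_iff g).mpr hg]

theorem Hyp.infl_W (h : Hyp K W₁ W₂) {φ : ↥(W₁ ⊔ W₂) →* ℂˣ} (hφ : φ ∈ D1 W₁ W₂)
    (w : ↥(W₁ ⊔ W₂)) : h.infl φ (w : L) = φ w := by
  have : (h.infl φ).comp (W₁ ⊔ W₂).subtype = φ := by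
    refine eq_of_eq_on W₁ W₂ (fun x hx => ?_) fun x hx => ?_
    · show φ _ = φ x
      congr 1
      exact Subtype.ext (congrArg Subtype.val (h.proj_mem ⟨x, hx⟩) :)
    · rw [hφ x hx]
      exact h.infl_K φ (h.le hx)
  exact DFunLike.congr_fun this w

variable [Fintype L]

theorem Hyp.card_K (h : Hyp K W₁ W₂) : Nat.card K = W₁.index := by
  have := h.normal
  have hb := Nat.card_congr (Equiv.ofBijective _ h.quotBij)
  have h1 : Nat.card W₁ * W₁.index = Nat.card K * Nat.card (L ⧸ K) := by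
    rw [Subgroup.card_mul_index, ← Subgroup.index, Subgroup.card_mul_index]
  rw [← hb, mul_comm (Nat.card K)] at h1
  exact (Nat.eq_of_mul_eq_mul_left Nat.card_pos h1).symm

theorem Hyp.coprime (h : Hyp K W₁ W₂) : Nat.Coprime (Nat.card W₁) (Nat.card K) := by
  rw [h.card_K]; exact h.hall

theorem Hyp.index_K (h : Hyp K W₁ W₂) : K.index = Nat.card W₁ := by
  have := h.normal
  rw [Subgroup.index]
  exact (Nat.card_congr (Equiv.ofBijective _ h.quotBij)).symm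

theorem Hyp.mem_W2_of_K (h : Hyp K W₁ W₂) (w : ↥(W₁ ⊔ W₂)) (hw : (w : L) ∈ K) :
    (w : L) ∈ W₂ := by
  have hs := h.split
  rw [← pr1_eq_one_iff W₁ W₂ hs.disj hs.comm]
  refine Subtype.ext ?_
  have e := pr_mul_pr W₁ W₂ hs.disj hs.comm w
  have : (pr1 W₁ W₂ hs.disj hs.comm w : L) ∈ K ⊓ W₁ :=
    ⟨by
      rw [eq_mul_inv_of_mul_eq e.symm]
      exact K.mul_mem hw (K.inv_mem (h.le (Subtype.coe_prop _))), Subtype.coe_prop _⟩
  rwa [h.inf, Subgroup.mem_bot] at this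

/-- Every element outside `K` is conjugate into `W \ W₂`. -/
theorem Hyp.exists_conj (h : Hyp K W₁ W₂) {g : L} (hg : g ∉ K) :
    ∃ x : L, ∃ w : ↥(W₁ ⊔ W₂), (w : L) ∉ W₂ ∧ g = x⁻¹ * w * x := by
  have := h.normal
  obtain ⟨k, hk, a, ha, rfl⟩ := h.exists_factor g
  have ha1 : a ≠ 1 := fun e => hg (by simpa [e] using hk)
  obtain ⟨x, hx, c, hc, hca, he⟩ := S1496.result K a
    (by rw [Subgroup.normalizer_eq_top]; trivial)
    (h.coprime.coprime_dvd_left (Subgroup.orderOf_dvd_natCard W₁ ha)) k hk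
  have hc2 : c ∈ W₂ := by
    rw [← h.cent a ha ha1]
    exact ⟨hc, Subgroup.mem_centralizer_singleton_iff.mpr hca⟩
  refine ⟨x, ⟨c * a, Subgroup.mul_mem _ (Subgroup.mem_sup_right hc2) (Subgroup.mem_sup_left ha)⟩,
    fun hw => ?_, ?_⟩
  · exact hg (K.mul_mem hk (by simpa using K.mul_mem (K.inv_mem hc) (h.le hw)))
  · show k * a = x⁻¹ * (c * a) * x
    rw [← he]; group

/-- `W \ W₂` is a TI set with normalizer `W`. -/
theorem Hyp.mem_W_of_conj (h : Hyp K W₁ W₂) {w w' : ↥(W₁ ⊔ W₂)} (hw : (w : L) ∉ W₂) {x : L}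
    (he : x * (w : L) * x⁻¹ = w') : x ∈ W₁ ⊔ W₂ := by
  have := h.normal
  have hs := h.split
  have e := pr_mul_pr W₁ W₂ hs.disj hs.comm w
  have e' := pr_mul_pr W₁ W₂ hs.disj hs.comm w'
  have ha1 : (pr1 W₁ W₂ hs.disj hs.comm w : L) ≠ 1 := fun q =>
    hw ((pr1_eq_one_iff W₁ W₂ hs.disj hs.comm w).mp (Subtype.ext q))
  have hcop : Nat.Coprime (Nat.card W₁) (Nat.card W₂) :=
    h.coprime.coprime_dvd_right (Subgroup.card_dvd_of_le h.le)
  set a := pr1 W₁ W₂ hs.disj hs.comm w with hadef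
  set b := pr2 W₁ W₂ hs.disj hs.comm w
  set a' := pr1 W₁ W₂ hs.disj hs.comm w'
  set b' := pr2 W₁ W₂ hs.disj hs.comm w'
  have hxa : x * (a : L) * x⁻¹ = a' := conj_eq_of_coprime hcop (hs.comm _ a.2 _ b.2)
    (hs.comm _ a'.2 _ b'.2) (pow_card_eq_one_of_mem _ a.2) (pow_card_eq_one_of_mem _ b.2)
    (pow_card_eq_one_of_mem _ a'.2) (pow_card_eq_one_of_mem _ b'.2) (by rw [← e, ← e', he])
  have hcomm : ∀ u v : W₁, u * v = v * u :=
    fun u v => by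
      haveI := h.cyc₁
      exact (IsCyclic.isMulCommutative (α := ↥W₁)).is_comm.comm u v
  have haa : a' = a := by
    have := congrArg h.proj hxa
    rw [map_mul, map_mul, map_inv, h.proj_mem, h.proj_mem, hcomm (h.proj x) a,
      mul_inv_cancel_right] at this
    exact this.symm
  obtain ⟨k, hk, s, hsW, rfl⟩ := h.exists_factor x
  have hsa : s * (a : L) = a * s := congrArg Subtype.val (hcomm ⟨s, hsW⟩ a)
  refine Subgroup.mul_mem _ (Subgroup.mem_sup_right ?_) (Subgroup.mem_sup_left hsW)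
  rw [← h.cent a a.2 ha1]
  refine ⟨hk, Subgroup.mem_centralizer_singleton_iff.mpr ?_⟩
  rw [haa, mul_inv_eq_iff_eq_mul] at hxa
  calc k * (a : L) = k * (a * s) * s⁻¹ := by group
    _ = k * s * a * s⁻¹ := by rw [← hsa]; group
    _ = a * (k * s) * s⁻¹ := by rw [hxa]
    _ = a * k := by group

theorem Hyp.indFun_off (h : Hyp K W₁ W₂) (f : ↥(W₁ ⊔ W₂) → ℂ)
    (hf : ∀ w : ↥(W₁ ⊔ W₂), (w : L) ∈ W₂ → f w = 0) (w : ↥(W₁ ⊔ W₂)) (hw : (w : L) ∉ W₂) :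
    indFun (W₁ ⊔ W₂) f (w : L) = f w := by
  classical
  have hs := h.split
  rw [CharInd.indFun_apply]
  have hx : ∀ x : L, extendByZero (W₁ ⊔ W₂) f (x⁻¹ * w * x) =
      if x ∈ W₁ ⊔ W₂ then f w else 0 := by
    intro x
    split_ifs with hxW
    · have e : x⁻¹ * (w : L) * x = w := by
        have := congrArg Subtype.val (hs.mulComm w ⟨x, hxW⟩)
        simp only [Subgroup.coe_mul] at this
        rw [mul_assoc, this, inv_mul_cancel_left]
      rw [e, CharInd.extendByZero_coe]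
    · by_cases hm : x⁻¹ * (w : L) * x ∈ W₁ ⊔ W₂
      · rw [CharInd.extendByZero_mem f hm]
        refine hf ⟨_, hm⟩ ?_
        by_contra hne
        exact hxW ((Subgroup.inv_mem_iff _).mp
          (h.mem_W_of_conj hw (w' := ⟨_, hm⟩) (x := x⁻¹) (by rw [inv_inv])))
      · exact CharInd.extendByZero_notMem f hm
  rw [Finset.sum_congr rfl fun x _ => hx x, Finset.sum_ite, Finset.sum_const_zero, add_zero,
    Finset.sum_const, nsmul_eq_mul, ← Fintype.card_subtype, ← Nat.card_eq_fintype_card,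
    ← mul_assoc, inv_mul_cancel₀ (CharInd.natCard_subgroup_ne_zero _), one_mul]

theorem Hyp.indFun_on_K (h : Hyp K W₁ W₂) (f : ↥(W₁ ⊔ W₂) → ℂ)
    (hf : ∀ w : ↥(W₁ ⊔ W₂), (w : L) ∈ W₂ → f w = 0) {g : L} (hg : g ∈ K) :
    indFun (W₁ ⊔ W₂) f g = 0 := by
  have := h.normal
  rw [CharInd.indFun_apply, Finset.sum_eq_zero, mul_zero]
  intro x _
  by_cases hm : x⁻¹ * g * x ∈ W₁ ⊔ W₂
  · rw [CharInd.extendByZero_mem f hm]
    exact hf _ (h.mem_W2_of_K ⟨_, hm⟩ (by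
      simpa using Subgroup.Normal.conj_mem ‹K.Normal› g hg x⁻¹))
  · exact CharInd.extendByZero_notMem f hm

/-- The family, normalised, with all the properties of Peterfalvi (4.3). -/
structure Fam (h : Hyp K W₁ W₂) (χ : (↥(W₁ ⊔ W₂) →* ℂˣ) → (L → ℂ)) : Prop where
  fam : IsCyclicTIFamily W₁ W₂ χ
  twist : ∀ φ ∈ D1 W₁ W₂, ∀ ψ, χ (φ * ψ) = fun g => (h.infl φ g : ℂ) * χ ψ g
  on_off : ∀ ω, ∀ w : ↥(W₁ ⊔ W₂), (w : L) ∉ W₂ → χ ω w = (ω w : ℂ)

omit [Fintype L] in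
theorem signed_mul_hom [Finite L] (l : L →* ℂˣ) {θ : L → ℂ} (hθ : IsSignedIrr θ) :
    IsSignedIrr (fun g => (l g : ℂ) * θ g) := by
  rcases hθ with hθ | hθ
  · exact Or.inl (CharCore.isIrrCharacter_hom_mul l hθ)
  · refine Or.inr ?_
    have := CharCore.isIrrCharacter_hom_mul l hθ
    simpa [Pi.neg_def] using this

theorem Hyp.exists_fam (h : Hyp K W₁ W₂) : ∃ χ, Fam h χ := by
  classical
  have hW := h.selfNorm
  have hs := h.split
  obtain ⟨χ, hχ⟩ := exists_family hW h.odd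
  have htw : ∀ φ ∈ D1 W₁ W₂, ∀ ψ, χ (φ * ψ) = fun g => (h.infl φ g : ℂ) * χ ψ g := by
    intro φ hφ ψ
    refine (family_unique hW h.odd hχ (signed_mul_hom _ (hχ.irr_or_neg ψ)) (φ * ψ)
      fun w a b => ?_).symm
    rw [h.infl_W hφ, hχ.eq_on ψ w a b, MonoidHom.mul_apply, Units.val_mul]
  refine ⟨χ, hχ, htw, ?_⟩
  intro ω w hw
  by_cases hw1 : (w : L) ∈ W₁
  swap
  · exact hχ.eq_on ω w hw1 hw
  obtain ⟨φ, hφ, ψ, hψ, rfl⟩ := CycTI.exists_factor W₁ W₂ hs.disj hs.comm ω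
  rw [htw φ hφ ψ]
  suffices hψw : χ ψ (w : L) = 1 by
    show (h.infl φ (w : L) : ℂ) * χ ψ (w : L) = _
    rw [h.infl_W hφ, hψw, MonoidHom.mul_apply, hψ w hw1, Units.val_mul, Units.val_one]
  by_cases hψ1 : ψ = 1
  · rw [hψ1, hχ.map_one]
  obtain ⟨a, ha⟩ := dual_sep hs.cyc_left (mt (pr1_eq_one_iff W₁ W₂ hs.disj hs.comm w).mp hw)
  set φ₀ := (d1Equiv W₁ W₂ hs.disj hs.comm).symm a
  have hne : (φ₀.1 w : ℂ) ≠ 1 := fun e => ha (Units.ext e)
  have hφ₀ : φ₀.1 ≠ 1 := fun e => hne (by rw [e]; rfl)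
  have he := congrFun (hχ.induced_eq φ₀.1 ψ hφ₀ hψ1 φ₀.2 hψ) (w : L)
  have hz : indFun (W₁ ⊔ W₂)
      (fun v => 1 - (φ₀.1 v : ℂ) - (ψ v : ℂ) + (φ₀.1 v : ℂ) * (ψ v : ℂ)) (w : L) = 0 := by
    rw [CharInd.indFun_apply, Finset.sum_eq_zero, mul_zero]
    intro x _
    by_cases hm : x⁻¹ * (w : L) * x ∈ W₁ ⊔ W₂
    · rw [CharInd.extendByZero_mem _ hm]
      refine beta_vanish W₁ W₂ φ₀.2 hψ ⟨_, hm⟩ (Or.inl (card_pow_le hs le_sup_left hm ?_))
      have := conj_pow (a := x⁻¹) (b := (w : L)) (i := Nat.card W₁)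
      rw [inv_inv] at this
      show (x⁻¹ * (w : L) * x) ^ Nat.card W₁ = 1
      rw [this, pow_card_eq_one_of_mem _ hw1]
      group
    · exact CharInd.extendByZero_notMem _ hm
  have hφ0 : χ φ₀.1 (w : L) = (φ₀.1 w : ℂ) := by
    have := congrFun (htw φ₀.1 φ₀.2 1) (w : L)
    rw [show φ₀.1 * (1 : ↥(W₁ ⊔ W₂) →* ℂˣ) = φ₀.1 from MonoidHom.ext fun v => mul_one _,
      hχ.map_one] at this
    rw [this, mul_one]
    exact congrArg Units.val (h.infl_W φ₀.2 w)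
  have h3 : χ (φ₀.1 * ψ) (w : L) = (φ₀.1 w : ℂ) * χ ψ (w : L) := by
    rw [htw φ₀.1 φ₀.2 ψ]
    show (h.infl φ₀.1 (w : L) : ℂ) * _ = _
    rw [h.infl_W φ₀.2]
  rw [hz, hφ0, h3] at he
  have : (1 - (φ₀.1 w : ℂ)) * (1 - χ ψ (w : L)) = 0 := by linear_combination -he
  exact (sub_eq_zero.mp ((mul_eq_zero.mp this).resolve_left (sub_ne_zero.mpr (Ne.symm hne)))).symm

variable {h : Hyp K W₁ W₂} {χ : (↥(W₁ ⊔ W₂) →* ℂˣ) → (L → ℂ)}

theorem Fam.isClassFun (F : Fam h χ) (ω : ↥(W₁ ⊔ W₂) →* ℂˣ) : IsClassFunction L (χ ω) :=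
  CharCore.IsGeneralizedCharacter.isClassFunction
    (IsSignedIrr.isGeneralizedCharacter (F.fam.irr_or_neg ω))

theorem exists_d1 (h : Hyp K W₁ W₂) {ω ω' : ↥(W₁ ⊔ W₂) →* ℂˣ}
    (he : ∀ w : ↥(W₁ ⊔ W₂), (w : L) ∈ W₂ → ω w = ω' w) : ∃ φ ∈ D1 W₁ W₂, ω' = φ * ω := by
  have _ := h
  exact ⟨ω' * ω⁻¹, fun w hw => by
      show ω' w * (ω w)⁻¹ = 1
      rw [he w hw, mul_inv_cancel],
    MonoidHom.ext fun w => by
      show ω' w = ω' w * (ω w)⁻¹ * ω w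
      rw [inv_mul_cancel_right]⟩

theorem Fam.induced_sub (F : Fam h χ) {ω ω' : ↥(W₁ ⊔ W₂) →* ℂˣ}
    (he : ∀ w : ↥(W₁ ⊔ W₂), (w : L) ∈ W₂ → ω w = ω' w) :
    indFun (W₁ ⊔ W₂) (fun w => (ω w : ℂ) - (ω' w : ℂ)) = χ ω - χ ω' := by
  have hf : ∀ w : ↥(W₁ ⊔ W₂), (w : L) ∈ W₂ → (ω w : ℂ) - (ω' w : ℂ) = 0 := fun w hw => by
    rw [he w hw, sub_self]
  obtain ⟨φ, hφ, rfl⟩ := exists_d1 h he
  funext g
  by_cases hg : g ∈ K
  · rw [h.indFun_on_K _ hf hg, Pi.sub_apply, F.twist φ hφ ω]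
    simp [h.infl_K φ hg]
  · obtain ⟨x, w, hw, rfl⟩ := h.exists_conj hg
    have c1 : ∀ {f : L → ℂ}, IsClassFunction L f → f (x⁻¹ * w * x) = f w := fun {f} hf => by
      simpa using hf (w : L) x⁻¹
    rw [Pi.sub_apply, c1 (CharInd.isClassFunction_indFun _ _), c1 (F.isClassFun ω),
      c1 (F.isClassFun (φ * ω)), h.indFun_off _ hf w hw, F.on_off ω w hw,
      F.on_off (φ * ω) w hw]

theorem Fam.vanish (F : Fam h χ) {θ : L → ℂ} (hθ : IsClassFunction L θ)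
    (horth : ∀ ω, classInner θ (χ ω) = 0) (w : ↥(W₁ ⊔ W₂)) (hw : (w : L) ∉ W₂) : θ w = 0 := by
  classical
  have hs := h.split
  have hV := fun v a b => vanish_of_orth h.selfNorm F.fam hθ horth v a b
  by_cases hw1 : (w : L) ∈ W₁
  swap
  · exact hV w hw1 hw
  have := hs.finite_dual
  have : Fintype (↥(W₁ ⊔ W₂) →* ℂˣ) := Fintype.ofFinite _
  -- orthogonality to every `1 - φ`
  have hzero : ∀ φ ∈ D1 W₁ W₂, ∑ v : ↥(W₁ ⊔ W₂), θ v * conj (1 - (φ v : ℂ)) = 0 := by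
    intro φ hφ
    have he := F.induced_sub (ω := 1) (ω' := φ) fun v hv => by rw [hφ v hv]; rfl
    have e2 := congrArg (classInner θ) he
    rw [CharInd.classInner_indFun_right _ _ hθ, CharCore.classInner_sub_right, horth, horth,
      sub_self, CharCore.classInner_def, mul_eq_zero] at e2
    have e3 := e2.resolve_left (inv_ne_zero (Nat.cast_ne_zero.mpr Nat.card_pos.ne'))
    simpa using e3
  have htot : ∑ φ : ↥(D1 W₁ W₂), (φ.1 w : ℂ) * ∑ v : ↥(W₁ ⊔ W₂), θ v * conj (1 - (φ.1 v : ℂ)) = 0 :=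
    Finset.sum_eq_zero fun φ _ => by rw [hzero φ.1 φ.2, mul_zero]
  simp only [Finset.mul_sum] at htot
  rw [Finset.sum_comm] at htot
  have hterm : ∀ v : ↥(W₁ ⊔ W₂),
      ∑ φ : ↥(D1 W₁ W₂), (φ.1 w : ℂ) * (θ v * conj (1 - (φ.1 v : ℂ))) =
        if v = w then -(Nat.card ↥(D1 W₁ W₂) : ℂ) * θ w else
          - θ v * (if ((w * v⁻¹ : ↥(W₁ ⊔ W₂)) : L) ∈ W₂ then (Nat.card ↥(D1 W₁ W₂) : ℂ) else 0) := by
    intro v
    have e : ∑ φ : ↥(D1 W₁ W₂), (φ.1 w : ℂ) * (θ v * conj (1 - (φ.1 v : ℂ))) =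
        θ v * (∑ φ : ↥(D1 W₁ W₂), (φ.1 w : ℂ) - ∑ φ : ↥(D1 W₁ W₂), (φ.1 (w * v⁻¹) : ℂ)) := by
      rw [← Finset.sum_sub_distrib, Finset.mul_sum]
      refine Finset.sum_congr rfl fun φ _ => ?_
      rw [map_sub, map_one, conj_hom_apply, map_mul, Units.val_mul]
      ring
    rw [e, sum_d1_apply hs hw, zero_sub]
    have hone : ∀ z : ↥(W₁ ⊔ W₂), (z : L) ∈ W₂ →
        ∑ φ : ↥(D1 W₁ W₂), (φ.1 z : ℂ) = (Nat.card ↥(D1 W₁ W₂) : ℂ) := fun z hz => by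
      rw [Finset.sum_congr rfl (g := fun _ => (1 : ℂ)) fun φ _ => by rw [φ.2 z hz]; rfl]
      simp [Nat.card_eq_fintype_card]
    split_ifs with h1 h2
    · subst h1; rw [mul_inv_cancel, hone 1 W₂.one_mem]; ring
    · rw [hone _ h2]; ring
    · rw [sum_d1_apply hs h2]; ring
  simp only [hterm] at htot
  rw [Finset.sum_eq_single w ?_ (fun h => absurd (Finset.mem_univ _) h), if_pos rfl] at htot
  · exact (mul_eq_zero.mp htot).resolve_left (neg_ne_zero.mpr (Nat.cast_ne_zero.mpr Nat.card_pos.ne'))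
  · intro v _ hv
    rw [if_neg hv]
    split_ifs with h2
    · -- `v ∈ w W₂`, so either `v = w` or `v` lies outside both factors
      have hv2 : (v : L) ∉ W₂ := fun q => hw (by
        have := W₂.mul_mem h2 q
        simpa [mul_assoc] using this)
      have hv1 : (v : L) ∉ W₁ := fun q => hv (by
        have : ((w * v⁻¹ : ↥(W₁ ⊔ W₂)) : L) ∈ W₁ ⊓ W₂ :=
          ⟨by simpa using W₁.mul_mem hw1 (W₁.inv_mem q), h2⟩
        rw [hs.disj, Subgroup.mem_bot] at this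
        exact (mul_inv_eq_one.mp (Subtype.ext this : w * v⁻¹ = 1)).symm)
      rw [hV v hv1 hv2]; ring
    · ring

/-- Sign making `χ ω` a character. -/
noncomputable def sgn (χ : (↥(W₁ ⊔ W₂) →* ℂˣ) → (L → ℂ)) (ω : ↥(W₁ ⊔ W₂) →* ℂˣ) : ℂ :=
  haveI := Classical.propDecidable (IsIrrCharacter L (χ ω))
  if IsIrrCharacter L (χ ω) then 1 else -1

omit [Fintype L] in
theorem sgn_sq (χ : (↥(W₁ ⊔ W₂) →* ℂˣ) → (L → ℂ)) (ω : ↥(W₁ ⊔ W₂) →* ℂˣ) :
    sgn χ ω = 1 ∨ sgn χ ω = -1 := by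
  unfold sgn; split_ifs <;> simp

theorem Fam.irr_sgn (F : Fam h χ) (ω : ↥(W₁ ⊔ W₂) →* ℂˣ) :
    IsIrrCharacter L (sgn χ ω • χ ω) := by
  unfold sgn
  split_ifs with h'
  · rwa [one_smul]
  · rw [neg_smul, one_smul]; exact (F.fam.irr_or_neg ω).resolve_left h'

theorem Fam.sgn_eq (F : Fam h χ) {φ : ↥(W₁ ⊔ W₂) →* ℂˣ} (hφ : φ ∈ D1 W₁ W₂)
    (ω : ↥(W₁ ⊔ W₂) →* ℂˣ) : sgn χ (φ * ω) = sgn χ ω := by
  have h1 : IsIrrCharacter L (χ (φ * ω)) ↔ IsIrrCharacter L (χ ω) := by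
    rw [F.twist φ hφ ω]
    refine ⟨fun q => ?_, fun q => CharCore.isIrrCharacter_hom_mul _ q⟩
    have := CharCore.isIrrCharacter_hom_mul (h.infl φ)⁻¹ q
    convert this using 1
    funext g
    simp [← mul_assoc]
  unfold sgn
  by_cases q : IsIrrCharacter L (χ ω)
  · rw [if_pos q, if_pos (h1.mpr q)]
  · rw [if_neg q, if_neg (mt h1.mp q)]

theorem Fam.signed_irr_injective (F : Fam h χ) :
    Function.Injective fun ω => sgn χ ω • χ ω := by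
  classical
  intro a b e
  by_contra hne
  have h1 : classInner (sgn χ a • χ a) (sgn χ b • χ b) = 1 := by
    rw [show sgn χ a • χ a = sgn χ b • χ b from e]
    exact (CharCore.isIrrCharacter_iff.mp (F.irr_sgn b)).2
  rw [CharCore.classInner_smul_left, CharCore.classInner_smul_right, F.fam.orthonormal,
    if_neg hne] at h1
  simp at h1

theorem Fam.orth_of_ne (F : Fam h χ) {θ : L → ℂ} (hθ : IsIrrCharacter L θ)
    (hne : ∀ ω, θ ≠ sgn χ ω • χ ω) (ω : ↥(W₁ ⊔ W₂) →* ℂˣ) : classInner θ (χ ω) = 0 := by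
  have h0 := CharCore.classInner_irr_of_ne (χ := ⟨θ, hθ⟩) (ψ := ⟨_, F.irr_sgn ω⟩)
    fun e => hne ω (congrArg Subtype.val e)
  rw [CharCore.classInner_smul_right] at h0
  rcases sgn_sq χ ω with e | e <;> simpa [e] using h0

theorem Fam.degree_congr (F : Fam h χ) (ω : ↥(W₁ ⊔ W₂) →* ℂˣ) :
    ∃ n : ℤ, χ ω 1 - 1 = n * (Nat.card W₁ : ℂ) := by
  classical
  haveI := Fintype.ofFinite ↥W₁
  let ι : ↥W₁ →* ↥(W₁ ⊔ W₂) := Subgroup.inclusion le_sup_left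
  have hg1 : IsGeneralizedCharacter ↥W₁ (fun a : W₁ => χ ω a) :=
    CharCore.isGeneralized_restrict (IsSignedIrr.isGeneralizedCharacter (F.fam.irr_or_neg ω)) W₁
  have hg2 : IsGeneralizedCharacter ↥W₁ (fun a : W₁ => ((ω.comp ι) a : ℂ)) :=
    Coherence.irr_gen (CharCore.isIrrCharacter_hom _)
  have hone : IsGeneralizedCharacter ↥W₁ (fun _ => (1 : ℂ)) :=
    Coherence.irr_gen CharCore.isIrrCharacter_one
  obtain ⟨n, hn⟩ := Coherence.inner_gen_int hg1 hone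
  obtain ⟨m, hm⟩ := Coherence.inner_gen_int hg2 hone
  refine ⟨n - m, ?_⟩
  rw [CharCore.classInner_def] at hn hm
  simp only [map_one, mul_one] at hn hm
  have hW0 : (Nat.card W₁ : ℂ) ≠ 0 := Nat.cast_ne_zero.mpr Nat.card_pos.ne'
  rw [inv_mul_eq_iff_eq_mul₀ hW0] at hn hm
  have e : ∑ a : W₁, χ ω (a : L) - ∑ a : W₁, ((ω.comp ι) a : ℂ) = χ ω 1 - 1 := by
    rw [← Finset.sum_sub_distrib, Finset.sum_eq_single (1 : W₁)]
    · simp
    · intro a _ ha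
      have hw : ((ι a : ↥(W₁ ⊔ W₂)) : L) ∉ W₂ := fun q => ha (Subtype.ext (by
        have h3 : (a : L) ∈ W₁ ⊓ W₂ := ⟨a.2, q⟩
        rwa [h.split.disj, Subgroup.mem_bot] at h3))
      exact sub_eq_zero.mpr (F.on_off ω (ι a) hw)
    · simp
  rw [hn, hm] at e
  push_cast
  linear_combination -e

/-! ### Restriction to `K` -/

theorem Hyp.ind_one (h : Hyp K W₁ W₂) [Fintype ↥(D1 W₁ W₂)] :
    indFun K (fun _ => (1 : ℂ)) = ∑ φ : ↥(D1 W₁ W₂), fun g => (h.infl φ.1 g : ℂ) := by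
  have := h.normal
  have hs := h.split
  funext g
  rw [Finset.sum_apply]
  by_cases hg : g ∈ K
  · have h1 := CharDeep.Ext.indFun_coe (φ := fun _ : K => (1 : ℂ)) K (fun _ _ => rfl) ⟨g, hg⟩
    rw [h1, mul_one, Finset.sum_congr rfl fun φ _ => by rw [h.infl_K φ.1 hg, Units.val_one],
      Finset.sum_const, Finset.card_univ, ← Nat.card_eq_fintype_card, hs.card_d1, h.index_K,
      nsmul_eq_mul, mul_one]
  · rw [CharDeep.Ext.indFun_notMem K _ hg]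
    let w : ↥(W₁ ⊔ W₂) := ⟨h.proj g, Subgroup.mem_sup_left (Subtype.coe_prop _)⟩
    have hw : (w : L) ∉ W₂ := fun q => hg ((h.proj_eq_one_iff g).mp (by
      have : (h.proj g : L) ∈ K ⊓ W₁ := ⟨h.le q, Subtype.coe_prop _⟩
      rw [h.inf, Subgroup.mem_bot] at this
      exact Subtype.ext this))
    exact (sum_d1_apply hs hw).symm

theorem Fam.ind_restrict (F : Fam h χ) [Fintype ↥(D1 W₁ W₂)] (ω : ↥(W₁ ⊔ W₂) →* ℂˣ) :
    indFun K (fun k : K => (sgn χ ω • χ ω) k) =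
      ∑ φ : ↥(D1 W₁ W₂), sgn χ (φ.1 * ω) • χ (φ.1 * ω) := by
  have hcl := CharCore.IsCharacter.isClassFunction
    (CharCore.IsIrrCharacter.isCharacter (F.irr_sgn ω))
  rw [show (fun k : K => (sgn χ ω • χ ω) k) = fun k : K => (1 : ℂ) * (sgn χ ω • χ ω) k by
      funext k; rw [one_mul],
    ← CharInd.indFun_mul K (fun _ => (1 : ℂ)) hcl, h.ind_one, Finset.sum_mul]
  refine Finset.sum_congr rfl fun φ _ => ?_
  rw [F.sgn_eq φ.2, F.twist φ.1 φ.2]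
  funext g
  simp only [Pi.mul_apply, Pi.smul_apply, smul_eq_mul]
  ring

theorem Fam.restrict_irr (F : Fam h χ) [Fintype K] (ω : ↥(W₁ ⊔ W₂) →* ℂˣ) :
    IsIrrCharacter K (fun k : K => (sgn χ ω • χ ω) k) := by
  classical
  have := h.split.finite_dual
  have : Fintype (↥(W₁ ⊔ W₂) →* ℂˣ) := Fintype.ofFinite _
  set μ := sgn χ ω • χ ω
  have hμ := F.irr_sgn ω
  have hcl := CharCore.IsCharacter.isClassFunction (CharCore.IsIrrCharacter.isCharacter hμ)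
  rw [CharCore.isIrrCharacter_iff]
  refine ⟨CharCore.isCharacter_restrict (CharCore.IsIrrCharacter.isCharacter hμ) K, ?_⟩
  have e1 : classInner (fun k : K => μ k) (fun k : K => μ k) =
      classInner μ (indFun K (fun k : K => μ k)) :=
    (CharInd.classInner_indFun_right K _ hcl).symm
  have e2 := F.ind_restrict ω
  rw [e1, e2, CharCore.classInner_sum_right, Finset.sum_eq_single (1 : ↥(D1 W₁ W₂))]
  · rw [show ((1 : ↥(D1 W₁ W₂)) : ↥(W₁ ⊔ W₂) →* ℂˣ) * ω = ω from MonoidHom.ext fun v => one_mul _]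
    exact (CharCore.isIrrCharacter_iff.mp hμ).2
  · intro φ _ hne
    refine CharCore.classInner_irr_of_ne (χ := ⟨μ, hμ⟩) (ψ := ⟨_, F.irr_sgn (φ.1 * ω)⟩) fun e => ?_
    have := F.signed_irr_injective (congrArg Subtype.val e)
    exact hne (Subtype.ext (MonoidHom.ext fun v => by
      have q := DFunLike.congr_fun this v
      simpa using q.symm))
  · simp

end Cfsg.Agent.OddChar.PrimeTI
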